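import Groth.Agent.EtFound.PullConst
import Groth.Agent.EtFound.ConstStalk
import Groth.Agent.EtLC12.EtZarCompare
import Groth.Agent.BigSiteLib.EtZarCmp
import Groth.Agent.S0090
import Mathlib.FieldTheory.IsSepClosed

/-!
Sections of constant etale sheaves over irreducible etale schemes, and the cohomology of a constant sheaf on an
integral normal scheme with algebraically closed function field.
-/

set_option backward.isDefEq.respectTransparency false
set_option backward.isDefEq.respectTransparency.types false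

universe u

open CategoryTheory CategoryTheory.Limits AlgebraicGeometry Opposite

namespace Groth.Agent.HTop83

open Groth.Agent EtFound

variable {X : Scheme.{u}}

theorem bijective_of_constBy (G : EtCoh.Ab X) {T : X.Etale} [IrreducibleSpace T.left] {M : AddCommGrpCat.{u + 1}}
    (φ : M ⟶ G.obj.obj (op T)) (h : ConstBy G φ) : Function.Bijective φ := by
  classical
  refine ⟨fun m m' e => ?_, fun s => ?_⟩
  · obtain ⟨Ω, _, _, ξ, z, -⟩ := exists_algClosed_point T (genericPoint T.left)
    exact (h Ω ξ z).1 ((ConcreteCategory.comp_apply _ _ m).trans ((congrArg _ e).trans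
      (ConcreteCategory.comp_apply _ _ m').symm))
  · let O : M → Set T.left := fun m =>
      {x | ∃ (V : X.Etale) (g : V ⟶ T), x ∈ Set.range g.left.base ∧ G.obj.map g.op s = G.obj.map g.op (φ m)}
    have hO : ∀ m, IsOpen (O m) := fun m => by
      refine isOpen_iff_forall_mem_open.mpr fun x ⟨V, g, hx, e⟩ => ⟨Set.range g.left.base, ?_, ?_, hx⟩
      · rintro y hy
        exact ⟨V, g, hy, e⟩
      · haveI := etale_left g
        exact g.left.isOpenMap.isOpen_range
    have hcov : ∀ x, ∃ m, x ∈ O m := fun x => by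
      obtain ⟨Ω, _, _, ξ, z, hz⟩ := exists_algClosed_point T x
      obtain ⟨m, hm⟩ := (h Ω ξ z).2 ((Scheme.pointSmallEtale ξ).toPresheafFiber T z G.obj s)
      obtain ⟨V, g, v, hv, hg⟩ := ((Scheme.pointSmallEtale ξ).toPresheafFiber_eq_iff' T z _ _).1
        (hm.symm.trans (ConcreteCategory.comp_apply _ _ m))
      refine ⟨m, V, g, ⟨(v.left : Spec (CommRingCat.of Ω) ⟶ V.left).base (default : Spec (CommRingCat.of Ω)), ?_⟩, hg⟩
      rw [← hz, ← hv]
      exact (Scheme.Hom.comp_apply _ _ _).symm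
    have hdisj : ∀ m m' x, x ∈ O m → x ∈ O m' → m = m' := by
      intro m m' x ⟨V, g, ⟨v, hv⟩, e⟩ ⟨V', g', ⟨v', hv'⟩, e'⟩
      obtain ⟨Ω, _, _, ξ, z, hz⟩ := exists_algClosed_point T x
      obtain ⟨w, hw, -⟩ := exists_lift_point g z v (hv.trans hz.symm)
      obtain ⟨w', hw', -⟩ := exists_lift_point g' z v' (hv'.trans hz.symm)
      have key : ∀ {V : X.Etale} (g : V ⟶ T) (m : M) (w : (Scheme.pointSmallEtale ξ).fiber.obj V),
          (Scheme.pointSmallEtale ξ).fiber.map g w = z → G.obj.map g.op s = G.obj.map g.op (φ m) →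
          (φ ≫ (Scheme.pointSmallEtale ξ).toPresheafFiber T z G.obj) m =
            (Scheme.pointSmallEtale ξ).toPresheafFiber T z G.obj s := by
        intro V g m w hw e
        subst hw
        refine (ConcreteCategory.comp_apply _ _ m).trans ?_
        rw [← (Scheme.pointSmallEtale ξ).toPresheafFiber_w_apply g w G.obj (φ m), ← e,
          (Scheme.pointSmallEtale ξ).toPresheafFiber_w_apply g w G.obj s]
      exact (h Ω ξ z).1 ((key g m w hw e).trans (key g' m' w' hw' e').symm)
    obtain ⟨m, hm⟩ := hcov (genericPoint T.left)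
    refine ⟨m, eq_of_cover G _ _ ((mem_topology_iff _).2 fun x => ?_)⟩
    obtain ⟨m', hm'⟩ := hcov x
    obtain ⟨y, hy, hy'⟩ := nonempty_preirreducible_inter (hO m) (hO m') ⟨_, hm⟩ ⟨_, hm'⟩
    obtain ⟨V, g, ⟨v, hv⟩, e⟩ := (hdisj m m' y hy hy').symm ▸ hm'
    exact ⟨V, g, v, e.symm, hv⟩

variable (M : AddCommGrpCat.{u + 1})

/-- The canonical sections of a constant sheaf. -/
noncomputable def constSec (T : X.Etale) :
    M ⟶ ((constantSheaf X.smallEtaleTopology AddCommGrpCat.{u + 1}).obj M).obj.obj (op T) :=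
  (toSheafify X.smallEtaleTopology ((Functor.const X.Etaleᵒᵖ).obj M)).app (op T)

theorem constBy_constSec (T : X.Etale) :
    ConstBy ((constantSheaf X.smallEtaleTopology AddCommGrpCat.{u + 1}).obj M) (constSec M T) :=
  fun Ω _ _ ξ z =>
    Eq.mp (congrArg Function.Bijective (funext fun m => (ConcreteCategory.comp_apply (constSec M T)
      ((Scheme.pointSmallEtale ξ).toPresheafFiber T z _) m).symm))
      (toSheafify_const_germ_bijective ξ AddCommGrpCat.{u + 1} M T z)

theorem constSec_map {T T' : X.Etale} (g : T' ⟶ T) :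
    constSec M T ≫ ((constantSheaf X.smallEtaleTopology AddCommGrpCat.{u + 1}).obj M).obj.map g.op = constSec M T' := by
  refine ((toSheafify X.smallEtaleTopology ((Functor.const X.Etaleᵒᵖ).obj M)).naturality g.op).symm.trans ?_
  exact Category.id_comp _

theorem flq_resZar_const [IrreducibleSpace X] [EtZar.ZarCont X] :
    Adeq2Lib.ZarFl.Flq ((EtZar.resZar X).obj ((constantSheaf X.smallEtaleTopology AddCommGrpCat.{u + 1}).obj M)) := by
  intro V U hVU x
  by_cases hV : (V : Set X).Nonempty
  · haveI : IrreducibleSpace ((EtZar.zarToEt X).obj V).left :=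
      Subtype.irreducibleSpace ⟨hV, (IrreducibleSpace.isIrreducible_univ X).2.open_subset V.2 (Set.subset_univ _)⟩
    obtain ⟨m, hm⟩ := (bijective_of_constBy _ _ (constBy_constSec M ((EtZar.zarToEt X).obj V))).2 x
    refine ⟨constSec M ((EtZar.zarToEt X).obj U) m, ?_⟩
    rw [← hm]
    exact (ConcreteCategory.comp_apply _ _ m).symm.trans
      (ConcreteCategory.congr_hom (constSec_map M ((EtZar.zarToEt X).map (homOfLE hVU))) m)
  · exact ⟨0, Adeq2Lib.ZarFl.eq_of_coverZ _ (I := PEmpty.{1}) PEmpty.elim (fun i => i.elim)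
      (fun y hy => absurd ⟨y, hy⟩ hV) _ _ fun i => i.elim⟩

theorem subsingleton_H_const [IrreducibleSpace X]
    (hS : ∀ s : X, EtCoh.IsStrictlyHenselianLocalRing (X.presheaf.stalk s)) (i : ℕ) :
    Subsingleton (EtCoh.H X ((constantSheaf X.smallEtaleTopology AddCommGrpCat.{u + 1}).obj M) (i + 1)) := by
  haveI := EtLC12.EtZarCompare.zarCont X
  obtain ⟨e⟩ := BigSiteLib.H_etale_iso_H_zar hS ((constantSheaf X.smallEtaleTopology AddCommGrpCat.{u + 1}).obj M) (i + 1)
  haveI := Adeq2Lib.ZarFl.subsingleton_H_of_flq i _ (flq_resZar_const M (X := X))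
  exact e.injective.subsingleton

theorem card_H0_const [IrreducibleSpace X] :
    Nat.card (EtCoh.H X ((constantSheaf X.smallEtaleTopology AddCommGrpCat.{u + 1}).obj M) 0) = Nat.card M := by
  haveI : IrreducibleSpace (EtCoh.top X).left := ‹IrreducibleSpace X›
  exact Nat.card_congr ((Sheaf.H.equiv₀ ((constantSheaf X.smallEtaleTopology AddCommGrpCat.{u + 1}).obj M)
    (EtCore.topIsTerminal X)).toEquiv.trans
    (Equiv.ofBijective _ (bijective_of_constBy _ _ (constBy_constSec M (EtCoh.top X)))).symm)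

theorem exists_open_section_through (hS : ∀ s : X, EtCoh.IsStrictlyHenselianLocalRing (X.presheaf.stalk s))
    {V : Scheme.{u}} (g : V ⟶ X) [AlgebraicGeometry.Etale g] (v : V) :
    ∃ (W : X.Opens) (σ : W.toScheme ⟶ V), v ∈ Set.range σ.base ∧ σ ≫ g = W.ι := by
  let A := X.presheaf.stalk (g v)
  obtain ⟨x, hx, hx'⟩ := Scheme.Pullback.exists_preimage_pullback (f := g) (g := X.fromSpecStalk (g v)) v
    (IsLocalRing.closedPoint A) X.fromSpecStalk_closedPoint.symm
  obtain ⟨w, hw, hwx⟩ := (Hensel.strictlyHenselian_iff_exists_section A).1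
    (by obtain ⟨h1, h2⟩ := hS (g v); exact ⟨h1, h2⟩) _ (pullback.snd g (X.fromSpecStalk (g v))) inferInstance x hx'
  obtain ⟨W, hW, σ, hφ, hσ⟩ := MorLib.SFP.spread_out (𝟙 X) g (w ≫ pullback.fst g (X.fromSpecStalk (g v))) (by
    rw [Category.assoc, pullback.condition, ← Category.assoc, hw, Category.comp_id]
    exact Category.id_comp _)
  refine ⟨W, σ, ⟨W.fromSpecStalkOfMem _ hW (IsLocalRing.closedPoint A), ?_⟩, hσ.trans (Category.comp_id _)⟩
  rw [← Scheme.Hom.comp_apply, ← hφ, Scheme.Hom.comp_apply]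
  exact (congrArg _ hwx).trans hx

theorem isIso_unit_const [IrreducibleSpace X]
    (hS : ∀ s : X, EtCoh.IsStrictlyHenselianLocalRing (X.presheaf.stalk s)) {U : Scheme.{u}} (j : U ⟶ X)
    [IsOpenImmersion j] [Nonempty U] :
    IsIso ((EtCoh.pullPushAdj j).unit.app ((constantSheaf X.smallEtaleTopology AddCommGrpCat.{u + 1}).obj M)) := by
  let F := (constantSheaf X.smallEtaleTopology AddCommGrpCat.{u + 1}).obj M
  let η := (EtCoh.pullPushAdj j).unit.app F
  have key : ∀ (W : X.Opens), (W : Set X).Nonempty →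
      Function.Bijective (η.hom.app (op ((EtZar.zarToEt X).obj W))) := by
    intro W hW
    let T := (EtZar.zarToEt X).obj W
    haveI : IrreducibleSpace T.left :=
      Subtype.irreducibleSpace ⟨hW, (IrreducibleSpace.isIrreducible_univ X).2.open_subset W.2 (Set.subset_univ _)⟩
    haveI : Nonempty ((EtCoh.bc j).obj T).left := by
      obtain ⟨x, hx, u, hu⟩ := nonempty_preirreducible_inter W.2 j.isOpenEmbedding.isOpen_range hW
        (Set.range_nonempty j.base)
      obtain ⟨z, -, -⟩ := Scheme.Pullback.exists_preimage_pullback (f := W.ι) (g := j) ⟨x, hx⟩ u hu.symm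
      exact ⟨z⟩
    haveI : IrreducibleSpace ((EtCoh.bc j).obj T).left := by
      let p := pullback.fst W.ι j
      haveI : Nonempty ↥(pullback W.ι j) := ‹Nonempty ((EtCoh.bc j).obj T).left›
      exact { isPreirreducible_univ := by
                have := ((IrreducibleSpace.isIrreducible_univ T.left).2.preimage p.isOpenEmbedding)
                exact this
              toNonempty := ‹_› }
    have hb := bijective_of_constBy _ _ (constBy_pull j (constBy_constSec M T))
    have hb' : Function.Bijective (η.hom.app (op T) ∘ constSec M T) :=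
      ⟨fun m m' e => hb.1 ((ConcreteCategory.comp_apply _ _ m).trans (e.trans (ConcreteCategory.comp_apply _ _ m').symm)),
        fun y => ⟨(hb.2 y).choose, (ConcreteCategory.comp_apply _ _ _).symm.trans (hb.2 y).choose_spec⟩⟩
    exact (Function.Bijective.of_comp_iff _ (bijective_of_constBy _ _ (constBy_constSec M T))).1 hb'
  refine isIso_of_stalks η fun Ω _ _ ξ => ?_
  have cofinal : ∀ (V : X.Etale) (v : (Scheme.pointSmallEtale ξ).fiber.obj V),
      ∃ (W : X.Opens) (g : (EtZar.zarToEt X).obj W ⟶ V) (w : (Scheme.pointSmallEtale ξ).fiber.obj ((EtZar.zarToEt X).obj W)),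
        (W : Set X).Nonempty ∧ (Scheme.pointSmallEtale ξ).fiber.map g w = v := by
    intro V v
    haveI : AlgebraicGeometry.Etale V.hom := V.prop
    let v0 := (v.left : Spec (CommRingCat.of Ω) ⟶ V.left).base (default : Spec (CommRingCat.of Ω))
    obtain ⟨W₀, σ, ⟨y, hy⟩, hσ⟩ := exists_open_section_through hS V.hom v0
    let g : (EtZar.zarToEt X).obj W₀ ⟶ V := MorphismProperty.Over.homMk σ hσ
    obtain ⟨w, hw, -⟩ := exists_lift_point g v y hy
    exact ⟨W₀, g, w, ⟨y.1, y.2⟩, hw⟩
  refine ⟨fun p q e => ?_, fun p => ?_⟩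
  · let Φ := Scheme.pointSmallEtale ξ
    obtain ⟨V, v, a, b, rfl, rfl⟩ := Φ.toPresheafFiber_jointly_surjective₂ p q
    obtain ⟨V₁, g₁, v₁, hv₁, he⟩ := (Φ.toPresheafFiber_eq_iff' _ _ _ _).1
      ((Φ.toPresheafFiber_naturality_apply η.hom V v a).symm.trans
        (e.trans (Φ.toPresheafFiber_naturality_apply η.hom V v b)))
    obtain ⟨W, g, w, hW, hw⟩ := cofinal V₁ v₁
    subst hw
    subst hv₁
    refine (Φ.toPresheafFiber_eq_iff' _ _ _ _).2 ⟨_, g ≫ g₁, w, Functor.map_comp_apply _ _ _ _, (key W hW).1 ?_⟩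
    have he' := congrArg (((EtCoh.pull j ⋙ EtCoh.push j).obj F).obj.map g.op) he
    rw [← Functor.map_comp_apply, ← Functor.map_comp_apply, ← op_comp] at he'
    exact (NatTrans.naturality_apply η.hom _ a).trans (he'.trans (NatTrans.naturality_apply η.hom _ b).symm)
  · let Φ := Scheme.pointSmallEtale ξ
    obtain ⟨V, v, t, rfl⟩ := Φ.toPresheafFiber_jointly_surjective p
    obtain ⟨W, g, w, hW, hw⟩ := cofinal V v
    obtain ⟨a, ha⟩ := (key W hW).2 (((EtCoh.pull j ⋙ EtCoh.push j).obj F).obj.map g.op t)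
    refine ⟨Φ.toPresheafFiber _ w F.obj a, ?_⟩
    refine (Φ.toPresheafFiber_naturality_apply η.hom _ w a).trans ?_
    rw [ha, Φ.toPresheafFiber_w_apply g w _ t, hw]

end Groth.Agent.HTop83
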