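import Groth.Agent.HTop83.LiftAlg
import Groth.Agent.HTopCov.DVR
import Groth.Agent.HTopCov.Misc
import Groth.Agent.HTopCov.Spec
import Mathlib.RingTheory.PowerSeries.Inverse
import Mathlib.RingTheory.FiniteType

/-!
Over a Noetherian base the lifting of discrete valuation rings gives the lifting of all valuation rings.
-/

set_option backward.isDefEq.respectTransparency false
set_option backward.isDefEq.respectTransparency.types false

universe w u

namespace Groth.Agent.HTop83

open CategoryTheory CategoryTheory.Limits AlgebraicGeometry IsLocalRing TensorProduct HTop HTopCov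

variable {X S : Scheme.{u}}

/-- Discrete valuation rings of `S` lift, after a surjective extension, to `X`. -/
def HasDVRLift (f : X ⟶ S) : Prop :=
  ∀ (R : CommRingCat.{u}) [IsDomain R] [IsDiscreteValuationRing R] (g : Spec R ⟶ S),
    ∃ (W : CommRingCat.{u}) (_ : IsLocalRing W) (_ : IsDomain W) (φ : R ⟶ W) (l : Spec W ⟶ X),
      Function.Injective φ.hom ∧ IsLocalHom φ.hom ∧ l ≫ f = Spec.map φ ≫ g

theorem exists_dvr_of_le {C : Type u} [CommRing C] [IsNoetherianRing C] (q p : Ideal C) [q.IsPrime] [p.IsPrime]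
    (h : q ≤ p) :
    ∃ (R : CommRingCat.{u}) (_ : IsDomain R) (_ : IsDiscreteValuationRing R) (χ : C →+* R),
      RingHom.ker χ = q ∧ (maximalIdeal R).comap χ = p := by
  rcases eq_or_ne q p with rfl | hne
  · refine ⟨CommRingCat.of (PowerSeries q.ResidueField), inferInstance, inferInstance,
      PowerSeries.C.comp (algebraMap C q.ResidueField), ?_, ?_⟩
    · ext x
      rw [RingHom.mem_ker, RingHom.comp_apply, map_eq_zero_iff _ PowerSeries.C_injective,
        Ideal.algebraMap_residueField_eq_zero]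
    · ext x
      rw [Ideal.mem_comap, IsLocalRing.mem_maximalIdeal, mem_nonunits_iff, RingHom.comp_apply,
        PowerSeries.isUnit_iff_constantCoeff, PowerSeries.constantCoeff_C, isUnit_iff_ne_zero, not_not,
        Ideal.algebraMap_residueField_eq_zero]
  · let Z : Scheme.{u} := Spec (CommRingCat.of C)
    haveI : IsLocallyNoetherian Z := inferInstanceAs (IsLocallyNoetherian (Spec _))
    let z' : Z := (⟨q, inferInstance⟩ : PrimeSpectrum C)
    let z : Z := (⟨p, inferInstance⟩ : PrimeSpectrum C)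
    have hsp : z' ⤳ z := (PrimeSpectrum.le_iff_specializes (⟨q, _⟩ : PrimeSpectrum C) ⟨p, _⟩).mp h
    obtain ⟨R, g, hR, hg, hgen⟩ := Groth.Agent.S4450.result (𝟙 Z) z' z hsp fun e => hne
      (congrArg PrimeSpectrum.asIdeal (show (⟨p, _⟩ : PrimeSpectrum C) = ⟨q, _⟩ from e)).symm
    haveI : IsDiscreteValuationRing (CommRingCat.of R) := hR
    refine ⟨CommRingCat.of R, inferInstance, inferInstance, (Spec.preimage g).hom, ?_, ?_⟩
    · let s : PrimeSpectrum (Z.residueField z') := ⊥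
      have e' : (Spec.map (CommRingCat.ofHom R.subtype)) s = (⊥ : PrimeSpectrum R) :=
        PrimeSpectrum.ext ((RingHom.injective_iff_ker_eq_bot R.subtype).mp Subtype.val_injective)
      have h0 : g (⊥ : PrimeSpectrum R) = z' := by
        rw [← e', ← Scheme.Hom.comp_apply, hgen, Category.comp_id]
        exact Scheme.fromSpecResidueField_apply _ _
      rw [← Spec.map_preimage g] at h0
      exact congrArg PrimeSpectrum.asIdeal h0
    · rw [← Spec.map_preimage g] at hg
      exact congrArg PrimeSpectrum.asIdeal hg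

theorem hasValLift_of_hasDVRLift [IsLocallyNoetherian S] (f : X ⟶ S) [QuasiCompact f] (hf : HasDVRLift f) :
    HasValLift (PreZeroHypercover.singleton.{w} f) := by
  intro V _ _ g
  obtain ⟨U, hU, hgU, -⟩ := exists_isAffineOpen_mem_and_subset (U := ⊤) (x := g (closedPoint V)) trivial
  obtain ⟨g₀, hg₀⟩ := exists_lift_of_closedPoint U.ι g ⟨⟨_, hgU⟩, rfl⟩
  haveI : IsNoetherianRing Γ(S, U) := IsLocallyNoetherian.component_noetherian ⟨U, hU⟩
  letI : Algebra Γ(S, U) V := (Spec.preimage (g₀ ≫ hU.isoSpec.hom)).hom.toAlgebra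
  have hg : Spec.map (CommRingCat.ofHom (algebraMap Γ(S, U) V)) ≫ hU.fromSpec = g := by
    rw [RingHom.algebraMap_toAlgebra, CommRingCat.ofHom_hom, Spec.map_preimage, Category.assoc]
    change g₀ ≫ hU.isoSpec.hom ≫ hU.isoSpec.inv ≫ U.ι = g
    rw [Iso.hom_inv_id_assoc, hg₀]
  -- a finite affine cover of the preimage of `U`
  obtain ⟨s, hsfin, hs⟩ := (isCompact_and_isOpen_iff_finite_and_eq_biUnion_affineOpens (U := (f ⁻¹ᵁ U : Set X))).mp
    ⟨QuasiCompact.isCompact_preimage (f := f) _ U.2 hU.isCompact, (f ⁻¹ᵁ U).2⟩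
  haveI : Finite s := hsfin
  have hle : ∀ W : s, W.1.1 ≤ f ⁻¹ᵁ U := fun W x hx => by
    change x ∈ (f ⁻¹ᵁ U : Set X)
    rw [hs]
    exact Set.mem_biUnion W.2 hx
  letI : ∀ W : s, Algebra Γ(S, U) Γ(X, W.1.1) := fun W => (f.appLE U W.1.1 (hle W)).hom.toAlgebra
  have hsq : ∀ W : s, W.1.2.fromSpec ≫ f =
      Spec.map (CommRingCat.ofHom (algebraMap Γ(S, U) Γ(X, W.1.1))) ≫ hU.fromSpec := fun W =>
    (IsAffineOpen.SpecMap_appLE_fromSpec f hU W.1.2 (hle W)).symm
  obtain ⟨W, Q, P, hQ, hP, hQP, hQq, hPp⟩ := exists_le_lift (A := Γ(S, U)) (fun W : s => Γ(X, W.1.1))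
    (⊥ : Ideal V) (maximalIdeal V) fun C hC => by
    haveI : Algebra.FiniteType Γ(S, U) C := (Subalgebra.fg_iff_finiteType C).mp hC
    haveI : IsNoetherianRing C := Algebra.FiniteType.isNoetherianRing Γ(S, U) C
    obtain ⟨R, _, _, χ, hχ0, hχ1⟩ := exists_dvr_of_le ((⊥ : Ideal V).comap C.val)
      ((maximalIdeal V).comap C.val) (Ideal.comap_mono bot_le)
    obtain ⟨T, _, _, φ, l, hφi, hφl, hl⟩ := hf R
      (Spec.map (CommRingCat.ofHom (χ.comp (algebraMap Γ(S, U) C))) ≫ hU.fromSpec)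
    have hlU : l (closedPoint T) ∈ f ⁻¹ᵁ U := by
      change f (l (closedPoint T)) ∈ U
      rw [← Scheme.Hom.comp_apply, hl, ← Category.assoc, Scheme.Hom.comp_apply]
      exact hU.range_fromSpec.subset (Set.mem_range_self _)
    have hlU' : l (closedPoint T) ∈ (f ⁻¹ᵁ U : Set X) := hlU
    rw [hs] at hlU'
    obtain ⟨W, hW, hlW⟩ := Set.mem_iUnion₂.mp hlU'
    let W' : s := ⟨W, hW⟩
    obtain ⟨l', hl'⟩ := exists_lift_of_closedPoint W'.1.2.fromSpec l
      (W'.1.2.range_fromSpec.symm.subset hlW)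
    let β : Γ(X, W'.1.1) →+* T := (Spec.preimage l').hom
    have hβ : β.comp (algebraMap Γ(S, U) Γ(X, W'.1.1)) = φ.hom.comp (χ.comp (algebraMap Γ(S, U) C)) := by
      have e : Spec.map (CommRingCat.ofHom (algebraMap Γ(S, U) Γ(X, W'.1.1)) ≫ Spec.preimage l') =
          Spec.map (CommRingCat.ofHom (χ.comp (algebraMap Γ(S, U) C)) ≫ φ) := by
        rw [← cancel_mono hU.fromSpec, Spec.map_comp, Spec.map_comp, Category.assoc, Category.assoc,
          ← hsq W', ← Category.assoc, Spec.map_preimage, hl', hl]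
      exact congrArg CommRingCat.Hom.hom (Spec.map_injective e)
    obtain ⟨Φ, hΦ⟩ := exists_ringHom_lift (A := Γ(S, U)) β (φ.hom.comp χ) fun r => RingHom.congr_fun hβ r
    have hincl : ∀ c : C, Φ ((Algebra.TensorProduct.includeRight :
        C →ₐ[Γ(S, U)] Γ(X, W'.1.1) ⊗[Γ(S, U)] C) c) = φ.hom (χ c) := fun c => by
      rw [Algebra.TensorProduct.includeRight_apply, hΦ, map_one, one_mul, RingHom.comp_apply]
    refine ⟨W', RingHom.ker Φ, (maximalIdeal T).comap Φ, RingHom.ker_isPrime _, inferInstance, fun x hx => ?_, ?_, ?_⟩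
    · rw [Ideal.mem_comap, (RingHom.mem_ker (f := Φ)).mp hx]
      exact zero_mem _
    · ext c
      rw [Ideal.mem_comap, RingHom.mem_ker, hincl, map_eq_zero_iff _ hφi, ← hχ0, RingHom.mem_ker]
    · ext c
      haveI := hφl
      rw [Ideal.mem_comap, Ideal.mem_comap, hincl, ← hχ1, Ideal.mem_comap,
        ← IsLocalRing.maximalIdeal_comap φ.hom, Ideal.mem_comap]
  let B := Γ(X, W.1.1) ⊗[Γ(S, U)] V
  let inl : CommRingCat.of Γ(X, W.1.1) ⟶ CommRingCat.of B :=
    CommRingCat.ofHom Algebra.TensorProduct.includeLeftRingHom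
  let inr : V ⟶ CommRingCat.of B :=
    CommRingCat.ofHom (Algebra.TensorProduct.includeRight : V →ₐ[Γ(S, U)] B).toRingHom
  let π : Spec (CommRingCat.of B) ⟶ Spec V := Spec.map inr
  let w' : Spec (CommRingCat.of B) := (⟨Q, hQ⟩ : PrimeSpectrum B)
  let w : Spec (CommRingCat.of B) := (⟨P, hP⟩ : PrimeSpectrum B)
  obtain ⟨T, hT, hT', φ, l, hφ, hl, -⟩ := exists_ext_of_points π (q := w') (p := w)
    ((PrimeSpectrum.le_iff_specializes (⟨Q, hQ⟩ : PrimeSpectrum B) ⟨P, hP⟩).mp hQP)
    (PrimeSpectrum.ext hQq) (PrimeSpectrum.ext hPp)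
  refine ⟨T, hT, hT', φ, hφ, PUnit.unit, l ≫ Spec.map inl ≫ W.1.2.fromSpec, ?_⟩
  change (l ≫ Spec.map inl ≫ W.1.2.fromSpec) ≫ f = _
  rw [Category.assoc, Category.assoc, hsq W, ← Category.assoc (Spec.map inl), ← Spec.map_comp,
    show CommRingCat.ofHom (algebraMap Γ(S, U) Γ(X, W.1.1)) ≫ inl =
      CommRingCat.ofHom (algebraMap Γ(S, U) V) ≫ inr from
      CommRingCat.hom_ext Algebra.TensorProduct.includeLeftRingHom_comp_algebraMap,
    Spec.map_comp, Category.assoc, hg, ← Category.assoc, hl]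

/-- A morphism through which a universally submersive morphism factors is universally submersive. -/
theorem univSubmersive_of_comp {X' : Scheme.{u}} (k : X' ⟶ X) (f : X ⟶ S) (h : SGA1.UnivSubmersive (k ≫ f)) :
    SGA1.UnivSubmersive f := by
  intro P S' t b p hsq
  have hp := h _ _ _ (IsPullback.paste_horiz (IsPullback.of_hasPullback k t).flip hsq).flip.flip
  exact Topology.IsQuotientMap.of_comp (pullback.snd k t).continuous p.continuous hp

theorem hasDVRLift_of_univSubmersive (f : X ⟶ S) (hf : SGA1.UnivSubmersive f) : HasDVRLift f := by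
  intro R _ _ g
  obtain ⟨q, p, hqp, hq, hp⟩ := exists_specializes_of_isQuotientMap (pullback.fst g f)
    (hf _ _ _ (IsPullback.of_hasPullback g f))
  obtain ⟨W, hW, hW', φ, l, hφ, hl, -⟩ := exists_ext_of_points (pullback.fst g f) hqp hq hp
  exact ⟨W, inferInstance, hW, φ, l ≫ pullback.snd g f, hφ.1, hφ.2,
    by rw [Category.assoc, ← pullback.condition, ← Category.assoc, hl]⟩

theorem univSubmersive_of_hasValLift (f : X ⟶ S) [QuasiCompact f]
    (hf : HasValLift (PreZeroHypercover.singleton.{u} f)) : SGA1.UnivSubmersive f := by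
  have h := univSubmersive_sigmaDesc _ (isVCover_of_hasValLift f hf)
  let k : ∐ (PreZeroHypercover.singleton.{u} f).X ⟶ X := Sigma.desc fun _ => 𝟙 X
  have e : k ≫ f = Sigma.desc (PreZeroHypercover.singleton.{u} f).f := Sigma.hom_ext _ _ fun j => by
    rw [← Category.assoc, Sigma.ι_desc, Sigma.ι_desc]
    exact Category.id_comp f
  exact univSubmersive_of_comp k f (e ▸ h)

theorem quasiCompact_sigmaDesc {ι : Type u} [Finite ι] {Y : ι → Scheme.{u}} (f : ∀ i, Y i ⟶ S)
    [∀ i, QuasiCompact (f i)] : QuasiCompact (Sigma.desc f) := by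
  rw [quasiCompact_iff]
  intro U hU hc
  have e : Sigma.desc f ⁻¹' U = ⋃ i, Sigma.ι Y i '' (f i ⁻¹' U) := by
    ext z
    obtain ⟨i, y, rfl⟩ := (sigmaOpenCover Y).exists_eq z
    change Sigma.desc f (Sigma.ι Y i y) ∈ U ↔ Sigma.ι Y i y ∈ _
    rw [← Scheme.Hom.comp_apply, Sigma.ι_desc]
    refine ⟨fun h => Set.mem_iUnion.mpr ⟨i, y, h, rfl⟩, fun h => ?_⟩
    obtain ⟨j, y', hy', he⟩ := Set.mem_iUnion.mp h
    rw [← Sigma.ι_desc f j] at hy'
    change Sigma.desc f (Sigma.ι Y j y') ∈ U at hy'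
    rw [← Sigma.ι_desc f i, Scheme.Hom.comp_apply, ← he]
    exact hy'
  rw [e]
  exact isCompact_iUnion fun i => (QuasiCompact.isCompact_preimage _ hU hc).image (Sigma.ι Y i).continuous

theorem locallyOfFinitePresentation_of_locallyOfFiniteType [IsLocallyNoetherian S] (f : X ⟶ S)
    [LocallyOfFiniteType f] : LocallyOfFinitePresentation f := by
  refine ⟨fun {U} hU {V} hV e => ?_⟩
  haveI : IsNoetherianRing Γ(S, U) := IsLocallyNoetherian.component_noetherian ⟨U, hU⟩
  exact RingHom.FinitePresentation.of_finiteType.mp (LocallyOfFiniteType.finiteType_appLE f hU hV e)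

theorem locallyOfFiniteType_sigmaDesc {ι : Type u} {Y : ι → Scheme.{u}} (f : ∀ i, Y i ⟶ S)
    [∀ i, LocallyOfFiniteType (f i)] : LocallyOfFiniteType (Sigma.desc f) :=
  IsZariskiLocalAtSource.sigmaDesc (P := @LocallyOfFiniteType) fun _ => inferInstance

end Groth.Agent.HTop83
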