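import Groth.Agent.HTop83.PhSheaf
import Groth.Agent.HTop83.Noeth
import Groth.Agent.HTopCov.AlmostBlowUp
import Groth.Agent.BlowUpX.Basic
import Groth.Agent.BlowUpLib.Glue
import Groth.Agent.MorLib.IdealFG3
import Groth.Agent.MorLib.EventuallyCIStr
import Groth.Agent.LimMor.RelLimit

/-!
# Existence and domination of almost blow up squares
-/

set_option autoImplicit false
set_option backward.isDefEq.respectTransparency false
set_option backward.isDefEq.respectTransparency.types false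

universe u

noncomputable section

namespace Groth.Agent.HTop83

open CategoryTheory CategoryTheory.Limits AlgebraicGeometry Opposite HTop
open Scheme (IdealSheafData)

variable {Z X : Scheme.{u}}

/-- A closed subscheme of finite presentation comes from a Noetherian scheme. -/
theorem exists_noetherian_centre [CompactSpace X] [QuasiSeparatedSpace X] (i : Z ⟶ X) [IsClosedImmersion i]
    [LocallyOfFinitePresentation i] :
    ∃ (T : Scheme.{u}) (_ : AlgebraicGeometry.IsNoetherian T) (g : X ⟶ T) (K : T.IdealSheafData),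
      K.comap g = i.ker := by
  obtain ⟨T, s, hT, hs⟩ := LimMor.exists_affine_toFTZ X
  haveI := hT.isNoetherian
  haveI := hs
  obtain ⟨I, _, hdir, _, D, c, hc, hD, ⟨e⟩⟩ := LimMor.exists_isLimit_affine_fp s
  haveI : IsDirectedOrder I := hdir
  haveI : IsConnected Iᵒᵖ := IsCofiltered.isConnected _
  let F := D ⋙ Over.forget T
  let cF : Cone F := (Over.forget T).mapCone c
  have hcF : IsLimit cF := isLimitOfPreserves (Over.forget T) hc
  haveI hA : ∀ {i j : Iᵒᵖ} (a : i ⟶ j), IsAffineHom (F.map a) := by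
    intro i j a
    haveI := (hD i).1
    haveI := (hD j).1
    haveI : IsAffineHom ((D.map a).left ≫ (D.obj j).hom) := by rw [Over.w]; infer_instance
    exact IsAffineHom.of_comp (D.map a).left (D.obj j).hom
  haveI : ∀ k, CompactSpace (F.obj k) := fun k => by
    haveI := (hD k).1
    exact QuasiCompact.compactSpace_of_compactSpace (D.obj k).hom
  haveI : ∀ k, QuasiSeparatedSpace (F.obj k) := fun k => by
    haveI := (hD k).1
    exact quasiSeparatedSpace_of_quasiSeparated (D.obj k).hom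
  let k₀ : Iᵒᵖ := op (Classical.arbitrary I)
  obtain ⟨k, -, K, -, hK⟩ := MorLib.IdealFG.exists_comap_eq hcF k₀ (i.ker.comap e.hom.left)
    (MorLib.IdealFG.isFG_comap (isFiniteTypeIdeal_ker i) _)
  haveI := (hD k).1
  haveI := (hD k).2
  haveI : IsLocallyNoetherian (F.obj k) := LocallyOfFiniteType.isLocallyNoetherian (D.obj k).hom
  haveI : AlgebraicGeometry.IsNoetherian (F.obj k) := ⟨⟩
  refine ⟨F.obj k, inferInstance, e.inv.left ≫ cF.π.app k, K, ?_⟩
  rw [IdealSheafData.comap_comp, hK, ← IdealSheafData.comap_comp, ← Over.comp_left, e.inv_hom_id]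
  exact IdealSheafData.comap_id _

/-- Every centre of finite presentation has an almost blow up square. -/
theorem exists_almostBlowUpSquare [CompactSpace X] [QuasiSeparatedSpace X] (i : Z ⟶ X) [IsClosedImmersion i]
    [LocallyOfFinitePresentation i] :
    ∃ (E X' : Scheme.{u}) (e : E ⟶ X') (π : E ⟶ Z) (b : X' ⟶ X), IsAlmostBlowUpSquare e π b i := by
  obtain ⟨T, hT, g, K, hK⟩ := exists_noetherian_centre i
  haveI := hT
  obtain ⟨T', b, hb⟩ := BlowUpLib.exists_blowUp K
  haveI : IsProper b := BlowUpLib.isProper_of_isBlowUp K hb fun U => by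
    haveI : IsNoetherianRing Γ(T, U.1) := IsLocallyNoetherian.component_noetherian U
    exact IsNoetherian.noetherian _
  haveI := locallyOfFinitePresentation_of_locallyOfFiniteType b
  haveI := locallyOfFinitePresentation_of_locallyOfFiniteType K.subschemeι
  have hk : K.subschemeι.ker = K := IdealSheafData.ker_subschemeι K
  have hsq : IsAlmostBlowUpSquare (pullback.fst b K.subschemeι) (pullback.snd b K.subschemeι) b K.subschemeι := by
    refine ⟨inferInstance, inferInstance, IsPullback.of_hasPullback _ _, ?_, inferInstance, inferInstance, ?_⟩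
    · rw [hk]; exact HTopCov.isLocPrincipal_of_isEffCartier hb.1
    · rw [hk]
      have h0 : supportedOn (K.comap b) = ⊥ := HTopCov.supportedOn_eq_bot hb.1
      haveI : IsIso (supportedOn (K.comap b)).subschemeι := by rw [h0]; infer_instance
      exact BlowUpLib.isBlowUp_iso_comp _ hb
  have hle : K.subschemeι.ker ≤ (i ≫ g).ker := by
    rw [hk, Scheme.Hom.ker_comp, IdealSheafData.le_map_iff_comap_le, hK]
  let gZ : Z ⟶ K.subscheme := IsClosedImmersion.lift K.subschemeι (i ≫ g) hle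
  have hw : i ≫ g = gZ ≫ K.subschemeι := (IsClosedImmersion.lift_fac _ _ _).symm
  have hZ : IsPullback gZ i K.subschemeι g :=
    (AlgebraicGeometry.isPullback_of_isClosedImmersion i K.subschemeι gZ g hw (by rw [hk, hK])).flip
  let gX := pullback.fst b g
  let b₁ := pullback.snd b g
  let e₁ := pullback.snd (pullback.fst b K.subschemeι) gX
  let π₁ : pullback (pullback.fst b K.subschemeι) gX ⟶ Z :=
    hZ.lift (pullback.fst _ _ ≫ pullback.snd b K.subschemeι) (e₁ ≫ b₁) (by
      simp only [Category.assoc, e₁, b₁, gX]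
      rw [← pullback.condition, ← pullback.condition, ← Category.assoc, pullback.condition, Category.assoc])
  exact ⟨_, _, e₁, π₁, b₁, HTopCov.isAlmostBlowUpSquare_baseChange hsq g (IsPullback.of_hasPullback b g) hZ
    (IsPullback.of_hasPullback _ _) (hZ.lift_snd _ _ _)⟩

/-- Two almost blow up squares with the same centre are dominated by a third one. -/
theorem exists_almostBlowUpSquare_dominating {E₁ X₁ E₂ X₂ : Scheme.{u}} [CompactSpace X] [QuasiSeparatedSpace X]
    (i : Z ⟶ X) {e₁ : E₁ ⟶ X₁} {π₁ : E₁ ⟶ Z} {b₁ : X₁ ⟶ X} (h₁ : IsAlmostBlowUpSquare e₁ π₁ b₁ i)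
    {e₂ : E₂ ⟶ X₂} {π₂ : E₂ ⟶ Z} {b₂ : X₂ ⟶ X} (h₂ : IsAlmostBlowUpSquare e₂ π₂ b₂ i) :
    ∃ (E X' : Scheme.{u}) (e : E ⟶ X') (π : E ⟶ Z) (b : X' ⟶ X) (j₁ : X' ⟶ X₁) (j₂ : X' ⟶ X₂),
      IsAlmostBlowUpSquare e π b i ∧ IsClosedImmersion j₁ ∧ IsClosedImmersion j₂ ∧
        j₁ ≫ b₁ = b ∧ j₂ ≫ b₂ = b := by
  haveI := h₁.isProper
  haveI := h₂.isProper
  haveI := h₁.finitePresentation
  haveI := h₂.finitePresentation
  let P := pullback b₁ b₂
  let p₁ : P ⟶ X₁ := pullback.fst b₁ b₂
  let p₂ : P ⟶ X₂ := pullback.snd b₁ b₂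
  haveI : CompactSpace P := QuasiCompact.compactSpace_of_compactSpace (p₁ ≫ b₁)
  haveI : QuasiSeparatedSpace P := quasiSeparatedSpace_of_quasiSeparated (p₁ ≫ b₁)
  haveI : CompactSpace X₁ := QuasiCompact.compactSpace_of_compactSpace b₁
  haveI : QuasiSeparatedSpace X₁ := quasiSeparatedSpace_of_quasiSeparated b₁
  haveI : CompactSpace X₂ := QuasiCompact.compactSpace_of_compactSpace b₂
  haveI : QuasiSeparatedSpace X₂ := quasiSeparatedSpace_of_quasiSeparated b₂
  let k₁ := (supportedOn (i.ker.comap b₁)).subschemeι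
  let k₂ := (supportedOn (i.ker.comap b₂)).subschemeι
  obtain ⟨l, hl⟩ := BlowUpLib.exists_iso h₁.isBlowUp h₂.isBlowUp
  let m : (supportedOn (i.ker.comap b₁)).subscheme ⟶ P :=
    pullback.lift k₁ (l.hom ≫ k₂) (by rw [Category.assoc]; exact hl.symm)
  haveI : IsClosedImmersion (m ≫ p₁) := by rw [pullback.lift_fst]; infer_instance
  haveI : IsClosedImmersion (m ≫ p₂) := by rw [pullback.lift_snd]; infer_instance
  haveI : IsClosedImmersion m := IsClosedImmersion.of_comp m p₁
  let J := m.ker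
  let D := MorLib.IdealFG.subDiagram (𝟙 P) J ⋙ Over.forget P
  let c := (Over.forget P).mapCone (MorLib.IdealFG.subCone (𝟙 P) J)
  have hc : IsLimit c := isLimitOfPreserves (Over.forget P) (MorLib.IdealFG.isLimitSubCone (𝟙 P) J)
  haveI : Nonempty (MorLib.IdealFG.Sub J) := ⟨⟨⊥, bot_le, MorLib.IdealFG.isFG_bot⟩⟩
  haveI : IsDirectedOrder (MorLib.IdealFG.Sub J) := ⟨fun K L =>
    ⟨⟨K.1 ⊔ L.1, sup_le K.2.1 L.2.1, MorLib.IdealFG.isFG_sup K.2.2 L.2.2⟩,
      le_sup_left (a := K.1) (b := L.1), le_sup_right (a := K.1) (b := L.1)⟩⟩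
  haveI : IsCofiltered (MorLib.IdealFG.Sub J)ᵒᵖ := inferInstance
  haveI : ∀ {a b : (MorLib.IdealFG.Sub J)ᵒᵖ} (f : a ⟶ b), IsClosedImmersion (D.map f) :=
    fun f => MorLib.IdealFG.isClosedImmersion_map (𝟙 P) J f
  haveI : ∀ a, CompactSpace (D.obj a) := fun a =>
    QuasiCompact.compactSpace_of_compactSpace a.unop.1.subschemeι
  haveI : ∀ a, QuasiSeparatedSpace (D.obj a) := fun a =>
    quasiSeparatedSpace_of_quasiSeparated a.unop.1.subschemeι
  let a₀ : (MorLib.IdealFG.Sub J)ᵒᵖ := op ⟨⊥, bot_le, MorLib.IdealFG.isFG_bot⟩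
  let t : D.obj a₀ ⟶ P := a₀.unop.1.subschemeι
  let θ : J.subscheme ⟶ (supportedOn (i.ker.comap b₁)).subscheme :=
    IsClosedImmersion.lift m J.subschemeι (by rw [IdealSheafData.ker_subschemeι])
  have hθ : θ ≫ m = J.subschemeι := IsClosedImmersion.lift_fac _ _ _
  haveI : IsClosedImmersion θ := by
    haveI : IsClosedImmersion (θ ≫ m) := by rw [hθ]; infer_instance
    exact IsClosedImmersion.of_comp θ m
  have hct : c.π.app a₀ ≫ t = θ ≫ m := by
    rw [hθ]
    exact IdealSheafData.inclusion_subschemeι _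
  haveI : IsClosedImmersion (c.π.app a₀ ≫ t ≫ p₁) := by
    rw [← Category.assoc, hct, Category.assoc]; exact inferInstanceAs (IsClosedImmersion (θ ≫ (m ≫ p₁)))
  haveI : IsClosedImmersion (c.π.app a₀ ≫ t ≫ p₂) := by
    rw [← Category.assoc, hct, Category.assoc]; exact inferInstanceAs (IsClosedImmersion (θ ≫ (m ≫ p₂)))
  obtain ⟨u₁, hu₁⟩ := MorLib.EvCI.exists_isClosedImmersion_structure hc a₀ (t ≫ p₁)
  obtain ⟨u₂, hu₂⟩ := MorLib.EvCI.exists_isClosedImmersion_structure hc a₀ (t ≫ p₂)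
  obtain ⟨u, f₁, f₂, -⟩ := IsCofilteredOrEmpty.cone_objs u₁ u₂
  have hu : D.map u.hom ≫ t = u.left.unop.1.subschemeι := IdealSheafData.inclusion_subschemeι _
  let j₁ : D.obj u.left ⟶ X₁ := u.left.unop.1.subschemeι ≫ p₁
  let j₂ : D.obj u.left ⟶ X₂ := u.left.unop.1.subschemeι ≫ p₂
  haveI hj₁ : IsClosedImmersion j₁ := by
    have := hu₁ u f₁
    rwa [← Category.assoc, hu] at this
  haveI hj₂ : IsClosedImmersion j₂ := by
    have := hu₂ u f₂
    rwa [← Category.assoc, hu] at this
  haveI := MorLib.IdealFG.lfp_subschemeι u.left.unop.2.2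
  haveI : LocallyOfFinitePresentation p₁ := MorphismProperty.pullback_fst _ _ inferInstance
  haveI : LocallyOfFinitePresentation j₁ :=
    inferInstanceAs (LocallyOfFinitePresentation (u.left.unop.1.subschemeι ≫ p₁))
  have hle : j₁.ker ≤ supportedOn (i.ker.comap b₁) := by
    let ν : (supportedOn (i.ker.comap b₁)).subscheme ⟶ D.obj u.left :=
      IsClosedImmersion.lift u.left.unop.1.subschemeι m
        (by rw [IdealSheafData.ker_subschemeι]; exact u.left.unop.2.1)
    have e : ν ≫ j₁ = k₁ := by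
      show ν ≫ u.left.unop.1.subschemeι ≫ p₁ = k₁
      rw [← Category.assoc, IsClosedImmersion.lift_fac, pullback.lift_fst]
    calc j₁.ker ≤ (ν ≫ j₁).ker := Scheme.Hom.le_ker_comp _ _
      _ = _ := by rw [e]; exact IdealSheafData.ker_subschemeι _
  refine ⟨pullback e₁ j₁, _, pullback.snd e₁ j₁, pullback.fst e₁ j₁ ≫ π₁, j₁ ≫ b₁, j₁, j₂,
    (HTopCov.ker_le_iff_isAlmostBlowUpSquare h₁ j₁ (IsPullback.of_hasPullback e₁ j₁)).1 hle, hj₁, hj₂, rfl, ?_⟩
  show (_ ≫ p₂) ≫ b₂ = (_ ≫ p₁) ≫ b₁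
  rw [Category.assoc, Category.assoc, pullback.condition]

end Groth.Agent.HTop83
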