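import Mathlib.AlgebraicGeometry.Normalization
import Mathlib.AlgebraicGeometry.Stalk
import Mathlib.RingTheory.Localization.Integral

/-!
# The normalization of a scheme in a point with values in a field
-/

set_option autoImplicit false
set_option backward.isDefEq.respectTransparency false
set_option backward.isDefEq.respectTransparency.types false

universe u

noncomputable section

namespace Groth.Agent.HTop83

open CategoryTheory AlgebraicGeometry TopologicalSpace IsLocalRing

variable {X : Scheme.{u}} {L : Type u} [Field L] (g : Spec (CommRingCat.of L) ⟶ X) [QuasiCompact g]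
  [QuasiSeparated g]

/-- The point with values in the field specializes to every point of the normalization. -/
theorem toNormalization_specializes (y : g.normalization) : g.toNormalization (closedPoint L) ⤳ y := by
  rw [specializes_iff_mem_closure]
  have h := g.toNormalization.denseRange.closure_range
  have : Set.range g.toNormalization ⊆ {g.toNormalization (closedPoint L)} := by
    rintro _ ⟨z, rfl⟩
    exact congrArg g.toNormalization (Subsingleton.elim (α := PrimeSpectrum L) z (closedPoint L))
  exact closure_mono this (h ▸ Set.mem_univ y)

/-- The evaluation of a local ring of the normalization in the field. -/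
def normToField (y : g.normalization) : g.normalization.presheaf.stalk y ⟶ CommRingCat.of L :=
  g.normalization.presheaf.stalkSpecializes (toNormalization_specializes g y) ≫
    Scheme.stalkClosedPointTo g.toNormalization

theorem SpecMap_normToField (y : g.normalization) :
    Spec.map (normToField g y) ≫ g.normalization.fromSpecStalk y = g.toNormalization := by
  rw [normToField, Spec.map_comp, Category.assoc, Scheme.SpecMap_stalkSpecializes_fromSpecStalk,
    Scheme.Spec_stalkClosedPointTo_fromSpecStalk]

/-- The local rings of the normalization embed in the field and are integrally closed in it. -/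
theorem normToField_spec (y : g.normalization) :
    Function.Injective (normToField g y).hom ∧
      ∀ z : L, (normToField g y).hom.IsIntegralElem z → z ∈ (normToField g y).hom.range := by
  obtain ⟨_, ⟨U, hU, rfl⟩, hyU, -⟩ := X.isBasis_affineOpens.exists_subset_of_mem_open
    (Set.mem_univ (g.fromNormalization y)) isOpen_univ
  let W : g.normalization.Opens := g.fromNormalization ⁻¹ᵁ U
  have hW : IsAffineOpen W := hU.preimage _
  have hη : g.toNormalization (closedPoint L) ∈ W := (toNormalization_specializes g y).mem_open W.2 hyU
  have hgU : g (closedPoint L) ∈ U := by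
    rw [← g.toNormalization_fromNormalization]
    exact hη
  letI := (g.app U).hom.toAlgebra
  let σ : Γ(Spec (CommRingCat.of L), g ⁻¹ᵁ U) ≅ CommRingCat.of L :=
    (Spec (CommRingCat.of L)).presheaf.mapIso
      (eqToIso (Scheme.preimage_eq_top_of_closedPoint_mem g hgU).symm).op ≪≫ Scheme.ΓSpecIso _
  let ev : Γ(g.normalization, W) →+* L :=
    ((normToField g y).hom).comp (g.normalization.presheaf.germ W y hyU).hom
  have he : CommRingCat.ofHom ev = (g.normalizationObjIso hU).hom ≫
      CommRingCat.ofHom (Subalgebra.val (integralClosure Γ(X, U) Γ(Spec (CommRingCat.of L), g ⁻¹ᵁ U))).toRingHom ≫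
        σ.hom := by
    rw [← Category.assoc, g.normalizationObjIso_hom_val hU]
    show g.normalization.presheaf.germ W y hyU ≫ normToField g y = _
    rw [normToField, TopCat.Presheaf.germ_stalkSpecializes_assoc, Scheme.germ_stalkClosedPointTo,
      Scheme.Hom.appLE, Category.assoc]
    congr 1
  have hb1 : Function.Bijective (g.normalizationObjIso hU).hom :=
    (ConcreteCategory.isIso_iff_bijective _).1 inferInstance
  have hb2 : Function.Bijective σ.hom := (ConcreteCategory.isIso_iff_bijective _).1 inferInstance
  have hfun : ⇑ev = (⇑σ.hom ∘ Subtype.val) ∘ (g.normalizationObjIso hU).hom :=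
    funext fun c => ConcreteCategory.congr_hom he c
  have hinj : Function.Injective ev := by
    rw [hfun]; exact (hb2.1.comp Subtype.val_injective).comp hb1.1
  letI := g.normalization.presheaf.algebra_section_stalk (⟨y, hyU⟩ : W)
  haveI := hW.isLocalization_stalk ⟨y, hyU⟩
  let P := (hW.primeIdealOf ⟨y, hyU⟩).asIdeal
  refine ⟨(injective_iff_map_eq_zero _).2 fun a ha => ?_, fun z hz => ?_⟩
  · obtain ⟨⟨r, s⟩, rfl⟩ := IsLocalization.mk'_surjective P.primeCompl a
    have h1 := congrArg (normToField g y).hom (IsLocalization.mk'_spec (g.normalization.presheaf.stalk y) r s)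
    rw [map_mul] at h1
    have h2 : ev r = 0 := by
      refine h1.symm.trans ?_
      rw [show (normToField g y).hom (IsLocalization.mk' _ r s) = 0 from ha, zero_mul]
    simp [show r = 0 from hinj (h2.trans (map_zero ev).symm)]
  · letI := (normToField g y).hom.toAlgebra
    letI := ev.toAlgebra
    haveI : IsScalarTower Γ(g.normalization, W) (g.normalization.presheaf.stalk y) L :=
      IsScalarTower.of_algebraMap_eq fun _ => rfl
    obtain ⟨m, hm⟩ := IsIntegral.exists_multiple_integral_of_isLocalization P.primeCompl
      (Rₘ := g.normalization.presheaf.stalk y) z hz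
    have hmu : IsUnit (algebraMap Γ(g.normalization, W) (g.normalization.presheaf.stalk y) m) :=
      IsLocalization.map_units _ m
    suffices h : ev m * z ∈ ev.range by
      obtain ⟨w, hw⟩ := h
      obtain ⟨u, hu⟩ := hmu.exists_left_inv
      refine ⟨u * algebraMap _ _ w, ?_⟩
      rw [map_mul]
      show (normToField g y).hom u * ev w = z
      have h1 : (normToField g y).hom u * ev m = 1 := by
        show (normToField g y).hom u * (normToField g y).hom (algebraMap _ _ (m : Γ(g.normalization, W))) = 1
        rw [← map_mul, hu, map_one]
      rw [hw, ← mul_assoc, h1, one_mul]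
    replace hm : ev.IsIntegralElem (ev m * z) := by
      rw [Submonoid.smul_def, Algebra.smul_def] at hm
      exact hm
    let v := σ.inv (ev m * z)
    have hv : σ.hom v = ev m * z := σ.inv_hom_id_apply _
    letI : Algebra (integralClosure Γ(X, U) Γ(Spec (CommRingCat.of L), g ⁻¹ᵁ U)) L :=
      (σ.hom.hom.comp (Subalgebra.val _).toRingHom).toAlgebra
    have hv' : IsIntegral Γ(X, U) v := by
      have h1 : IsIntegral (integralClosure Γ(X, U) Γ(Spec (CommRingCat.of L), g ⁻¹ᵁ U)) v := by
        obtain ⟨p, hp, hp0⟩ := hm
        refine ⟨p.map (g.normalizationObjIso hU).hom.hom, hp.map _, hb2.1 ?_⟩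
        rw [Polynomial.hom_eval₂, Polynomial.eval₂_map, hv, map_zero]
        refine Eq.trans ?_ hp0
        congr 1
        ext c
        exact (congrFun hfun c).symm
      haveI : Algebra.IsIntegral Γ(X, U) (integralClosure Γ(X, U) Γ(Spec (CommRingCat.of L), g ⁻¹ᵁ U)) :=
        IsIntegralClosure.isIntegral_algebra Γ(X, U) Γ(Spec (CommRingCat.of L), g ⁻¹ᵁ U)
      exact isIntegral_trans v h1
    obtain ⟨c, hc⟩ := hb1.2 ⟨v, hv'⟩
    refine ⟨c, ?_⟩
    refine (congrFun hfun c).trans ?_
    show σ.hom (Subtype.val ((g.normalizationObjIso hU).hom c)) = _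
    rw [hc, hv]

end Groth.Agent.HTop83
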