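import Groth.Agent.HTop83.PhRefine
import Mathlib.RingTheory.Ideal.MinimalPrime.Noetherian
import Mathlib.AlgebraicGeometry.Morphisms.FinitePresentation
import Mathlib.RingTheory.Polynomial.Basic
import Mathlib.AlgebraicGeometry.Noetherian

/-!
# V coverings of finite presentation are ph coverings
-/

set_option autoImplicit false
set_option backward.isDefEq.respectTransparency false
set_option backward.isDefEq.respectTransparency.types false

universe w u

noncomputable section

namespace Groth.Agent.HTop83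

open CategoryTheory CategoryTheory.Limits AlgebraicGeometry TopologicalSpace HTop MvPolynomial
open scoped TensorProduct

/-- A family has a proper surjective refinement of finite presentation. -/
def HasFPRefinement {T : Scheme.{u}} (E : PreZeroHypercover.{w} T) : Prop :=
  ∃ (R : Scheme.{u}) (r : R ⟶ T), IsProper r ∧ Surjective r ∧ LocallyOfFinitePresentation r ∧ ∀ x, LiftsAt E r x

/-- Over a Noetherian ring a family passing the valuative test has a proper surjective refinement. -/
theorem hasFPRefinement_of_valPoints {A : Type u} [CommRing A] [IsNoetherianRing A] {J : Type}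
    (C : J → Type u) [∀ j, CommRing (C j)] [∀ j, Algebra A (C j)] [∀ j, Algebra.FiniteType A (C j)]
    (hC : ValPoints (A := A) C) : HasFPRefinement (affFam (A := A) C) := by
  haveI : Finite (minimalPrimes A) := (minimalPrimes.finite_of_isNoetherianRing A).to_subtype
  let σ : Type u := minimalPrimes A
  choose R r hr hp hl using fun q : σ => exists_proper_liftsAt C hC ⟨q.1, q.2.1.1⟩
  haveI := hr
  haveI : IsProper (Sigma.desc r) := isProper_sigmaDesc r
  haveI : Surjective (Sigma.desc r) := ⟨fun y => by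
    obtain ⟨q, hq, hqy⟩ := Ideal.exists_minimalPrimes_le (I := (⊥ : Ideal A)) (J := y.asIdeal) bot_le
    obtain ⟨x, hx⟩ : y ∈ Set.range (r ⟨q, hq⟩) :=
      ((PrimeSpectrum.le_iff_specializes (⟨q, hq.1.1⟩ : PrimeSpectrum A) y).1 hqy).mem_closed
        (r ⟨q, hq⟩).isClosedMap.isClosed_range (hp ⟨q, hq⟩)
    exact ⟨Sigma.ι R ⟨q, hq⟩ x, by rw [← Scheme.Hom.comp_apply, Sigma.ι_desc]; exact hx⟩⟩
  haveI : IsNoetherianRing (CommRingCat.of A) := ‹IsNoetherianRing A›
  refine ⟨_, Sigma.desc r, inferInstance, inferInstance,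
    LocallyOfFinitePresentation.iff_locallyOfFiniteType.2 inferInstance, fun z => ?_⟩
  obtain ⟨q, x, rfl⟩ := (sigmaOpenCover R).exists_eq z
  obtain ⟨O, o, i, h, ho, hxo, hc⟩ := hl q x
  refine ⟨O, o ≫ Sigma.ι R q, i, h, inferInstance, ?_, ?_⟩
  · obtain ⟨w, hw⟩ := hxo
    exact ⟨w, by rw [Scheme.Hom.comp_apply, hw]; rfl⟩
  · rw [hc, Category.assoc, Sigma.ι_desc]

variable {A : Type u} [CommRing A]

/-- A point with values in an extension gives a point with values in the valuation ring, if this has roots of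
all monic polynomials. -/
theorem exists_ringHom_of_ext {C V W : Type u} [CommRing C] [Algebra A C] [Algebra.FiniteType A C]
    [CommRing V] [IsDomain V] [ValuationRing V] [CommRing W] [IsDomain W] [IsLocalRing W]
    (hV : HasMonicRoots V) (φ : V →+* W) (hinj : Function.Injective φ) [IsLocalHom φ] (α : A →+* V)
    (γ : C →+* W) (h : γ.comp (algebraMap A C) = φ.comp α) :
    ∃ c : C →+* V, c.comp (algebraMap A C) = α := by
  letI : Algebra A V := α.toAlgebra
  letI : Algebra A W := (φ.comp α).toAlgebra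
  let φA : V →ₐ[A] W := { φ with commutes' := fun _ => rfl }
  let γA : C →ₐ[A] W := { γ with commutes' := fun a => RingHom.congr_fun h a }
  let Φ : TensorProduct A V C →ₐ[A] W := Algebra.TensorProduct.lift φA γA fun x y => mul_comm (φA x) (γA y)
  have hΦ : Φ.toRingHom.comp (algebraMap V (TensorProduct A V C)) = φ := by
    ext v
    show Φ (v ⊗ₜ[A] 1) = φ v
    rw [Algebra.TensorProduct.lift_tmul, map_one, mul_one]
    rfl
  haveI : (RingHom.ker Φ.toRingHom).IsPrime := RingHom.ker_isPrime _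
  obtain ⟨c⟩ := exists_algHom_of_pair (B := TensorProduct A V C) hV (RingHom.ker Φ.toRingHom)
    ((IsLocalRing.maximalIdeal W).comap Φ.toRingHom) (Ideal.comap_mono bot_le)
    (by
      rw [RingHom.ker_eq_comap_bot, Ideal.comap_comap, hΦ]
      exact (RingHom.injective_iff_ker_eq_bot φ).1 hinj)
    (by
      rw [Ideal.comap_comap, hΦ]
      exact ((IsLocalRing.local_hom_TFAE φ).out 0 4).mp ‹IsLocalHom φ›)
  refine ⟨c.toRingHom.comp Algebra.TensorProduct.includeRight.toRingHom, RingHom.ext fun a => ?_⟩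
  show c (1 ⊗ₜ[A] algebraMap A C a) = α a
  rw [Algebra.algebraMap_eq_smul_one, ← TensorProduct.smul_tmul]
  show c ((α a * 1) ⊗ₜ[A] 1) = α a
  rw [mul_one]
  exact c.commutes (α a)

/-- Finitely presented families passing the test have proper surjective refinements of finite presentation. -/
theorem hasFPRefinement_pres {J : Type} [Finite J] (n r : J → ℕ)
    (f : ∀ j, Fin (r j) → MvPolynomial (Fin (n j)) A)
    (hA : ∀ (V : Type u) [CommRing V] [IsDomain V] [ValuationRing V], HasMonicRoots V → ∀ α : A →+* V,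
      ∃ (j : J) (c : Pres (f j) →+* V), c.comp (algebraMap A (Pres (f j))) = α) :
    HasFPRefinement (affFam (A := A) fun j => Pres (f j)) := by
  obtain ⟨B, hB, g, hgf, hval⟩ := exists_fg_subring_valPoints n r f hA
  haveI : Algebra.FiniteType ℤ B := (Subalgebra.fg_iff_finiteType B).1 hB
  haveI : IsNoetherianRing B := Algebra.FiniteType.isNoetherianRing ℤ B
  obtain ⟨R, q, hq, hqs, hqp, hl⟩ := hasFPRefinement_of_valPoints (A := B) (fun j => Pres (g j)) hval
  let i : Spec (CommRingCat.of A) ⟶ Spec (CommRingCat.of B) := Spec.map (CommRingCat.ofHom B.val.toRingHom)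
  refine ⟨pullback i q, pullback.fst i q, inferInstance, inferInstance,
    MorphismProperty.pullback_fst _ _ hqp, fun x => ?_⟩
  obtain ⟨O, o, j, h, ho, hxo, hc⟩ := hl (pullback.snd i q x)
  obtain ⟨z, hz⟩ : x ∈ Set.range (pullback.fst (pullback.snd i q) o) := by
    rw [Scheme.Pullback.range_fst]; exact hxo
  obtain ⟨W, hW, hzW, -⟩ := exists_isAffineOpen_mem_and_subset
    (show z ∈ (⊤ : (pullback (pullback.snd i q) o).Opens) from trivial)
  haveI : IsAffine (W : Scheme) := hW
  let o' : (W : Scheme) ⟶ pullback i q := W.ι ≫ pullback.fst _ _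
  let a : (W : Scheme) ⟶ Spec (CommRingCat.of A) := o' ≫ pullback.fst i q
  let b : (W : Scheme) ⟶ Spec (CommRingCat.of (Pres (g j))) := W.ι ≫ pullback.snd _ _ ≫ h
  have hab : b ≫ Spec.map (CommRingCat.ofHom (algebraMap B (Pres (g j)))) = a ≫ i := by
    show (W.ι ≫ pullback.snd _ _ ≫ h) ≫ Spec.map (CommRingCat.ofHom (algebraMap B (Pres (g j)))) =
      ((W.ι ≫ pullback.fst _ _) ≫ pullback.fst i q) ≫ i
    rw [Category.assoc, Category.assoc]
    refine (congrArg (fun m => W.ι ≫ pullback.snd _ _ ≫ m) hc).trans ?_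
    simp only [Category.assoc, pullback.condition]
    rw [← pullback.condition_assoc]
  obtain ⟨α, hα⟩ := Spec.map_surjective ((W : Scheme).isoSpec.inv ≫ a)
  obtain ⟨β, hβ⟩ := Spec.map_surjective ((W : Scheme).isoSpec.inv ≫ b)
  have hαβ : β.hom.comp (algebraMap B (Pres (g j))) = α.hom.comp B.val.toRingHom := by
    have e : Spec.map (CommRingCat.ofHom (algebraMap B (Pres (g j))) ≫ β) =
        Spec.map (CommRingCat.ofHom B.val.toRingHom ≫ α) := by
      rw [Spec.map_comp, Spec.map_comp, hα, hβ]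
      exact (Category.assoc _ _ _).trans
        ((congrArg ((W : Scheme).isoSpec.inv ≫ ·) hab).trans (Category.assoc _ _ _).symm)
    exact congrArg CommRingCat.Hom.hom (Spec.map_injective e)
  obtain ⟨c, hc', -⟩ := (pres_hom_iff (f j) α.hom (fun l => β.hom (Ideal.Quotient.mk _ (X l)))).1 fun l => by
    rw [← hgf, MvPolynomial.eval₂_map]
    exact (pres_hom_iff (g j) (α.hom.comp B.val.toRingHom) _).2 ⟨β.hom, hαβ, fun _ => rfl⟩ l
  refine ⟨(W : Scheme), o', j, (W : Scheme).isoSpec.hom ≫ Spec.map (CommRingCat.ofHom c), inferInstance,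
    ⟨⟨z, hzW⟩, hz⟩, ?_⟩
  show ((W : Scheme).isoSpec.hom ≫ Spec.map (CommRingCat.ofHom c)) ≫
    Spec.map (CommRingCat.ofHom (algebraMap A (Pres (f j)))) = o' ≫ pullback.fst i q
  rw [Category.assoc, ← Spec.map_comp, ← CommRingCat.ofHom_comp, hc', CommRingCat.ofHom_hom, hα,
    Iso.hom_inv_id_assoc]

/-- A finite family of affine schemes of finite presentation over an affine scheme with the valuative lifting
property has a proper surjective refinement of finite presentation. -/
theorem hasFPRefinement_of_hasValLift {T : Scheme.{u}} [IsAffine T] (E : PreZeroHypercover.{w} T)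
    [Finite E.I₀] [∀ j, IsAffine (E.X j)] [∀ j, LocallyOfFinitePresentation (E.f j)] (hE : HasValLift E) :
    HasFPRefinement E := by
  classical
  obtain ⟨m, ⟨e⟩⟩ := Finite.exists_equiv_fin E.I₀
  let A : CommRingCat.{u} := Γ(T, ⊤)
  letI : ∀ j : Fin m, Algebra A Γ(E.X (e.symm j), ⊤) := fun j => (E.f (e.symm j)).appTop.hom.toAlgebra
  have hfp : ∀ j : Fin m, Algebra.FinitePresentation A Γ(E.X (e.symm j), ⊤) := fun j =>
    HasRingHomProperty.appTop (P := @LocallyOfFinitePresentation) (E.f (e.symm j)) inferInstance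
  have hpres : ∀ j : Fin m, ∃ (n r : ℕ) (f : Fin r → MvPolynomial (Fin n) A),
      Nonempty (Pres f ≃ₐ[A] Γ(E.X (e.symm j), ⊤)) := fun j => by
    obtain ⟨n, I, ε, hI⟩ := Algebra.FinitePresentation.iff.1 (hfp j)
    obtain ⟨r, f, hf⟩ := Submodule.fg_iff_exists_fin_generating_family.1 hI
    exact ⟨n, r, f, ⟨(Ideal.quotientEquivAlgOfEq A hf).trans ε⟩⟩
  choose n r f hε using hpres
  have ε := fun j => (hε j).some
  obtain ⟨R, q, hq, hqs, hqp, hl⟩ := hasFPRefinement_pres (A := A) n r f fun V _ _ _ hV α => by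
    haveI : IsDomain (CommRingCat.of V) := inferInstanceAs (IsDomain V)
    haveI : ValuationRing (CommRingCat.of V) := inferInstanceAs (ValuationRing V)
    obtain ⟨W, hW, hW', φ, ⟨hinj, hloc⟩, j, g', hg'⟩ :=
      hE (CommRingCat.of V) (Spec.map (CommRingCat.ofHom α) ≫ T.isoSpec.inv)
    obtain ⟨γ, hγ⟩ := Spec.map_surjective (g' ≫ (E.X j).isoSpec.hom)
    obtain ⟨i, rfl⟩ := e.symm.surjective j
    haveI := hloc
    have hcomp : γ.hom.comp (algebraMap A Γ(E.X (e.symm i), ⊤)) = φ.hom.comp α := by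
      have h1 : Spec.map ((E.f (e.symm i)).appTop ≫ γ) = Spec.map (CommRingCat.ofHom α ≫ φ) := by
        rw [Spec.map_comp, Spec.map_comp, hγ, Category.assoc, Scheme.isoSpec_hom_naturality,
          ← Category.assoc, hg', Category.assoc, Category.assoc, Iso.inv_hom_id, Category.comp_id]
      exact congrArg CommRingCat.Hom.hom (Spec.map_injective h1)
    haveI : Algebra.FiniteType A Γ(E.X (e.symm i), ⊤) := by
      haveI := hfp i
      infer_instance
    obtain ⟨c, hc⟩ := exists_ringHom_of_ext hV φ.hom hinj α γ.hom hcomp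
    exact ⟨i, c.comp (ε i).toRingEquiv.toRingHom, RingHom.ext fun a => by
      show c (ε i (algebraMap A _ a)) = α a
      rw [(ε i).commutes]
      exact RingHom.congr_fun hc a⟩
  refine ⟨R, q ≫ T.isoSpec.inv, inferInstance, inferInstance, inferInstance, fun x => ?_⟩
  obtain ⟨O, o, k, h, ho, hxo, hc⟩ := hl x
  refine ⟨O, o, e.symm k, h ≫ Spec.map (CommRingCat.ofHom (ε k).symm.toRingEquiv.toRingHom) ≫
    (E.X (e.symm k)).isoSpec.inv, ho, hxo, ?_⟩
  rw [Category.assoc, Category.assoc, ← Scheme.isoSpec_inv_naturality, ← Category.assoc (Spec.map _),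
    ← Spec.map_comp, ← Category.assoc o, ← hc, Category.assoc]
  refine congrArg (fun m => h ≫ m ≫ T.isoSpec.inv) ?_
  refine congrArg Spec.map ?_
  exact CommRingCat.hom_ext (RingHom.ext fun a => (ε k).symm.commutes a)

/-- A V covering by morphisms locally of finite presentation has, over every affine scheme mapping to the
base, a proper surjective refinement of finite presentation. -/
theorem exists_fp_refinement {X S : Scheme.{u}} [IsAffine S] (E : PreZeroHypercover.{w} X)
    (hE : ∀ i, LocallyOfFinitePresentation (E.f i)) (v : S ⟶ X) (G : PreZeroHypercover.{0} S) (hG : IsStandardV G)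
    (href : RefinesOver v G E) :
    HasFPRefinement (E.pullback₁ v) := by
  haveI := hG.finite_index
  choose i k hk using href
  haveI : ∀ j, IsAffine (G.X j) := hG.isAffine_obj
  let P := fun j => pullback (E.f (i j)) v
  let l : ∀ j, G.X j ⟶ P j := fun j => pullback.lift (k j) (G.f j) (hk j)
  have hcov : ∀ j, ∃ t : Finset (P j).affineOpens, ∀ x : G.X j, ∃ W ∈ t, l j x ∈ W.1 := fun j => by
    obtain ⟨t, ht⟩ := isCompact_univ.elim_finite_subcover (fun W : (P j).affineOpens => (l j ⁻¹ᵁ W.1 : Set (G.X j)))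
      (fun W => (l j ⁻¹ᵁ W.1).2) (fun x _ => by
        obtain ⟨W, hW, hx, -⟩ := exists_isAffineOpen_mem_and_subset (show l j x ∈ (⊤ : (P j).Opens) from trivial)
        exact Set.mem_iUnion.2 ⟨⟨W, hW⟩, hx⟩)
    exact ⟨t, fun x => by simpa using ht (Set.mem_univ x)⟩
  choose t ht using hcov
  let O : ∀ j, Fin (t j).card → (P j).affineOpens := fun j m => ((t j).equivFin.symm m).1
  let E' : PreZeroHypercover.{0} S :=
    ⟨Σ j, Fin (t j).card, fun p => ((O p.1 p.2).1 : Scheme), fun p => (O p.1 p.2).1.ι ≫ pullback.snd (E.f (i p.1)) v⟩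
  haveI : Finite E'.I₀ := inferInstanceAs (Finite (Σ j, Fin (t j).card))
  haveI : ∀ p, IsAffine (E'.X p) := fun p => (O p.1 p.2).2
  haveI : ∀ p, LocallyOfFinitePresentation (E'.f p) := fun p => by
    haveI := hE (i p.1)
    haveI : LocallyOfFinitePresentation (pullback.snd (E.f (i p.1)) v) :=
      MorphismProperty.pullback_snd _ _ inferInstance
    show LocallyOfFinitePresentation ((O p.1 p.2).1.ι ≫ pullback.snd (E.f (i p.1)) v)
    infer_instance
  obtain ⟨R, q, hq, hqs, hqp, hl⟩ := hasFPRefinement_of_hasValLift E' fun V _ _ g => by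
    obtain ⟨W, hW, hW', φ, hext, j, g', hg'⟩ := hG.lift V g
    obtain ⟨O', hOt, hO⟩ := ht j (g' (IsLocalRing.closedPoint W))
    have hm : O j ((t j).equivFin ⟨O', hOt⟩) = O' := by simp [O]
    obtain ⟨g'', hg''⟩ := HTopCov.exists_lift_of_closedPoint (O j ((t j).equivFin ⟨O', hOt⟩)).1.ι (g' ≫ l j) (by
      rw [Scheme.Opens.range_ι, hm]; exact hO)
    refine ⟨W, hW, hW', φ, hext, ⟨j, (t j).equivFin ⟨O', hOt⟩⟩, g'', ?_⟩
    show g'' ≫ (O j _).1.ι ≫ pullback.snd (E.f (i j)) v = _
    rw [← Category.assoc, hg'', Category.assoc, pullback.lift_snd, hg']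
  refine ⟨R, q, hq, hqs, hqp, fun x => ?_⟩
  obtain ⟨O', o, p, h, ho, hxo, hc⟩ := hl x
  refine ⟨O', o, i p.1, pullback.lift (o ≫ q) (h ≫ (O p.1 p.2).1.ι ≫ pullback.fst _ _) ?_, ho, hxo,
    pullback.lift_fst _ _ _⟩
  rw [← hc]
  show (h ≫ _ ≫ pullback.snd _ _) ≫ _ = (h ≫ _ ≫ pullback.fst _ _) ≫ E.f _
  simp only [Category.assoc, pullback.condition]

/-- Points where a morphism factors through a family give a finite affine open cover doing so. -/
theorem exists_affine_cover_of_liftsAt {T : Scheme.{u}} (E : PreZeroHypercover.{w} T) {R : Scheme.{u}}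
    (r : R ⟶ T) [CompactSpace R] (h : ∀ x, LiftsAt E r x) :
    ∃ H : PreZeroHypercover.{0} R, H.sieve₀ ∈ Scheme.zariskiTopology R ∧
      Nonempty ((⟨H.I₀, H.X, fun j => H.f j ≫ r⟩ : PreZeroHypercover.{0} T).Hom E) := by
  classical
  choose O o i l ho hxo hl using h
  obtain ⟨t, ht⟩ := isCompact_univ.elim_finite_subcover (fun x : R => Set.range (o x))
    (fun x => (o x).isOpenEmbedding.isOpen_range) (fun x _ => Set.mem_iUnion.2 ⟨x, hxo x⟩)
  let idx : Fin t.card → R := fun k => (t.equivFin.symm k).1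
  let H : PreZeroHypercover.{0} R := ⟨Fin t.card, fun k => O (idx k), fun k => o (idx k)⟩
  let C : R.OpenCover := .mkOfCovers H.I₀ H.X H.f (fun x => by
    obtain ⟨y, hy, z, hz⟩ := Set.mem_iUnion₂.1 (ht (Set.mem_univ x))
    have e : idx (t.equivFin ⟨y, hy⟩) = y := by simp [idx]
    refine ⟨t.equivFin ⟨y, hy⟩, ?_⟩
    show x ∈ Set.range (o (idx (t.equivFin ⟨y, hy⟩)))
    rw [e]
    exact ⟨z, hz⟩) (fun k => ho (idx k))
  exact ⟨H, C.mem_grothendieckTopology,
    ⟨{ s₀ := fun k => i (idx k), h₀ := fun k => l (idx k), w₀ := fun k => hl (idx k) }⟩⟩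

/-- A family of morphisms locally of finite presentation which is a V covering is a ph covering. -/
theorem isPhCover_of_isVCover {X : Scheme.{u}} (E : PreZeroHypercover.{w} X)
    (hE : ∀ i, LocallyOfFinitePresentation (E.f i)) (hV : IsVCover E) : IsPhCover E := by
  refine ⟨fun i => inferInstance, fun U => ?_⟩
  haveI : IsAffine (U.1 : Scheme) := U.2
  obtain ⟨G, hG, href⟩ := hV U
  obtain ⟨R, r, hr, hrs, -, hl⟩ := exists_fp_refinement E hE U.1.ι G hG href
  obtain ⟨F, hF, ⟨ψ⟩⟩ := exists_standardPh_of_liftsAt (E.pullback₁ U.1.ι) r hl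
  exact ⟨F, hF, fun p => ⟨ψ.s₀ p, ψ.h₀ p ≫ pullback.snd _ _,
    by rw [Category.assoc, ← pullback.condition, ← Category.assoc]; exact congrArg (· ≫ U.1.ι) (ψ.w₀ p)⟩⟩

end Groth.Agent.HTop83
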