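import Groth.Agent.HTop83.FracSheaf
import Groth.Agent.HTop83.NormPoint
import Groth.Agent.HTop83.PhV
import Groth.Agent.HTopCov.AlmostBlowUp
import Mathlib.AlgebraicGeometry.SpreadingOut
import Mathlib.FieldTheory.IsAlgClosed.AlgebraicClosure
import Mathlib.FieldTheory.Minpoly.Field

/-!
# Local lifts on the normalization of a blow-up in an algebraically closed field

Finitely many points with values in the algebraic closure of `κ(η)` lift all its valuation rings. Once the
coefficients of the minimal polynomials of their coordinates are comparable in every local ring, each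
coordinate lying in a valuation ring centred at a point of the normalization lies in its local ring.
-/

set_option autoImplicit false
set_option backward.isDefEq.respectTransparency false
set_option backward.isDefEq.respectTransparency.types false

universe v u

noncomputable section

namespace Groth.Agent.HTop83

open CategoryTheory CategoryTheory.Limits AlgebraicGeometry TopologicalSpace HTop IsLocalRing

variable {X : Scheme.{u}}

/-- The geometric point over `η`. -/
def geomPt (η : X) : Spec (CommRingCat.of (AlgebraicClosure (X.residueField η))) ⟶ X :=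
  Spec.map (CommRingCat.ofHom (algebraMap (X.residueField η) (AlgebraicClosure (X.residueField η)))) ≫
    X.fromSpecResidueField η

theorem geomPt_apply (η : X) (z) : geomPt η z = η := Scheme.fromSpecResidueField_apply η _

/-- Evaluation at the geometric point over `η`. -/
def geomEval (η : X) (U : X.Opens) (h : η ∈ U) : Γ(X, U) →+* AlgebraicClosure (X.residueField η) :=
  (algebraMap (X.residueField η) (AlgebraicClosure (X.residueField η))).comp (X.evaluation U η h).hom

theorem SpecMap_app_germ {Y : Scheme.{u}} (r : Y ⟶ X) {U : X.Opens} (hU : IsAffineOpen U) (y : Y)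
    (h : y ∈ r ⁻¹ᵁ U) :
    Spec.map (r.app U ≫ Y.presheaf.germ (r ⁻¹ᵁ U) y h) ≫ hU.fromSpec = Y.fromSpecStalk y ≫ r := by
  obtain ⟨_, ⟨V, hV, rfl⟩, hyV, hVU⟩ :=
    Y.isBasis_affineOpens.exists_subset_of_mem_open (show y ∈ (r ⁻¹ᵁ U : Set Y) from h) (r ⁻¹ᵁ U).2
  have e : r.app U ≫ Y.presheaf.germ (r ⁻¹ᵁ U) y h = r.appLE U V hVU ≫ Y.presheaf.germ V y hyV := by
    rw [Scheme.Hom.appLE, Category.assoc, Y.presheaf.germ_res]
  rw [e, Spec.map_comp, Category.assoc, IsAffineOpen.SpecMap_appLE_fromSpec r hU hV hVU, ← Category.assoc,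
    ← IsAffineOpen.fromSpecStalk, IsAffineOpen.fromSpecStalk_eq_fromSpecStalk]

theorem SpecMap_geomEval (η : X) {U : X.Opens} (hU : IsAffineOpen U) (h : η ∈ U) :
    Spec.map (CommRingCat.ofHom (geomEval η U h)) ≫ hU.fromSpec = geomPt η := by
  show Spec.map (X.evaluation U η h ≫
    CommRingCat.ofHom (algebraMap (X.residueField η) (AlgebraicClosure (X.residueField η)))) ≫ hU.fromSpec = _
  rw [Spec.map_comp, Category.assoc, geomPt]
  congr 1
  show Spec.map (X.presheaf.germ U η h ≫ X.residue η) ≫ hU.fromSpec = _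
  rw [Spec.map_comp, Category.assoc, ← IsAffineOpen.fromSpecStalk, IsAffineOpen.fromSpecStalk_eq_fromSpecStalk]
  rfl

/-- A morphism from a local scheme whose closed point lies in an affine open factors through it. -/
theorem exists_specMap_fromSpec {R : CommRingCat.{u}} [IsLocalRing R] {U : X.Opens} (hU : IsAffineOpen U)
    (l : Spec R ⟶ X) (h : l (closedPoint R) ∈ U) :
    ∃ ψ : Γ(X, U) ⟶ R, Spec.map ψ ≫ hU.fromSpec = l := by
  obtain ⟨l', hl'⟩ := HTopCov.exists_lift_of_closedPoint hU.fromSpec l (by rw [hU.range_fromSpec]; exact h)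
  obtain ⟨ψ, rfl⟩ := Spec.map_surjective l'
  exact ⟨ψ, hl'⟩

/-- A finite family of affine opens of the members over an affine open, through which lifts factor. -/
theorem exists_affine_pieces (E : PreZeroHypercover.{v} X) [Finite E.I₀] [∀ j, QuasiCompact (E.f j)]
    {U : X.Opens} (hU : IsAffineOpen U) :
    ∃ (m : ℕ) (j : Fin m → E.I₀) (W : ∀ k, (E.X (j k)).Opens),
      (∀ k, IsAffineOpen (W k) ∧ W k ≤ E.f (j k) ⁻¹ᵁ U) ∧
      ∀ (i : E.I₀) (x : E.X i), E.f i x ∈ U → ∃ (k : Fin m) (h : j k = i), h ▸ x ∈ W k := by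
  classical
  have hcov : ∀ i, ∃ t : Finset (E.X i).affineOpens, (∀ W ∈ t, W.1 ≤ E.f i ⁻¹ᵁ U) ∧
      ∀ x : E.X i, E.f i x ∈ U → ∃ W ∈ t, x ∈ W.1 := fun i => by
    have hc : IsCompact (E.f i ⁻¹ᵁ U : Set (E.X i)) := QuasiCompact.isCompact_preimage _ U.2 hU.isCompact
    obtain ⟨t, ht⟩ := hc.elim_finite_subcover
      (fun W : {W : (E.X i).affineOpens // W.1 ≤ E.f i ⁻¹ᵁ U} => (W.1.1 : Set (E.X i))) (fun W => W.1.1.2)
      (fun x hx => by
        obtain ⟨W, hW, hxW, hle⟩ := exists_isAffineOpen_mem_and_subset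
          (show x ∈ E.f i ⁻¹ᵁ U from hx)
        exact Set.mem_iUnion.2 ⟨⟨⟨W, hW⟩, hle⟩, hxW⟩)
    refine ⟨t.image Subtype.val, fun W hW => ?_, fun x hx => ?_⟩
    · obtain ⟨W', -, rfl⟩ := Finset.mem_image.1 hW
      exact W'.2
    · obtain ⟨W, hW, hxW⟩ := Set.mem_iUnion₂.1 (ht hx)
      exact ⟨W.1, Finset.mem_image_of_mem _ hW, hxW⟩
  choose t htle ht using hcov
  obtain ⟨m, ⟨e⟩⟩ := Finite.exists_equiv_fin (Σ i, t i)
  refine ⟨m, fun k => (e.symm k).1, fun k => (e.symm k).2.1.1,
    fun k => ⟨(e.symm k).2.1.2, htle _ _ (e.symm k).2.2⟩, fun i x hx => ?_⟩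
  obtain ⟨W, hW, hxW⟩ := ht i x hx
  obtain ⟨k, hk⟩ := e.symm.surjective ⟨i, W, hW⟩
  refine ⟨k, congrArg Sigma.fst hk, ?_⟩
  have key : ∀ (p : Σ i, t i) (_ : p = ⟨i, W, hW⟩) (h : p.1 = i), h ▸ x ∈ p.2.1.1 := by
    rintro _ rfl h
    exact hxW
  exact key _ hk (congrArg Sigma.fst hk)

/-- Finitely many points over `η` lift every valuation ring of the algebraic closure centred in `U`. -/
theorem exists_finset_tuples (E : PreZeroHypercover.{v} X) [Finite E.I₀] [∀ j, QuasiCompact (E.f j)]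
    [∀ j, LocallyOfFiniteType (E.f j)] (hE : HasValLift E) (η : X) {U : X.Opens} (hU : IsAffineOpen U)
    (h : η ∈ U) :
    ∃ (n : ℕ) (j : Fin n → E.I₀) (W : ∀ k, (E.X (j k)).Opens) (hWU : ∀ k, W k ≤ E.f (j k) ⁻¹ᵁ U)
      (c : ∀ k, Γ(E.X (j k), W k) →+* AlgebraicClosure (X.residueField η)),
      (∀ k, IsAffineOpen (W k)) ∧
      (∀ k, (c k).comp ((E.f (j k)).appLE U (W k) (hWU k)).hom = geomEval η U h) ∧
      ∀ V : ValuationSubring (AlgebraicClosure (X.residueField η)), (∀ a, geomEval η U h a ∈ V) →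
        ∃ k, ∀ z, c k z ∈ V := by
  classical
  obtain ⟨m, j, W, hW, hmem⟩ := exists_affine_pieces E hU
  letI : ∀ k, Algebra Γ(X, U) Γ(E.X (j k), W k) := fun k =>
    ((E.f (j k)).appLE U (W k) (hW k).2).hom.toAlgebra
  haveI : ∀ k, Algebra.FiniteType Γ(X, U) Γ(E.X (j k), W k) := fun k =>
    (E.f (j k)).finiteType_appLE hU (hW k).1 (hW k).2
  have hC : ValPoints (A := Γ(X, U)) fun k => Γ(E.X (j k), W k) := by
    intro K _ _ V φ hφ
    let ψ : Γ(X, U) ⟶ CommRingCat.of V := CommRingCat.ofHom (φ.codRestrict V.toSubring hφ)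
    haveI : IsDomain (CommRingCat.of V) := inferInstanceAs (IsDomain V)
    haveI : ValuationRing (CommRingCat.of V) := inferInstanceAs (ValuationRing V)
    obtain ⟨A, hA, hA', φ', ⟨hinj, hloc⟩, i, g', hg'⟩ := hE (CommRingCat.of V) (Spec.map ψ ≫ hU.fromSpec)
    have hi : E.f i (g' (closedPoint A)) ∈ U := by
      rw [← Scheme.Hom.comp_apply, hg']
      show hU.fromSpec (Spec.map ψ (Spec.map φ' (closedPoint A))) ∈ U
      exact hU.range_fromSpec.subset (Set.mem_range_self _)
    obtain ⟨k, rfl, hk⟩ := hmem i _ hi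
    obtain ⟨γ, hγ⟩ := exists_specMap_fromSpec (hW k).1 g' hk
    have hcomp : γ.hom.comp (algebraMap Γ(X, U) Γ(E.X (j k), W k)) = φ'.hom.comp ψ.hom := by
      have h1 : Spec.map ((E.f (j k)).appLE U (W k) (hW k).2 ≫ γ) = Spec.map (ψ ≫ φ') := by
        rw [← cancel_mono hU.fromSpec, Spec.map_comp, Category.assoc,
          IsAffineOpen.SpecMap_appLE_fromSpec _ hU (hW k).1 (hW k).2, ← Category.assoc, hγ, hg',
          Spec.map_comp, Category.assoc]
      exact congrArg CommRingCat.Hom.hom (Spec.map_injective h1)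
    haveI := hloc
    obtain ⟨c, hc⟩ := exists_ringHom_of_ext (hasMonicRoots_valuationSubring V) φ'.hom hinj ψ.hom γ.hom hcomp
    exact ⟨k, V.subtype.comp c, fun z => (c z).2, RingHom.ext fun a =>
      congrArg Subtype.val (RingHom.congr_fun hc a)⟩
  obtain ⟨S, hS, hV⟩ := exists_finset_points _ hC (geomEval η U h)
  obtain ⟨n, ⟨e⟩⟩ := Finite.exists_equiv_fin S
  refine ⟨n, fun k => j (e.symm k).1.1, fun k => W (e.symm k).1.1, fun k => (hW _).2,
    fun k => (e.symm k).1.2, fun k => (hW _).1, fun k => hS _ (e.symm k).2, fun V hVa => ?_⟩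
  obtain ⟨x, hx, hxV⟩ := hV V hVa
  obtain ⟨k, hk⟩ := e.symm.surjective ⟨x, hx⟩
  refine ⟨k, ?_⟩
  intro z
  have key : ∀ (p : S) (_ : p = ⟨x, hx⟩) (z : Γ(E.X (j p.1.1), W p.1.1)), p.1.2 z ∈ V := by
    rintro _ rfl z
    exact hxV z
  exact key _ hk z

/-- Where an ideal sheaf is effective Cartier, its extension to a local ring over it is principal. -/
theorem exists_map_eq_span {X' Y : Scheme.{u}} (b : X' ⟶ X) (q : Y ⟶ X') (J : X.IdealSheafData)
    (hJ : BlowUp.IsEffCartierIdeal (J.comap b)) {U : X.affineOpens} (y : Y) (h : y ∈ (q ≫ b) ⁻¹ᵁ U.1) :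
    ∃ e, (J.ideal U).map ((q ≫ b).app U.1 ≫ Y.presheaf.germ _ y h).hom = Ideal.span {e} := by
  obtain ⟨U', hyU', f, -, hf⟩ := hJ (q y)
  obtain ⟨V, hV, hyV, hle⟩ := exists_isAffineOpen_mem_and_subset
    (show q y ∈ U'.1 ⊓ b ⁻¹ᵁ U.1 from ⟨hyU', h⟩)
  have hle1 : V ≤ U'.1 := fun x hx => (hle hx).1
  have hle2 : V ≤ b ⁻¹ᵁ U.1 := fun x hx => (hle hx).2
  let r := (X'.presheaf.map (homOfLE hle1).op).hom
  let θ := (X'.presheaf.germ V (q y) hyV ≫ q.stalkMap y).hom
  refine ⟨θ (r f), ?_⟩
  have h1 : (J.comap b).ideal ⟨V, hV⟩ = (J.ideal U).map (b.appLE U.1 V hle2).hom :=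
    HTopCov.ideal_comap_appLE b J U ⟨V, hV⟩ hle2
  have h2 : (J.comap b).ideal ⟨V, hV⟩ = Ideal.span {r f} := by
    rw [← (J.comap b).map_ideal (U := (⟨V, hV⟩ : X'.affineOpens)) (V := U') hle1, hf, Ideal.map_span,
      Set.image_singleton]
    rfl
  have h3 : ((q ≫ b).app U.1 ≫ Y.presheaf.germ _ y h).hom = θ.comp (b.appLE U.1 V hle2).hom := by
    refine congrArg CommRingCat.Hom.hom ?_
    show _ = b.appLE U.1 V hle2 ≫ X'.presheaf.germ V (q y) hyV ≫ q.stalkMap y
    rw [Scheme.Hom.comp_app, Scheme.Hom.appLE, Category.assoc, Category.assoc, TopCat.Presheaf.germ_res_assoc,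
      Scheme.Hom.germ_stalkMap]
    rfl
  rw [h3, ← Ideal.map_map, ← h1, h2, Ideal.map_span, Set.image_singleton]

set_option maxHeartbeats 1000000 in
/-- Over `η` there are finitely many ideal sheaves, trivial at `η`, such that on a scheme where they all become
effective Cartier the family lifts locally to the normalization in the geometric point. -/
theorem exists_ideals_lifts [CompactSpace X] (E : PreZeroHypercover.{v} X) [Finite E.I₀]
    [∀ j, QuasiCompact (E.f j)] [∀ j, LocallyOfFiniteType (E.f j)] (hE : HasValLift E) (η : X) :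
    ∃ l : List X.IdealSheafData, (∀ J ∈ l, ∀ x, (η ⤳ x → x = η) → x ∉ J.support) ∧
      ∀ (X' : Scheme.{u}) (b : X' ⟶ X) (g' : Spec (CommRingCat.of (AlgebraicClosure (X.residueField η))) ⟶ X')
        [QuasiCompact g'] [QuasiSeparated g'], g' ≫ b = geomPt η →
        (∀ J ∈ l, BlowUp.IsEffCartierIdeal (J.comap b)) → ∀ y, LiftsAt E (g'.fromNormalization ≫ b) y := by
  classical
  let L := AlgebraicClosure (X.residueField η)
  let K := X.residueField η
  obtain ⟨t, ht⟩ := isCompact_univ.elim_finite_subcover (fun U : X.affineOpens => (U.1 : Set X))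
    (fun U => U.1.2) (fun x _ => by
      obtain ⟨U, hU, hx, -⟩ := exists_isAffineOpen_mem_and_subset (show x ∈ (⊤ : X.Opens) from trivial)
      exact Set.mem_iUnion.2 ⟨⟨U, hU⟩, hx⟩)
  let I := {U : X.affineOpens // U ∈ t ∧ η ∈ U.1}
  haveI : Fintype I := Fintype.subtype (t.filter fun U => η ∈ U.1) (by simp)
  choose n j W hWU c hW hc hV using fun U : I => exists_finset_tuples E hE η U.1.2 U.2.2
  have hgen : ∀ (U : I) (k : Fin (n U)), ∃ T : Finset Γ(E.X (j U k), W U k),
      letI := ((E.f (j U k)).appLE U.1.1 (W U k) (hWU U k)).hom.toAlgebra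
      Algebra.adjoin Γ(X, U.1.1) (T : Set Γ(E.X (j U k), W U k)) = ⊤ := fun U k => by
    letI := ((E.f (j U k)).appLE U.1.1 (W U k) (hWU U k)).hom.toAlgebra
    haveI : Algebra.FiniteType Γ(X, U.1.1) Γ(E.X (j U k), W U k) :=
      (E.f (j U k)).finiteType_appLE U.1.2 (hW U k) (hWU U k)
    exact Algebra.FiniteType.out
  choose T hT using hgen
  let xs : Finset L := Finset.univ.biUnion fun U : I => Finset.univ.biUnion fun k => (T U k).image (c U k)
  let coeffs : L → Finset K := fun x =>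
    (Finset.range ((minpoly K x).natDegree + 1)).image (minpoly K x).coeff
  have h1 : ∀ x : L, (1 : K) ∈ coeffs x := fun x => Finset.mem_image.2
    ⟨_, Finset.self_mem_range_succ _, (minpoly.monic (Algebra.IsIntegral.isIntegral x)).coeff_natDegree⟩
  refine ⟨xs.toList.map fun x => fracSheaf η (coeffs x), fun J hJ z hz => ?_, fun X' b g' _ _ hg' hcart y => ?_⟩
  · obtain ⟨x, -, rfl⟩ := List.mem_map.1 hJ
    by_cases hsp : η ⤳ z
    · rw [hz hsp]
      exact notMem_support_fracSheaf η _ (h1 x)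
    · exact notMem_support_fracSheaf_of_not_specializes η _ hsp
  let r := g'.fromNormalization ≫ b
  obtain ⟨V, l, hl, rfl⟩ := exists_valuationSubring_point g'.toNormalization y (toNormalization_specializes g' y)
  let y : g'.normalization := l (closedPoint V)
  have hr : g'.toNormalization ≫ r = geomPt η := by
    show g'.toNormalization ≫ g'.fromNormalization ≫ b = _
    rw [← Category.assoc, g'.toNormalization_fromNormalization, hg']
  obtain ⟨U₀, hU₀, hyU⟩ := Set.mem_iUnion₂.1 (ht (Set.mem_univ (r y)))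
  have hηU : η ∈ U₀.1 := by
    have : r (g'.toNormalization (closedPoint L)) = η := by
      rw [← Scheme.Hom.comp_apply, hr]; exact geomPt_apply η _
    exact this ▸ ((toNormalization_specializes g' y).map r.continuous).mem_open U₀.1.2 hyU
  let U : I := ⟨U₀, hU₀, hηU⟩
  let φ : g'.normalization.presheaf.stalk y →+* L := (normToField g' y).hom
  obtain ⟨hφinj, hφint⟩ := normToField_spec g' y
  let lam : g'.normalization.presheaf.stalk y ⟶ CommRingCat.of V := Scheme.stalkClosedPointTo l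
  have hlam : lam ≫ CommRingCat.ofHom V.subtype = normToField g' y := by
    apply Spec.map_injective
    rw [← cancel_mono (g'.normalization.fromSpecStalk y), SpecMap_normToField, Spec.map_comp, Category.assoc,
      Scheme.Spec_stalkClosedPointTo_fromSpecStalk, hl]
  let ψ : Γ(X, U₀.1) ⟶ g'.normalization.presheaf.stalk y :=
    r.app U₀.1 ≫ g'.normalization.presheaf.germ _ y hyU
  have hψ : φ.comp ψ.hom = geomEval η U₀.1 hηU := by
    have : Spec.map (ψ ≫ normToField g' y) = Spec.map (CommRingCat.ofHom (geomEval η U₀.1 hηU)) := by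
      rw [← cancel_mono U₀.2.fromSpec, Spec.map_comp, Category.assoc, SpecMap_app_germ, ← Category.assoc,
        SpecMap_normToField, SpecMap_geomEval, hr]
    exact congrArg CommRingCat.Hom.hom (Spec.map_injective this)
  have hφV : ∀ a, φ a ∈ V := fun a => by
    rw [show φ a = ((lam.hom a : V) : L) from congrArg (fun m => CommRingCat.Hom.hom m a) hlam.symm]
    exact (lam.hom a).2
  obtain ⟨k, hk⟩ := hV U V fun a => by rw [← hψ]; exact hφV _
  have hx : ∀ z ∈ T U k, c U k z ∈ φ.range := by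
    intro z hz
    let x := c U k z
    have hxs : x ∈ xs := Finset.mem_biUnion.2
      ⟨U, Finset.mem_univ _, Finset.mem_biUnion.2 ⟨k, Finset.mem_univ _, Finset.mem_image_of_mem _ hz⟩⟩
    obtain ⟨e, he⟩ := exists_map_eq_span b g'.fromNormalization (fracSheaf η (coeffs x))
      (hcart _ (List.mem_map.2 ⟨x, Finset.mem_toList.2 hxs, rfl⟩)) (U := U₀) y hyU
    rw [fracSheaf_ideal η _ hηU] at he
    obtain ⟨c₀, hc₀, hc₀0, hdiv⟩ := exists_ratio (exists_mem_fracSheaf η _ (h1 x) hηU) ψ.hom φ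
      (algebraMap K L) hψ he
    obtain ⟨i₀, -, hi₀⟩ := Finset.mem_image.1 hc₀
    have hco : ∀ i, ∃ t, φ t = algebraMap K L ((minpoly K x).coeff i) / algebraMap K L c₀ := fun i => by
      by_cases hi : i ≤ (minpoly K x).natDegree
      · exact hdiv _ (Finset.mem_image_of_mem _ (Finset.mem_range_succ_iff.2 hi))
      · exact ⟨0, by rw [Polynomial.coeff_eq_zero_of_natDegree_lt (not_le.1 hi)]; simp⟩
    rcases mem_or_inv_mem_of_poly φ hφint (algebraMap K L) (minpoly K x) hc₀0 ⟨i₀, hi₀⟩ hco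
        (minpoly.aeval K x) with h | ⟨a, ha⟩
    · exact h
    · by_cases hx0 : x = 0
      · show x ∈ _
        rw [hx0]
        exact zero_mem _
      have hu : IsUnit (lam.hom a) := by
        refine IsUnit.of_mul_eq_one (⟨x, hk z⟩ : V) (Subtype.ext ?_)
        show ((lam.hom a : V) : L) * x = 1
        rw [show ((lam.hom a : V) : L) = φ a from congrArg (fun m => CommRingCat.Hom.hom m a) hlam, ha,
          inv_mul_cancel₀ hx0]
      obtain ⟨a', ha'⟩ := (isUnit_of_map_unit lam.hom a hu).exists_right_inv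
      refine ⟨a', ?_⟩
      have := congrArg φ ha'
      rw [map_mul, map_one, ha] at this
      exact (inv_mul_eq_one₀ hx0).1 this |>.symm
  letI := ((E.f (j U k)).appLE U₀.1 (W U k) (hWU U k)).hom.toAlgebra
  have hall : ∀ z, c U k z ∈ φ.range := fun z => by
    have hz : z ∈ Algebra.adjoin Γ(X, U₀.1) (T U k : Set Γ(E.X (j U k), W U k)) := hT U k ▸ Algebra.mem_top
    induction hz using Algebra.adjoin_induction with
    | mem z hz => exact hx z hz
    | algebraMap a => exact ⟨ψ.hom a, (RingHom.congr_fun hψ a).trans (RingHom.congr_fun (hc U k) a).symm⟩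
    | add a b _ _ ha hb => rw [map_add]; exact add_mem ha hb
    | mul a b _ _ ha hb => rw [map_mul]; exact mul_mem ha hb
  let eφ := RingEquiv.ofBijective φ.rangeRestrict
    ⟨fun a b h => hφinj (congrArg Subtype.val h), φ.rangeRestrict_surjective⟩
  let γ : Γ(E.X (j U k), W U k) →+* g'.normalization.presheaf.stalk y :=
    eφ.symm.toRingHom.comp ((c U k).codRestrict φ.range hall)
  have hγ : ∀ z, φ (γ z) = c U k z := fun z => congrArg Subtype.val (eφ.apply_symm_apply ⟨c U k z, hall z⟩)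
  have hcomp : (E.f (j U k)).appLE U₀.1 (W U k) (hWU U k) ≫ CommRingCat.ofHom γ = ψ :=
    CommRingCat.hom_ext (RingHom.ext fun a => hφinj ((hγ _).trans
      ((RingHom.congr_fun (hc U k) a).trans (RingHom.congr_fun hψ a).symm)))
  obtain ⟨O, hyO, f, -, hf⟩ := spread_out_of_isGermInjective' r (E.f (j U k))
    (Spec.map (CommRingCat.ofHom γ) ≫ (hW U k).fromSpec) (by
      rw [Category.assoc, ← IsAffineOpen.SpecMap_appLE_fromSpec _ U₀.2 (hW U k) (hWU U k), ← Category.assoc,
        ← Spec.map_comp, hcomp, SpecMap_app_germ])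
  exact ⟨_, O.ι, j U k, f, inferInstance, ⟨⟨y, hyO⟩, rfl⟩, hf⟩

end Groth.Agent.HTop83
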