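import Groth.Prelude.Def_CohB1
import Groth.Agent.PnCoh.Chow.Proper
import Mathlib.AlgebraicGeometry.Morphisms.Immersion
import Mathlib.AlgebraicGeometry.ProjectiveSpectrum.Proper
import Mathlib.RingTheory.FiniteType

/-!
# Affine schemes of finite type as opens of proper schemes
-/

set_option autoImplicit false

universe u

noncomputable section

namespace Groth.Agent.HTop83

open CategoryTheory CategoryTheory.Limits AlgebraicGeometry MvPolynomial
open HomogeneousLocalization (Away)

variable {A B : Type u} [CommRing A] [CommRing B] (φ : A →+* B) (n : ℕ) (b : Fin n → B)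

theorem X_zero_mem_one : (X 0 : MvPolynomial (Fin (n + 1)) A) ∈ CohB1.polyGrading n A 1 :=
  MvPolynomial.isHomogeneous_X A 0

/-- The value of a chart function at the point `(1 : b)`. -/
def chartEval : Away (CohB1.polyGrading n A) (X 0 : MvPolynomial (Fin (n + 1)) A) →+* B :=
  (IsLocalization.Away.lift (X 0 : MvPolynomial (Fin (n + 1)) A)
      (S := Localization (Submonoid.powers (X 0 : MvPolynomial (Fin (n + 1)) A)))
      (g := MvPolynomial.eval₂Hom φ (Fin.cons 1 b)) (by simp)).comp
    (algebraMap (Away (CohB1.polyGrading n A) (X 0 : MvPolynomial (Fin (n + 1)) A))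
      (Localization (Submonoid.powers (X 0 : MvPolynomial (Fin (n + 1)) A))))

theorem chartEval_base :
    (chartEval φ n b).comp ((HomogeneousLocalization.fromZeroRingHom (CohB1.polyGrading n A) _).comp
      (algebraMap A (CohB1.polyGrading n A 0))) = φ := by
  refine RingHom.ext fun c => ?_
  have h : ((HomogeneousLocalization.fromZeroRingHom (CohB1.polyGrading n A)
      (Submonoid.powers (X 0 : MvPolynomial (Fin (n + 1)) A))) (algebraMap A (CohB1.polyGrading n A 0) c)).val =
      algebraMap (MvPolynomial (Fin (n + 1)) A) _ (C c) := by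
    show (HomogeneousLocalization.mk _).val = _
    rw [HomogeneousLocalization.val_mk, ← Localization.mk_one_eq_algebraMap]
    rfl
  simp only [chartEval, RingHom.comp_apply, HomogeneousLocalization.algebraMap_apply, h,
    IsLocalization.Away.lift_eq, MvPolynomial.eval₂Hom_C]

theorem chartEval_coord (j : Fin (n + 1)) :
    chartEval φ n b (Away.mk (CohB1.polyGrading n A) (X_zero_mem_one n) 1 (X j)
      (by rw [one_smul]; exact MvPolynomial.isHomogeneous_X A j)) = (Fin.cons 1 b : _ → B) j := by
  have hv : (Away.mk (CohB1.polyGrading n A) (X_zero_mem_one n) 1 (X j)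
      (by rw [one_smul]; exact MvPolynomial.isHomogeneous_X A j)).val *
        algebraMap (MvPolynomial (Fin (n + 1)) A) _ (X 0) =
      algebraMap (MvPolynomial (Fin (n + 1)) A)
        (Localization (Submonoid.powers (X 0 : MvPolynomial (Fin (n + 1)) A))) (X j) := by
    rw [HomogeneousLocalization.Away.val_mk, ← Localization.mk_one_eq_algebraMap,
      ← Localization.mk_one_eq_algebraMap, Localization.mk_mul, Localization.mk_eq_mk_iff,
      Localization.r_iff_exists]
    exact ⟨1, by simp [mul_comm]⟩
  have h := congrArg (IsLocalization.Away.lift (X 0 : MvPolynomial (Fin (n + 1)) A)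
      (S := Localization (Submonoid.powers (X 0 : MvPolynomial (Fin (n + 1)) A)))
      (g := MvPolynomial.eval₂Hom φ (Fin.cons 1 b)) (by simp)) hv
  simp only [map_mul, IsLocalization.Away.lift_eq, MvPolynomial.eval₂Hom_X', Fin.cons_zero, mul_one] at h
  exact h

theorem chartEval_surjective (hb : Function.Surjective (MvPolynomial.eval₂Hom φ b)) :
    Function.Surjective (chartEval φ n b) := by
  intro y
  obtain ⟨q, rfl⟩ := hb y
  induction q using MvPolynomial.induction_on with
  | C c =>
    rw [MvPolynomial.eval₂Hom_C]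
    exact ⟨_, RingHom.congr_fun (chartEval_base φ n b) c⟩
  | add p q hp hq =>
    obtain ⟨a, ha⟩ := hp
    obtain ⟨a', ha'⟩ := hq
    exact ⟨a + a', by rw [map_add, map_add, ha, ha']⟩
  | mul_X p i hp =>
    obtain ⟨a, ha⟩ := hp
    refine ⟨a * Away.mk (CohB1.polyGrading n A) (X_zero_mem_one n) 1 (X i.succ)
      (by rw [one_smul]; exact MvPolynomial.isHomogeneous_X A i.succ), ?_⟩
    rw [map_mul, map_mul, ha, chartEval_coord φ n b i.succ, Fin.cons_succ, MvPolynomial.eval₂Hom_X']

/-- An affine scheme of finite type over `Spec A` is open in a scheme proper over `Spec A`. -/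
theorem exists_compactification (A B : Type u) [CommRing A] [CommRing B] [Algebra A B]
    [Algebra.FiniteType A B] :
    ∃ (Q : Scheme.{u}) (r : Q ⟶ Spec (CommRingCat.of A)) (ι : Spec (CommRingCat.of B) ⟶ Q),
      IsProper r ∧ IsOpenImmersion ι ∧ ι ≫ r = Spec.map (CommRingCat.ofHom (algebraMap A B)) := by
  obtain ⟨n, f, hf⟩ := Algebra.FiniteType.iff_quotient_mvPolynomial''.1 ‹Algebra.FiniteType A B›
  have hf' : Function.Surjective (MvPolynomial.eval₂Hom (algebraMap A B) (fun i => f (X i))) := by
    have e : MvPolynomial.eval₂Hom (algebraMap A B) (fun i => f (X i)) = f.toRingHom :=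
      MvPolynomial.ringHom_ext (fun c => by
        rw [eval₂Hom_C]; exact (f.commutes c).symm) (fun i => by rw [eval₂Hom_X']; rfl)
    rw [e]; exact hf
  let c : Spec (CommRingCat.of B) ⟶ Proj (CohB1.polyGrading n A) :=
    Spec.map (CommRingCat.ofHom (chartEval (algebraMap A B) n (fun i => f (X i)))) ≫
      Proj.awayι (CohB1.polyGrading n A) (X 0) (X_zero_mem_one n) Nat.one_pos
  haveI : IsClosedImmersion
      (Spec.map (CommRingCat.ofHom (chartEval (algebraMap A B) n (fun i => f (X i))))) :=
    IsClosedImmersion.spec_of_surjective _ (chartEval_surjective _ n _ hf')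
  haveI : IsOpenImmersion (Proj.awayι (CohB1.polyGrading n A) (X 0) (X_zero_mem_one n) Nat.one_pos) := inferInstance
  haveI : IsImmersion c := inferInstanceAs (IsImmersion (_ ≫ _))
  have hp : IsProper (CohB1.ProjSpace.toSpec n A) := PnCoh.Chow.isProper_toSpec n A
  have hc : c ≫ CohB1.ProjSpace.toSpec n A = Spec.map (CommRingCat.ofHom (algebraMap A B)) := by
    show (_ ≫ Proj.awayι _ _ _ _) ≫ Proj.toSpecZero _ ≫ _ = _
    rw [Category.assoc, ← Category.assoc (Proj.awayι _ _ _ _), Proj.awayι_toSpecZero, ← Spec.map_comp,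
      ← Spec.map_comp, ← CommRingCat.ofHom_comp, ← CommRingCat.ofHom_comp, chartEval_base]
  haveI := hp.toIsSeparated
  have hqs : QuasiSeparatedSpace (CohB1.ProjSpace n A) :=
    quasiSeparatedSpace_of_quasiSeparated (CohB1.ProjSpace.toSpec n A)
  haveI : QuasiSeparatedSpace (Proj (CohB1.polyGrading n A)) := hqs
  haveI : QuasiCompact c := quasiCompact_of_compactSpace c
  exact ⟨c.image, c.imageι ≫ CohB1.ProjSpace.toSpec n A, c.toImage,
    MorphismProperty.comp_mem @IsProper _ _ (inferInstanceAs (IsProper c.imageι)) hp, inferInstance,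
    (Scheme.Hom.toImage_imageι_assoc c _).trans hc⟩

end Groth.Agent.HTop83
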