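import Groth.Prelude.Def_NonAbH2
import Groth.Agent.Rank2Red38.DSVal
import Groth.Agent.GrpSchLib.HomSplitLocal
import Groth.Agent.S5427
import Mathlib.AlgebraicGeometry.Morphisms.Flat
import Mathlib.RingTheory.FiniteStability

/-!
# Exact sequences of diagonalisable groups for the fppf topology

An injection `φ : M → N` of finitely generated groups with cokernel `ψ : N → P` gives an fppf exact
sequence `1 → D(P) → D(N) → D(M) → 1`.
-/

set_option autoImplicit false

universe u

open CategoryTheory CategoryTheory.Limits MonoidalCategory CartesianMonoidalCategory MonObj GrpObj AlgebraicGeometry Opposite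

noncomputable section

namespace Groth.Agent.HTop83

open Rank2Red38


variable {S : Scheme.{u}} {T : Over S} {M N P : Type} [AddCommGroup M] [AddCommGroup N] [AddCommGroup P]

/-- The ring map with prescribed values of the characters. -/
def valsHom {R : Type u} [CommRing R] (w : Multiplicative M →* R) : DCoord.{u} M →+* R :=
  MonoidAlgebra.liftNCRingHom ((Int.castRingHom R).comp (ULift.ringEquiv : ULift.{u} ℤ ≃+* ℤ).toRingHom)
    w (fun _ _ => Commute.all _ _)

theorem valsHom_mono {R : Type u} [CommRing R] (w : Multiplicative M →* R) (m : M) :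
    valsHom w (mono m) = w (Multiplicative.ofAdd m) := by
  simp [valsHom, MonoidAlgebra.liftNCRingHom_single]

/-- The point of `D_S(M)` with prescribed values of the characters. -/
def dsOfVals (w : Multiplicative M →* Γ(T.left, ⊤)) : T ⟶ Red.DS S M :=
  Over.homMk (pullback.lift
      (T.left.toSpecΓ ≫ Spec.map (CommRingCat.ofHom (valsHom w)))
      T.hom (specULiftZIsTerminal.hom_ext _ _))
    (pullback.lift_snd _ _ _)

theorem dsVal_dsOfVals (w : Multiplicative M →* Γ(T.left, ⊤)) (m : M) :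
    dsVal (dsOfVals w) m = w (Multiplicative.ofAdd m) := by
  have h : dsPt (dsOfVals w) = T.left.toSpecΓ ≫ Spec.map (CommRingCat.ofHom (valsHom w)) :=
    pullback.lift_fst _ _ _
  rw [dsVal, dsHom, h, Scheme.Hom.comp_appTop, ← Category.assoc,
    ← Scheme.ΓSpecIso_inv_naturality, Category.assoc, Scheme.toSpecΓ_appTop, Iso.inv_hom_id,
    Category.comp_id, CommRingCat.hom_ofHom]
  exact valsHom_mono w m

theorem dsVal_one (m : M) : dsVal (1 : T ⟶ Red.DS S M) m = 1 := by
  have h : (1 : T ⟶ Red.DS S M) ≫ Red.chi S m = 1 := by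
    haveI := S5427.isMonHom_DSmap S (zmultiplesHom M m : ℤ →+ M)
    show (1 : T ⟶ Red.DS S M) ≫ Red.DSmap S (zmultiplesHom M m : ℤ →+ M) = 1
    exact MonObj.one_comp _
  rw [← gmFn_chi, h, GmPts.gmFn_one]

/-- Points killed by `D(φ)` come uniquely from `D` of the cokernel. -/
theorem existsUnique_of_exact (φ : M →+ N) (ψ : N →+ P) (hψ : Function.Surjective ψ)
    (hker : ∀ n, ψ n = 0 → ∃ m, φ m = n) (d : T ⟶ Red.DS S N) (hd : d ≫ Red.DSmap S φ = 1) :
    ∃ k : T ⟶ Red.DS S P, k ≫ Red.DSmap S ψ = d ∧ ∀ k', k' ≫ Red.DSmap S ψ = d → k' = k := by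
  have hval : ∀ n n', ψ n = ψ n' → dsVal d n = dsVal d n' := fun n n' e => by
    obtain ⟨m, hm⟩ := hker (n - n') (by rw [map_sub, e, sub_self])
    have h1 : dsVal d (φ m) = 1 := by rw [← dsVal_map, hd, dsVal_one]
    rw [show n = φ m + n' by rw [hm, sub_add_cancel], dsVal_add, h1, _root_.one_mul]
  let w : Multiplicative P →* Γ(T.left, ⊤) :=
    { toFun := fun p => dsVal d (Function.surjInv hψ p.toAdd)
      map_one' := (hval _ 0 (by simp [Function.surjInv_eq hψ])).trans (dsVal_zero d)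
      map_mul' := fun p q => by
        rw [← dsVal_add]
        exact hval _ _ (by simp [Function.surjInv_eq hψ]) }
  refine ⟨dsOfVals w, ds_ext fun n => ?_, fun k' hk' => ds_ext fun p => ?_⟩
  · rw [dsVal_map, dsVal_dsOfVals]
    exact hval _ _ (Function.surjInv_eq hψ _)
  · obtain ⟨n, rfl⟩ := hψ p
    rw [dsVal_dsOfVals, ← dsVal_map, hk']
    exact (hval _ _ (Function.surjInv_eq hψ _)).symm

/-- `D(ψ) ≫ D(φ)` is trivial when `ψ ∘ φ = 0`. -/
theorem DSmap_comp_eq_one (φ : M →+ N) (ψ : N →+ P) (h : ∀ m, ψ (φ m) = 0) :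
    Red.DSmap S ψ ≫ Red.DSmap S φ = 1 := ds_ext fun m => by
  rw [dsVal_map, ← Category.id_comp (Red.DSmap S ψ), dsVal_map, h, dsVal_zero, dsVal_one]

/-- The map of `D` along an injection of finitely generated groups is an fppf covering. -/
theorem DSmap_fppf (φ : M →+ N) (hφ : Function.Injective φ) [AddGroup.FG N] [AddGroup.FG M] :
    Flat (Red.DSmap S φ).left ∧ Surjective (Red.DSmap S φ).left ∧
      LocallyOfFinitePresentation (Red.DSmap S φ).left := by
  obtain ⟨h1, h2⟩ := GrpSchLib.HomSplitLocal.flat_surjective_of_injective (ULift.{u} ℤ) φ hφ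
  haveI h3 : LocallyOfFinitePresentation (Red.diagMap (ULift.{u} ℤ) φ).left := by
    refine (HasRingHomProperty.Spec_iff (P := @LocallyOfFinitePresentation)).2 ?_
    haveI : IsNoetherianRing (ULift.{u} ℤ) := isNoetherianRing_of_ringEquiv ℤ ULift.ringEquiv.symm
    haveI : IsNoetherianRing (MonoidAlgebra (ULift.{u} ℤ) (Multiplicative M)) :=
      Algebra.FiniteType.isNoetherianRing (ULift.{u} ℤ) _
    let f := MonoidAlgebra.mapDomainAlgHom (ULift.{u} ℤ) (ULift.{u} ℤ) (AddMonoidHom.toMultiplicative φ)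
    have hf : f.toRingHom.FiniteType :=
      RingHom.FiniteType.of_comp_finiteType (f := algebraMap (ULift.{u} ℤ) _) (by
        rw [AlgHom.toRingHom_eq_coe, AlgHom.comp_algebraMap]
        exact RingHom.finiteType_algebraMap.mpr inferInstance)
    exact RingHom.FinitePresentation.of_finiteType.mp hf
  haveI : Flat (Red.diagMap (ULift.{u} ℤ) φ).left := h1
  haveI : Surjective (Red.diagMap (ULift.{u} ℤ) φ).left := h2
  have sq := (GrpSchLib.HomSplitLocal.isPullback_map (Red.diagMap (ULift.{u} ℤ) φ)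
    (IsTerminal.from specULiftZIsTerminal S)).flip
  exact ⟨MorphismProperty.of_isPullback sq.flip inferInstance, MorphismProperty.of_isPullback sq.flip inferInstance,
    MorphismProperty.of_isPullback sq.flip inferInstance⟩

/-- Exactness from the kernel property and local triviality. -/
theorem isExactSeq_of_kernel {G' G G'' : Over S} [GrpObj G'] [GrpObj G] [GrpObj G'']
    (u : G' ⟶ G) (v : G ⟶ G'') (hu : IsMonHom u) (hv : IsMonHom v) (huv : u ≫ v = 1)
    (hker : ∀ {T : Over S} (d : T ⟶ G), d ≫ v = 1 → ∃ k : T ⟶ G', k ≫ u = d ∧ ∀ k', k' ≫ u = d → k' = k)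
    (htriv : NonAbH1.IsLocallyTrivialFor Scheme.fppfPrecoverage (Over.mk v.left : Over G''.left)) :
    NonAbH1.IsExactSeq Scheme.fppfPrecoverage u v := by
  have h3 : (G ◁ u) ≫ μ[G] = fst G G' * (snd G G' ≫ u) := by
    rw [Hom.mul_def]
    congr 1
  have w : fst G G' ≫ v = ((G ◁ u) ≫ μ[G]) ≫ v := by
    rw [h3, MonObj.mul_comp, Category.assoc, huv, MonObj.comp_one, _root_.mul_one]
  have hd : ∀ s : PullbackCone v v, (s.fst⁻¹ * s.snd) ≫ v = 1 := fun s => by
    rw [MonObj.mul_comp, GrpObj.inv_comp, s.condition, _root_.inv_mul_cancel]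
  choose k hk hku using fun s : PullbackCone v v => hker _ (hd s)
  refine ⟨hu, hv, huv, ⟨⟨w⟩, ⟨PullbackCone.IsLimit.mk w (fun s => lift s.fst (k s)) (fun s => lift_fst _ _) (fun s => ?_)
    (fun s m hm1 hm2 => ?_)⟩⟩, htriv⟩
  · rw [h3, MonObj.comp_mul, lift_fst, ← Category.assoc, lift_snd, hk, mul_inv_cancel_left]
  · refine CartesianMonoidalCategory.hom_ext _ _ (by rw [lift_fst]; exact hm1) ?_
    rw [lift_snd]
    refine hku s _ (mul_left_cancel (a := s.fst) ?_)
    rw [mul_inv_cancel_left, ← hm2, h3, MonObj.comp_mul, hm1, Category.assoc]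

theorem isExactSeq_DSmap (φ : M →+ N) (ψ : N →+ P) (hφ : Function.Injective φ)
    (hψ : Function.Surjective ψ) (h : ∀ n, ψ n = 0 ↔ ∃ m, φ m = n) [AddGroup.FG N] [AddGroup.FG M] :
    NonAbH1.IsExactSeq Scheme.fppfPrecoverage (Red.DSmap S ψ) (Red.DSmap S φ) := by
  refine isExactSeq_of_kernel _ _ (S5427.isMonHom_DSmap S ψ) (S5427.isMonHom_DSmap S φ)
    (DSmap_comp_eq_one φ ψ fun m => (h _).2 ⟨m, rfl⟩)
    (fun d hd => existsUnique_of_exact φ ψ hψ (fun n => (h n).1) d hd) ?_
  obtain ⟨i1, i2, i3⟩ := DSmap_fppf (S := S) φ hφ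
  exact ⟨_, (Red.DSmap S φ).left.singleton_mem_fppfPrecoverage, fun S' g hg => by
    cases hg
    exact ⟨𝟙 _, Category.id_comp _⟩⟩

end Groth.Agent.HTop83
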