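import Groth.Agent.FinEtSheaf.Ab
import Groth.Prelude.Def_EtCore
import Mathlib.CategoryTheory.Sites.Subsheaf
import Mathlib.Algebra.Homology.DerivedCategory.Ext.EnoughInjectives
import Mathlib.Algebra.Homology.DerivedCategory.Ext.Map

/-!
# Degree one classes with finite locally constant coefficients are killed by finite etale covers

The torsor of local lifts of a section along an epimorphism with finite locally constant kernel is represented
by a finite etale surjective scheme, on which the section lifts.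
-/

set_option autoImplicit false
set_option backward.isDefEq.respectTransparency false
set_option backward.isDefEq.respectTransparency.types false

universe u

noncomputable section

namespace Groth.Agent.HTop83.ETorsor

open CategoryTheory CategoryTheory.Limits AlgebraicGeometry Opposite Groth.Agent.FinEtSheaf

variable {X : Scheme.{u}} {S : ShortComplex (EtCoh.Ab X)} (σ : S.X₃.obj.obj (op (EtCoh.top X)))

/-- The map to the final object. -/
abbrev toTop (V : X.Etale) : V ⟶ EtCoh.top X := (EtCore.topIsTerminal X).from V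

theorem map_comp_apply' (F : X.Etaleᵒᵖ ⥤ AddCommGrpCat.{u + 1}) {U V W : X.Etale} (g : W ⟶ V) (h : V ⟶ U)
    (x : F.obj (op U)) : F.map (g ≫ h).op x = F.map g.op (F.map h.op x) := by
  rw [op_comp, Functor.map_comp]; rfl

theorem map_toTop (F : X.Etaleᵒᵖ ⥤ AddCommGrpCat.{u + 1}) {V W : X.Etale} (g : W ⟶ V) (x : F.obj (op (EtCoh.top X))) :
    F.map g.op (F.map (toTop V).op x) = F.map (toTop W).op x := by
  rw [← map_comp_apply']
  exact congrArg (fun k => F.map (Quiver.Hom.op k) x) ((EtCore.topIsTerminal X).hom_ext _ _)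

theorem nat_apply {F G : EtCoh.Ab X} (f : F ⟶ G) {V W : X.Etale} (g : W ⟶ V) (x : F.obj.obj (op V)) :
    f.hom.app (op W) (F.obj.map g.op x) = G.obj.map g.op (f.hom.app (op V) x) :=
  ConcreteCategory.congr_hom (f.hom.naturality g.op) x

variable (S) in
/-- The local lifts of the section. -/
def liftsSub : Subfunctor (setSheaf S.X₂).obj where
  obj U := {x | S.g.hom.app U x = S.X₃.obj.map (toTop U.unop).op σ}
  map {U V} i x hx := by
    show S.g.hom.app V (S.X₂.obj.map i.unop.op x) = _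
    rw [nat_apply, hx]
    exact map_toTop S.X₃.obj i.unop σ

theorem isSheaf_liftsSub : Presieve.IsSheaf X.smallEtaleTopology (liftsSub S σ).toFunctor := by
  refine (Subfunctor.isSheaf_iff _ ((isSheaf_iff_isSheaf_of_type _ _).1 (setSheaf S.X₂).property)).2 fun U s hs => ?_
  refine (((isSheaf_iff_isSheaf_of_type _ _).1 (setSheaf S.X₃).property).isSeparated _ hs).ext fun V i hi => ?_
  show S.X₃.obj.map i.op (S.g.hom.app U s) = S.X₃.obj.map i.op (S.X₃.obj.map (toTop U.unop).op σ)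
  rw [map_toTop, ← nat_apply]
  exact hi

/-- The sheaf of local lifts. -/
def liftsSh : EtDesc.Sh X := ⟨(liftsSub S σ).toFunctor, (isSheaf_iff_isSheaf_of_type _ _).2 (isSheaf_liftsSub σ)⟩

theorem sections_exact (hS : S.ShortExact) {V : X.Etale} (y : S.X₂.obj.obj (op V))
    (hy : S.g.hom.app (op V) y = 0) : ∃ x, S.f.hom.app (op V) x = y := by
  let G := sheafToPresheaf X.smallEtaleTopology AddCommGrpCat.{u + 1} ⋙ (evaluation _ _).obj (op V)
  haveI : G.PreservesZeroMorphisms := ⟨fun _ _ => rfl⟩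
  have h := hS.exact.map_of_mono_of_preservesKernel G hS.mono_f inferInstance
  rw [ShortComplex.ab_exact_iff] at h
  exact h y hy

theorem sections_injective (hS : S.ShortExact) (V : X.Etale) : Function.Injective (S.f.hom.app (op V)) := by
  let G := sheafToPresheaf X.smallEtaleTopology AddCommGrpCat.{u + 1} ⋙ (evaluation _ _).obj (op V)
  haveI := hS.mono_f
  exact (AddCommGrpCat.mono_iff_injective _).1 (inferInstanceAs (Mono (G.map S.f)))

theorem exists_lift (hS : S.ShortExact) {Ω : Type u} [Field Ω] [IsSepClosed Ω]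
    (ξ : Spec (CommRingCat.of Ω) ⟶ X) :
    ∃ (V : X.Etale) (_ : (Scheme.pointSmallEtale ξ).fiber.obj V) (e : S.X₂.obj.obj (op V)),
      S.g.hom.app (op V) e = S.X₃.obj.map (toTop V).op σ := by
  haveI := hS.epi_g
  haveI : Sheaf.IsLocallySurjective S.g := (Sheaf.isLocallySurjective_iff_epi' AddCommGrpCat.{u + 1} S.g).2 inferInstance
  obtain ⟨V, g, ⟨e, he⟩, v, -⟩ := (Scheme.pointSmallEtale ξ).jointly_surjective _
    (Presheaf.imageSieve_mem X.smallEtaleTopology S.g.hom (U := op (EtCoh.top X)) σ)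
    (CategoryTheory.Over.homMk ξ (Category.comp_id _))
  exact ⟨V, v, e, he.trans (congrArg (fun k => S.X₃.obj.map (Quiver.Hom.op k) σ) ((EtCore.topIsTerminal X).hom_ext _ _))⟩

/-- Translation of the values of the kernel by a local lift. -/
def translate {W : X.Etale} {n : ℕ} (φ : ULift.{u + 1} (Fin n) ⟶ (setSheaf S.X₁).obj.obj (op W))
    (e : S.X₂.obj.obj (op W)) (he : S.g.hom.app (op W) e = S.X₃.obj.map (toTop W).op σ) :
    ULift.{u + 1} (Fin n) ⟶ (liftsSh σ).obj.obj (op W) :=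
  TypeCat.ofHom fun k => ⟨S.f.hom.app (op W) (φ k) + e, by
    have h0 : S.g.hom.app (op W) (S.f.hom.app (op W) (φ k)) = 0 :=
      congr(($S.zero).hom.app (op W) (φ k))
    show S.g.hom.app (op W) _ = _
    rw [map_add, h0, zero_add]
    exact he⟩

theorem constBy_translate (hS : S.ShortExact) {W : X.Etale} {n : ℕ}
    {φ : ULift.{u + 1} (Fin n) ⟶ (setSheaf S.X₁).obj.obj (op W)} (hφ : EtFound.ConstBy (setSheaf S.X₁) φ)
    (e : S.X₂.obj.obj (op W)) (he : S.g.hom.app (op W) e = S.X₃.obj.map (toTop W).op σ) :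
    EtFound.ConstBy (liftsSh σ) (translate σ φ e he) := by
  intro Ω _ _ ξ z
  let Φ := Scheme.pointSmallEtale ξ
  refine ⟨fun k k' hk => (hφ Ω ξ z).1 ?_, fun p => ?_⟩
  · obtain ⟨V, g, v, hv, hg⟩ := (Φ.toPresheafFiber_eq_iff' (P := (liftsSh σ).obj) W z _ _).1 hk
    refine (Φ.toPresheafFiber_eq_iff' (P := (setSheaf S.X₁).obj) W z _ _).2 ⟨V, g, v, hv, sections_injective hS V ?_⟩
    have h : S.X₂.obj.map g.op (S.f.hom.app (op W) (φ k) + e) =
        S.X₂.obj.map g.op (S.f.hom.app (op W) (φ k') + e) := congrArg Subtype.val hg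
    rw [map_add, map_add, add_left_inj] at h
    exact (nat_apply S.f g (φ k)).trans (h.trans (nat_apply S.f g (φ k')).symm)
  · obtain ⟨V, v, x, rfl⟩ := Φ.toPresheafFiber_jointly_surjective (P := (liftsSh σ).obj) p
    obtain ⟨⟨T, t⟩, ⟨a₀, ha₀⟩, ⟨b₀, hb₀⟩, -⟩ := IsCofilteredOrEmpty.cone_objs
      (Φ.fiber.elementsMk V v) (Φ.fiber.elementsMk W z)
    obtain ⟨a, ha⟩ : ∃ a : T ⟶ V, Φ.fiber.map a t = v := ⟨a₀, ha₀⟩
    obtain ⟨b, hb⟩ : ∃ b : T ⟶ W, Φ.fiber.map b t = z := ⟨b₀, hb₀⟩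
    subst ha hb
    obtain ⟨y, hy⟩ := sections_exact hS (S.X₂.obj.map a.op x.1 - S.X₂.obj.map b.op e) (by
      rw [map_sub, nat_apply, nat_apply, x.2, he, map_toTop, map_toTop, sub_self])
    obtain ⟨k, hk⟩ := (hφ Ω ξ (Φ.fiber.map b t)).2 (Φ.toPresheafFiber T t (setSheaf S.X₁).obj y)
    obtain ⟨T', g, t', ht', hg⟩ := (Φ.toPresheafFiber_eq_iff' (P := (setSheaf S.X₁).obj) T t _ _).1
      ((Φ.toPresheafFiber_w_apply b t (setSheaf S.X₁).obj (φ k)).trans hk)
    refine ⟨k, ?_⟩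
    refine (Φ.toPresheafFiber_w_apply b t (liftsSh σ).obj (translate σ φ e he k)).symm.trans (Eq.trans ?_
      (Φ.toPresheafFiber_w_apply a t (liftsSh σ).obj x))
    refine (Φ.toPresheafFiber_eq_iff' (P := (liftsSh σ).obj) T t _ _).2 ⟨T', g, t', ht', Subtype.ext ?_⟩
    show S.X₂.obj.map g.op (S.X₂.obj.map b.op (S.f.hom.app (op W) (φ k) + e)) =
      S.X₂.obj.map g.op (S.X₂.obj.map a.op x.1)
    have hg' : S.X₁.obj.map g.op (S.X₁.obj.map b.op (φ k)) = S.X₁.obj.map g.op y := hg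
    have h2 := congrArg (S.f.hom.app (op T')) hg'
    rw [nat_apply, nat_apply, nat_apply, hy, map_sub] at h2
    rw [map_add, map_add, h2, sub_add_cancel]

theorem exists_triv (hS : S.ShortExact) (hF : EtCoh.IsFiniteLocallyConstant S.X₁) :
    ∃ t : Triv (liftsSh σ), ∀ i, Nonempty ((liftsSh σ).obj.obj (op (t.U i))) := by
  obtain ⟨t⟩ := exists_triv_setSheaf hF
  have hpt : ∀ x : X, ∃ (W : X.Etale) (n : ℕ) (φ : ULift.{u + 1} (Fin n) ⟶ (setSheaf S.X₁).obj.obj (op W))
      (_ : EtFound.ConstBy (setSheaf S.X₁) φ) (e : S.X₂.obj.obj (op W))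
      (_ : S.g.hom.app (op W) e = S.X₃.obj.map (toTop W).op σ), x ∈ Set.range W.hom.base := fun x => by
    obtain ⟨i, y, hy⟩ := t.covers x
    obtain ⟨Ω, _, _, ξ, z, hz⟩ := EtFound.exists_algClosed_point (t.U i) y
    obtain ⟨V, v, e, he⟩ := exists_lift σ hS ξ
    obtain ⟨⟨W, w⟩, ⟨a₀, ha₀⟩, ⟨b₀, hb₀⟩, -⟩ := IsCofilteredOrEmpty.cone_objs
      ((Scheme.pointSmallEtale ξ).fiber.elementsMk (t.U i) z) ((Scheme.pointSmallEtale ξ).fiber.elementsMk V v)
    obtain ⟨a, ha⟩ : ∃ a : W ⟶ t.U i, (Scheme.pointSmallEtale ξ).fiber.map a w = z := ⟨a₀, ha₀⟩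
    obtain ⟨b, -⟩ : ∃ b : W ⟶ V, (Scheme.pointSmallEtale ξ).fiber.map b w = v := ⟨b₀, hb₀⟩
    refine ⟨W, t.n i, TypeCat.ofHom fun k => S.X₁.obj.map a.op (t.φ i k), fun Ω' _ _ ξ' z' => ?_,
      S.X₂.obj.map b.op e, by rw [nat_apply, he, map_toTop],
      (w.left : Spec (CommRingCat.of Ω) ⟶ W.left).base (default : Spec (CommRingCat.of Ω)), ?_⟩
    · refine Eq.mpr (congrArg Function.Bijective (funext fun k => ?_))
        (t.hφ i Ω' ξ' ((Scheme.pointSmallEtale ξ').fiber.map a z'))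
      exact (Scheme.pointSmallEtale ξ').toPresheafFiber_w_apply a z' (setSheaf S.X₁).obj (t.φ i k)
    · rw [← hy, ← hz]
      refine ((Scheme.Hom.comp_apply _ _ _).symm.trans ?_).trans (Scheme.Hom.comp_apply _ _ _)
      exact (congrArg (fun q : Spec (CommRingCat.of Ω) ⟶ X => q default)
        ((CategoryTheory.Over.w w).trans (CategoryTheory.Over.w z).symm))
  choose W n φ hφ e he hx using hpt
  refine ⟨⟨X, W, fun x => ⟨x, (hx x).choose, (hx x).choose_spec⟩, n, fun x => translate σ (φ x) (e x) (he x),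
    fun x => constBy_translate σ hS (hφ x) (e x) (he x)⟩, fun x => ⟨⟨e x, he x⟩⟩⟩

/-- Sections along an epimorphism with finite locally constant kernel lift on a finite etale cover. -/
theorem exists_finite_lift (hS : S.ShortExact) (hF : EtCoh.IsFiniteLocallyConstant S.X₁) :
    ∃ (U : X.Etale) (_ : IsFinite U.hom) (_ : Surjective U.hom) (e : S.X₂.obj.obj (op U)),
      S.g.hom.app (op U) e = S.X₃.obj.map (toTop U).op σ := by
  obtain ⟨t, ht⟩ := exists_triv σ hS hF
  obtain ⟨U, hU, ⟨i⟩⟩ := exists_repSh_iso t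
  let j := (sheafToPresheaf _ _).mapIso (i ≪≫ repShIso U)
  let e : (liftsSh σ).obj.obj (op U) := j.inv.app (op U) (taut U)
  refine ⟨U, hU, ⟨fun x => ?_⟩, e.1, e.2⟩
  obtain ⟨k, y, hy⟩ := t.covers x
  obtain ⟨s⟩ := ht k
  let m : t.U k ⟶ U := (j.hom.app (op (t.U k)) s).down
  refine ⟨m.left y, ?_⟩
  exact ((Scheme.Hom.comp_apply _ _ _).symm.trans (congr($(MorphismProperty.Over.w m) y))).trans hy

end Groth.Agent.HTop83.ETorsor
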