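import Groth.Agent.HTop83.ETorsor

/-!
# Killing degree one classes by finite etale covers
-/

set_option autoImplicit false
set_option backward.isDefEq.respectTransparency false
set_option backward.isDefEq.respectTransparency.types false

universe u

noncomputable section

namespace Groth.Agent.HTop83.ETorsor

open CategoryTheory CategoryTheory.Limits AlgebraicGeometry Opposite

variable {Y Y' : Scheme.{u}}

/-- A lift of a section over an etale object gives, after pulling back to it, a lift of the whole map. -/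
theorem exists_pull_lift {S : ShortComplex (EtCoh.Ab Y)} (s : EtCoh.const Y ℤ ⟶ S.X₃) (U : Y.Etale)
    (e : S.X₂.obj.obj (op U))
    (he : S.g.hom.app (op U) e = S.X₃.obj.map (toTop U).op
      ((EtCore.constAdj Y).homEquiv _ _ s (ULift.up (1 : ℤ)))) :
    ∃ t : (EtCoh.pull U.hom).obj (EtCoh.const Y ℤ) ⟶ (EtCoh.pull U.hom).obj S.X₂,
      t ≫ (EtCoh.pull U.hom).map S.g = (EtCoh.pull U.hom).map s := by
  let g : U.left ⟶ Y := U.hom
  let η := (EtCoh.pullPushAdj g).unit
  let d : (EtCoh.bc g).obj (EtCoh.top Y) ⟶ (EtCoh.bc g).obj U :=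
    MorphismProperty.Over.homMk
      (pullback.lift (f := U.hom) (g := g) (pullback.snd (𝟙 Y) g) (pullback.snd (𝟙 Y) g) rfl)
      (pullback.lift_snd _ _ _)
  have hd : d ≫ (EtCoh.bc g).map (toTop U) = 𝟙 _ := (EtCore.bcTopIsTerminal g).hom_ext _ _
  let P := (EtCoh.pull g).obj S.X₂
  let e' : P.obj.obj (op ((EtCoh.bc g).obj (EtCoh.top Y))) := P.obj.map d.op ((η.app S.X₂).hom.app (op U) e)
  let σ := (EtCore.constAdj Y).homEquiv _ _ s (ULift.up (1 : ℤ))
  have key : ((EtCoh.pull g).map S.g).hom.app (op ((EtCoh.bc g).obj (EtCoh.top Y))) e' =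
      (η.app S.X₃).hom.app (op (EtCoh.top Y)) σ := by
    have h1 : ((EtCoh.pull g).map S.g).hom.app (op ((EtCoh.bc g).obj U)) ((η.app S.X₂).hom.app (op U) e) =
        (η.app S.X₃).hom.app (op U) (S.g.hom.app (op U) e) :=
      (congr(($(η.naturality S.g)).hom.app (op U) e)).symm
    have h2 : (η.app S.X₃).hom.app (op U) (S.X₃.obj.map (toTop U).op σ) =
        ((EtCoh.pull g).obj S.X₃).obj.map ((EtCoh.bc g).map (toTop U)).op ((η.app S.X₃).hom.app (op (EtCoh.top Y)) σ) :=
      nat_apply (η.app S.X₃) (toTop U) σ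
    refine (nat_apply ((EtCoh.pull g).map S.g) d _).trans ?_
    rw [h1, he, h2, ← map_comp_apply', hd, op_id, CategoryTheory.Functor.map_id]
    rfl
  let t' : EtCoh.const Y ℤ ⟶ (EtCoh.push g).obj P :=
    ((EtCore.constAdj Y).homEquiv _ _).symm
      (AddCommGrpCat.ofHom ((zmultiplesHom _ e').comp AddEquiv.ulift.toAddMonoidHom))
  refine ⟨((EtCoh.pullPushAdj g).homEquiv _ _).symm t', ?_⟩
  apply ((EtCoh.pullPushAdj g).homEquiv _ _).injective
  rw [Adjunction.homEquiv_naturality_right, Equiv.apply_symm_apply, Adjunction.homEquiv_unit]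
  refine Eq.trans ?_ (η.naturality s)
  apply ((EtCore.constAdj Y).homEquiv _ _).injective
  rw [Adjunction.homEquiv_naturality_right, Adjunction.homEquiv_naturality_right]
  refine (congrArg (· ≫ _) (Equiv.apply_symm_apply _ _)).trans ?_
  refine AddCommGrpCat.hom_ext (AddMonoidHom.ext fun ⟨n⟩ => ?_)
  have h1 : ((EtCore.constAdj Y).homEquiv _ _ s) (ULift.up n) = n • σ := by
    rw [← map_zsmul]
    refine congrArg _ (ULift.ext _ _ ?_)
    show n = n • (1 : ℤ)
    simp
  show ((EtCoh.pull g).map S.g).hom.app (op ((EtCoh.bc g).obj (EtCoh.top Y))) (n • e') =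
    (η.app S.X₃).hom.app (op (EtCoh.top Y)) ((EtCore.constAdj Y).homEquiv _ _ s (ULift.up n))
  rw [map_zsmul, key, h1, map_zsmul]

/-- Degree one classes with finite locally constant coefficients die on a finite etale cover. -/
theorem exists_cover_kill (F : EtCoh.Ab Y) (hF : EtCoh.IsFiniteLocallyConstant F) (ζ : EtCoh.H Y F 1) :
    ∃ (Y' : Scheme.{u}) (g : Y' ⟶ Y), IsFinite g ∧ Etale g ∧ Surjective g ∧
      ∀ [PreservesFiniteLimits (EtCoh.pull g)], EtCore.Hpull g F 1 ζ = 0 := by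
  let S := ShortComplex.mk (Injective.ι F) (cokernel.π (Injective.ι F)) (cokernel.condition _)
  have hS : S.ShortExact :=
    { exact := ShortComplex.exact_of_g_is_cokernel _ (cokernelIsCokernel _) }
  obtain ⟨x, hx⟩ := Abelian.Ext.covariant_sequence_exact₁ _ hS ζ (Abelian.Ext.eq_zero_of_injective _) (zero_add 1)
  obtain ⟨s, rfl⟩ := (Abelian.Ext.mk₀_bijective _ _).2 x
  obtain ⟨U, hU, hsurj, e, he⟩ := exists_finite_lift
    (S := S) ((EtCore.constAdj Y).homEquiv _ _ s (ULift.up (1 : ℤ))) hS hF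
  refine ⟨U.left, U.hom, hU, U.prop, hsurj, ?_⟩
  intro inst
  haveI : PreservesFiniteLimits (EtCoh.pull U.hom) := inst
  obtain ⟨t, ht⟩ := exists_pull_lift (S := S) s U e he
  rw [← hx]
  show (Abelian.Ext.mk₀ (EtCore.pullConst U.hom ℤ).inv).comp
    (((Abelian.Ext.mk₀ s).comp hS.extClass (zero_add 1)).mapExactFunctor (EtCoh.pull U.hom)) (zero_add 1) = 0
  rw [Abelian.Ext.mapExactFunctor_comp, Abelian.Ext.mapExactFunctor_mk₀, ← ht, ← Abelian.Ext.mk₀_comp_mk₀,
    Abelian.Ext.comp_assoc _ _ _ (zero_add 0) (zero_add 1) (by omega), ← Abelian.Ext.mapExactFunctor_mk₀,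
    ← Abelian.Ext.mapExactFunctor_comp, ShortComplex.ShortExact.comp_extClass, Abelian.Ext.mapExactFunctor_zero,
    Abelian.Ext.comp_zero, Abelian.Ext.comp_zero]

end Groth.Agent.HTop83.ETorsor
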