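import Groth.Agent.HTopCov.Sheaf

/-!
Relative version of the reduction of the V sheaf property to single standard coverings of affine schemes.
-/

set_option backward.isDefEq.respectTransparency false
set_option backward.isDefEq.respectTransparency.types false

universe w w' u

noncomputable section

namespace Groth.Agent.HTop83

open CategoryTheory CategoryTheory.Limits AlgebraicGeometry IsLocalRing HTop Opposite Groth.Agent.HTopCov

variable {S : Scheme.{u}} (F : (Over S)ᵒᵖ ⥤ Type w)

/-- The sieve on an `S`-scheme of arrows lying in a sieve on the underlying scheme. -/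
abbrev lift (Y : Over S) (R : Sieve Y.left) : Sieve Y := (Sieve.overEquiv Y).symm R

theorem lift_pullback {Y Z : Over S} (f : Z ⟶ Y) (R : Sieve Y.left) :
    (lift Y R).pullback f = lift Z (R.pullback f.left) := Sieve.ext fun _ _ => Iff.rfl

/-- The sieves on schemes whose base changes to all `S`-schemes have the sheaf property for `F`. -/
def finOver : GrothendieckTopology Scheme.{u} where
  sieves T := {R | ∀ (Y : Over S) (g : Y.left ⟶ T), Presieve.IsSheafFor F (lift Y (R.pullback g)).arrows}
  top_mem' T Y g := by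
    have : lift Y ((⊤ : Sieve T).pullback g) = ⊤ := Sieve.ext fun _ _ => ⟨fun _ => trivial, fun _ => trivial⟩
    rw [this]
    exact Presieve.isSheafFor_top F
  pullback_stable' T T' R g hR Y h := by
    rw [← Sieve.pullback_comp]
    exact hR Y _
  transitive' T R hR R' hR' Y g := by
    refine Presieve.isSheafFor_trans F (lift Y (R.pullback g)) _ (hR Y g) (fun W f _ => ?_) fun W f hf => ?_
    · rw [lift_pullback, ← Sieve.pullback_comp]
      exact (hR _ _).isSeparatedFor
    · rw [lift_pullback, ← Sieve.pullback_comp]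
      have := hR' hf W (𝟙 W.left)
      rwa [← Sieve.pullback_comp, Category.id_comp] at this

variable {F}

/-- A sieve generated by a family over `S`. -/
theorem lift_generate {Y : Over S} {ι : Type*} (Z : ι → Over S) (g : ∀ i, Z i ⟶ Y) :
    lift Y (Sieve.ofArrows (fun i => (Z i).left) fun i => (g i).left) = Sieve.ofArrows Z g := by
  rw [OrderIso.symm_apply_eq, Sieve.overEquiv_ofArrows]

/-- A covering family, base changed to an `S`-scheme. -/
theorem lift_sieve₀_pullback {T : Scheme.{u}} (E : PreZeroHypercover.{w'} T) (Y : Over S) (g : Y.left ⟶ T) :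
    lift Y (E.sieve₀.pullback g) =
      Sieve.ofArrows (fun i => Over.mk (pullback.fst g (E.f i) ≫ Y.hom))
        (fun i => (Over.homMk (pullback.fst g (E.f i)) : Over.mk (pullback.fst g (E.f i) ≫ Y.hom) ⟶ Y)) := by
  rw [← sieve₀_pullback₁, ← lift_generate]
  rfl

/-- The relative sheaf property for coverings on the underlying schemes. -/
def IsSheafOverFor (F : (Over S)ᵒᵖ ⥤ Type w) (P : ∀ {T : Scheme.{u}}, PreZeroHypercover.{u} T → Prop) : Prop :=
  ∀ (Y : Over S) (E : PreZeroHypercover.{u} Y.left), P E →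
    Presieve.IsSheafFor F (Presieve.ofArrows (fun i => Over.mk (E.f i ≫ Y.hom))
      fun i => (Over.homMk (E.f i) : Over.mk (E.f i ≫ Y.hom) ⟶ Y))

theorem isSheafFor_lift {Y : Over S} (E : PreZeroHypercover.{w'} Y.left)
    (h : Presieve.IsSheafFor F (Presieve.ofArrows (fun i => Over.mk (E.f i ≫ Y.hom))
      fun i => (Over.homMk (E.f i) : Over.mk (E.f i ≫ Y.hom) ⟶ Y))) :
    Presieve.IsSheafFor F (lift Y E.sieve₀).arrows := by
  rw [Presieve.isSheafFor_iff_generate, ← Sieve.ofArrows] at h
  rw [← lift_generate] at h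
  exact h

theorem isOpenCover_isHCover {T : Scheme.{u}} (E : PreZeroHypercover.{u} T) (hE : ∀ i, IsOpenImmersion (E.f i))
    (hs : ∀ t, ∃ i x, E.f i x = t) : IsHCover E := by
  haveI := hE
  haveI : QuasiCompactCover E := by
    let C : T.OpenCover := .mkOfCovers E.I₀ E.X E.f (fun t => hs t) hE
    exact (QuasiCompactCover.of_isOpenMap (𝒰 := C) fun i => (C.f i).isOpenEmbedding.isOpenMap)
  exact ⟨fun i => inferInstance, isVCover_of_qc _ fun i => inferInstance⟩

theorem isSheafFor_of_hCover (h1 : IsHSheafOver S F) (Y : Over S) (E : PreZeroHypercover.{u} Y.left) (hE : IsHCover E) :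
    Presieve.IsSheafFor F (Presieve.ofArrows (fun i => Over.mk (E.f i ≫ Y.hom))
      fun i => (Over.homMk (E.f i) : Over.mk (E.f i ≫ Y.hom) ⟶ Y)) := by
  refine h1 _ ?_
  rw [Presieve.map_ofArrows]
  exact (presieve₀_mem_hPrecoverage_iff E).mpr hE

theorem isSheafFor_lift_open (h1 : IsHSheafOver S F) (Y : Over S) (E : PreZeroHypercover.{u} Y.left)
    (hE : ∀ i, IsOpenImmersion (E.f i)) (hs : ∀ t, ∃ i x, E.f i x = t) :
    Presieve.IsSheafFor F (lift Y E.sieve₀).arrows :=
  isSheafFor_lift E (isSheafFor_of_hCover h1 Y E (isOpenCover_isHCover E hE hs))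

theorem zariski_le_finOver (h1 : IsHSheafOver S F) : Scheme.zariskiTopology ≤ finOver F := fun T R hR Y g => by
  obtain ⟨𝒰, hle⟩ := Scheme.mem_grothendieckTopology_iff.mp (Scheme.zariskiTopology.pullback_stable g hR)
  have hle' : lift Y 𝒰.sieve₀ ≤ lift Y (R.pullback g) :=
    (Sieve.overEquiv Y).symm.monotone ((Sieve.generate_le_iff _ _).mpr hle)
  refine Presieve.isSheafFor_subsieve F hle' fun {W} f => ?_
  rw [lift_pullback, ← sieve₀_pullback₁]
  refine isSheafFor_lift_open h1 W _ (fun i => ?_) fun t => ?_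
  · haveI : IsOpenImmersion (𝒰.f i) := Scheme.Cover.map_prop 𝒰 i
    exact inferInstanceAs (IsOpenImmersion (pullback.fst f.left (𝒰.f i)))
  · obtain ⟨i, x, hx⟩ := 𝒰.exists_eq (f.left t)
    obtain ⟨z, hz, -⟩ := Scheme.Pullback.exists_preimage_pullback (f := f.left) (g := 𝒰.f i) t x hx.symm
    exact ⟨i, z, hz⟩

theorem separated_of_affine (h1 : IsHSheafOver S F) (Y : Over S) (R : Sieve Y.left)
    (h : ∀ (W : Over S) [IsAffine W.left] (g : W ⟶ Y), Presieve.IsSeparatedFor F (lift W (R.pullback g.left)).arrows) :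
    Presieve.IsSeparatedFor F (lift Y R).arrows := by
  intro x t₁ t₂ ht₁ ht₂
  let C := Y.left.affineCover.ulift
  refine (isSheafFor_of_hCover h1 Y C.toPreZeroHypercover
    (isOpenCover_isHCover _ (fun i => Scheme.Cover.map_prop _ i) fun t => C.exists_eq t)).isSeparatedFor.ext ?_
  intro W₀ f₀ hf₀
  cases hf₀ with | mk i => ?_
  let m : (Over.mk (C.f i ≫ Y.hom) : Over S) ⟶ Y := Over.homMk (C.f i)
  haveI : IsAffine (Over.mk (C.f i ≫ Y.hom) : Over S).left := inferInstanceAs (IsAffine (Y.left.affineCover.X _))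
  change F.map m.op t₁ = F.map m.op t₂
  refine (h (Over.mk (C.f i ≫ Y.hom)) m).ext fun {V} c hc => ?_
  rw [← Functor.map_comp_apply, ← Functor.map_comp_apply, ← op_comp]
  exact (ht₁ (c ≫ m) hc).trans (ht₂ (c ≫ m) hc).symm

/-- Membership in `finOver` can be tested on affine schemes. -/
theorem mem_finOver_of_affine (h1 : IsHSheafOver S F) {T : Scheme.{u}} (R : Sieve T)
    (h : ∀ (W : Over S) [IsAffine W.left] (g : W.left ⟶ T), Presieve.IsSheafFor F (lift W (R.pullback g)).arrows) :
    R ∈ finOver F T := fun Y g => by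
  have hsep : ∀ (Z : Over S) (g' : Z.left ⟶ T), Presieve.IsSeparatedFor F (lift Z (R.pullback g')).arrows :=
    fun Z g' => separated_of_affine h1 Z _ fun W _ c => by
      rw [← Sieve.pullback_comp]
      exact (h W _).isSeparatedFor
  intro x hx
  let C := Y.left.affineCover.ulift
  let Yi : C.I₀ → Over S := fun i => Over.mk (C.f i ≫ Y.hom)
  let m : ∀ i, Yi i ⟶ Y := fun i => Over.homMk (C.f i)
  have hcov := isSheafFor_of_hCover h1 Y C.toPreZeroHypercover
    (isOpenCover_isHCover _ (fun i => Scheme.Cover.map_prop _ i) fun t => C.exists_eq t)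
  haveI : ∀ i, IsAffine (Yi i).left := fun i => inferInstanceAs (IsAffine (Y.left.affineCover.X _))
  have hmem : ∀ (i : C.I₀) {V : Over S} (c : V ⟶ Yi i), (lift (Yi i) (R.pullback ((m i).left ≫ g))).arrows c →
      (lift Y (R.pullback g)).arrows (c ≫ m i) := fun i V c hc => by
    show R.arrows ((c ≫ m i).left ≫ g)
    rw [Over.comp_left, Category.assoc]
    exact hc
  have ha : ∀ i : C.I₀, ∃ a : F.obj (op (Yi i)), ∀ {V : Over S} (c : V ⟶ Yi i) (hc : _),
      F.map c.op a = x (c ≫ m i) (hmem i c hc) := fun i => by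
    obtain ⟨a, ha, -⟩ := h (Yi i) ((m i).left ≫ g) (fun V c hc => x (c ≫ m i) (hmem i c hc))
      fun V₁ V₂ Z g₁ g₂ c₁ c₂ h₁ h₂ he => hx g₁ g₂ _ _ (by rw [← Category.assoc, ← Category.assoc, he])
    exact ⟨a, fun c hc => ha c hc⟩
  choose a ha using ha
  have hcompat : Presieve.Arrows.Compatible F m a := fun i j Z g₁ g₂ he => by
    refine (hsep Z ((g₁ ≫ m i).left ≫ g)).ext fun {V} c hc => ?_
    have hc₁ : R.arrows (c.left ≫ (g₁ ≫ m i).left ≫ g) := hc
    rw [← Functor.map_comp_apply, ← Functor.map_comp_apply, ← op_comp, ← op_comp,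
      ha i (c ≫ g₁) (by
        show R.arrows ((c ≫ g₁).left ≫ (m i).left ≫ g)
        simpa only [Over.comp_left, Category.assoc] using hc₁),
      ha j (c ≫ g₂) (by
        show R.arrows ((c ≫ g₂).left ≫ (m j).left ≫ g)
        rw [he] at hc₁
        simpa only [Over.comp_left, Category.assoc] using hc₁)]
    congr 1
    rw [Category.assoc, Category.assoc, he]
  obtain ⟨t, ht, -⟩ := (Presieve.isSheafFor_arrows_iff F m).mp hcov a hcompat
  suffices key : Presieve.FamilyOfElements.IsAmalgamation x t from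
    ⟨t, key, fun t' ht' => (hsep Y g).ext fun {V} c hc => (ht' c hc).trans (key c hc).symm⟩
  intro W f hf
  · refine (isSheafFor_of_hCover h1 W (C.toPreZeroHypercover.pullback₁ f.left)
      (isOpenCover_isHCover _ (fun i => ?_) fun w => ?_)).isSeparatedFor.ext ?_
    · haveI : IsOpenImmersion (C.f i) := Scheme.Cover.map_prop C i
      exact inferInstanceAs (IsOpenImmersion (pullback.fst f.left (C.f i)))
    · obtain ⟨i, z, hz⟩ := C.exists_eq (f.left w)
      obtain ⟨p, hp, -⟩ := Scheme.Pullback.exists_preimage_pullback (f := f.left) (g := C.f i) w z hz.symm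
      exact ⟨i, p, hp⟩
    intro W₀ f₀ hf₀
    cases hf₀ with | mk i => ?_
    let q : (Over.mk (pullback.fst f.left (C.f i) ≫ W.hom) : Over S) ⟶ W := Over.homMk (pullback.fst f.left (C.f i))
    let r : (Over.mk (pullback.fst f.left (C.f i) ≫ W.hom) : Over S) ⟶ Yi i :=
      Over.homMk (pullback.snd f.left (C.f i)) (by
        show pullback.snd f.left (C.f i) ≫ C.f i ≫ Y.hom = pullback.fst f.left (C.f i) ≫ W.hom
        rw [← Category.assoc, ← pullback.condition, Category.assoc, Over.w f])
    have hqr : q ≫ f = r ≫ m i := Over.OverMorphism.ext pullback.condition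
    have hc : R.arrows (r.left ≫ (m i).left ≫ g) := by
      rw [← Category.assoc, ← Over.comp_left, ← hqr, Over.comp_left, Category.assoc]
      exact R.downward_closed hf _
    change F.map q.op (F.map f.op t) = F.map q.op (x f hf)
    rw [← Functor.map_comp_apply, ← op_comp, hqr, op_comp, Functor.map_comp_apply, ht i, ha i r hc]
    refine Eq.trans ?_ (hx (𝟙 _) q (hmem i r hc) hf (by rw [Category.id_comp, hqr]))
    rw [op_id, Functor.map_id_apply]

/-- A presheaf on `S`-schemes with the sheaf property for h coverings and for single standard V coverings of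
affine schemes has it for all V coverings. -/
theorem isVSheafOver_of_singleton (h1 : IsHSheafOver S F)
    (h : ∀ (W V : Over S) [IsAffine W.left] [IsAffine V.left] (f : V ⟶ W),
      IsStandardV (PreZeroHypercover.singleton.{u} f.left) → Presieve.IsSheafFor F (Presieve.singleton f)) :
    IsVSheafOver S F := by
  have hsingle : ∀ {T X : Scheme.{u}} (σ : X ⟶ T), IsStandardV (PreZeroHypercover.singleton.{u} σ) →
      (PreZeroHypercover.singleton.{u} σ).sieve₀ ∈ finOver F T := fun {T X} σ hσ => by
    refine mem_finOver_of_affine h1 _ fun W _ g => ?_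
    haveI := hσ.isAffine
    haveI : IsAffine X := hσ.isAffine_obj PUnit.unit
    let V : Over S := Over.mk (pullback.fst g σ ≫ W.hom)
    haveI : IsAffine V.left := inferInstanceAs (IsAffine (pullback g σ))
    let f : V ⟶ W := Over.homMk (pullback.fst g σ)
    have hf : IsStandardV (PreZeroHypercover.singleton.{u} f.left) := standardV_pullback₁ g _ hσ
    have := h W V f hf
    rw [lift_sieve₀_pullback, Sieve.ofArrows, ← Presieve.isSheafFor_iff_generate]
    exact (Presieve.ofArrows_pUnit.{u} f) ▸ this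
  intro Y R hR
  obtain ⟨E, hE, hER⟩ := PreZeroHypercoverFamily.mem_precoverage_iff.mp hR
  have hmem : E.sieve₀ ∈ finOver F Y.left := by
    refine sieve₀_mem_of_refines (zariski_le_finOver h1) E fun U => ?_
    obtain ⟨G, hG, hr⟩ := hE U
    refine ⟨G, ?_, hr⟩
    haveI := hG.finite_index
    obtain ⟨n, ⟨e⟩⟩ := Finite.exists_equiv_fin G.I₀
    let ι := ULift.{u} (Fin n)
    let X : ι → Scheme.{u} := fun i => G.X (e.symm i.down)
    let σ : ∐ X ⟶ (U.1 : Scheme) := Sigma.desc fun i => G.f (e.symm i.down)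
    haveI : ∀ i, IsAffine (X i) := fun i => hG.isAffine_obj _
    have hσ : IsStandardV (PreZeroHypercover.singleton.{u} σ) :=
      ⟨hG.isAffine, inferInstanceAs (Finite PUnit), fun _ => inferInstanceAs (IsAffine (∐ X)), fun V _ _ g => by
        obtain ⟨W, hW, hW', φ, hφ, j, l, hl⟩ := hG.lift V g
        obtain ⟨j, rfl⟩ := e.symm.surjective j
        refine ⟨W, hW, hW', φ, hφ, PUnit.unit, l ≫ Sigma.ι X ⟨j⟩, ?_⟩
        change (l ≫ Sigma.ι X ⟨j⟩) ≫ σ = _
        rw [Category.assoc, Sigma.ι_desc]
        exact hl⟩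
    refine (finOver F).transitive (hsingle σ hσ) _ ?_
    rintro Z _ ⟨_, a, _, ⟨⟨⟩⟩, rfl⟩
    rw [Sieve.pullback_comp]
    refine (finOver F).pullback_stable a ?_
    refine (finOver F).superset_covering ((Sieve.generate_le_iff _ _).mpr <| Presieve.ofArrows_le_iff.mpr fun i => ?_)
      (zariski_le_finOver h1 _ (sigmaOpenCover X).mem_grothendieckTopology)
    refine ⟨G.X (e.symm i.down), 𝟙 _, G.f _, ⟨_⟩, (Category.id_comp _).trans ?_⟩
    exact (Sigma.ι_desc (f := fun i : ι => X i) (p := fun i : ι => G.f (e.symm i.down)) i).symm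
  have h2 := hmem Y (𝟙 _)
  rw [Sieve.pullback_id] at h2
  rw [Presieve.isSheafFor_iff_generate]
  suffices Sieve.generate R = lift Y E.sieve₀ by rw [this]; exact h2
  rw [eq_comm, OrderIso.symm_apply_eq]
  show Sieve.generate E.presieve₀ = Sieve.functorPushforward (Over.forget S) (Sieve.generate R)
  rw [← Sieve.generate_map_eq_functorPushforward, hER]

end Groth.Agent.HTop83
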