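import Groth.Agent.BigSiteLib.PiFpqc
import Groth.Agent.HTop83.VSheafOver
import Groth.Agent.HTop83.PhV
import Groth.Prelude.Def_BigSite
import Groth.Agent.HTopCov.Misc

/-!
# Pullbacks from the small etale site to the big h and ph sites

Sections descend along V coverings (their base changes detect open subsets), so the pullback to the big etale
site is already a sheaf for every topology generated by V coverings.
-/

set_option autoImplicit false
set_option backward.isDefEq.respectTransparency false
set_option backward.isDefEq.respectTransparency.types false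

universe w u

open CategoryTheory CategoryTheory.Limits AlgebraicGeometry Opposite HTop Groth.Agent.BigSiteLib

namespace Groth.Agent.HTop83

theorem isOpen_of_vCover {V : Scheme.{u}} (E : PreZeroHypercover.{w} V) (hE : IsVCover E) (s : Set V)
    (hs : ∀ i, IsOpen ((E.f i) ⁻¹' s)) : IsOpen s := by
  rw [← isClosed_compl_iff,
    TopologicalSpace.IsOpenCover.isClosed_iff_coe_preimage (U := fun U : V.affineOpens => U.1) (iSup_affineOpens_eq_top V)]
  intro U
  obtain ⟨F, hF, hr⟩ := hE U
  refine HTopCov.isClosed_of_standardV F hF _ fun j => ?_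
  obtain ⟨i, k, hk⟩ := hr j
  have e : F.f j ⁻¹' (((↑) : U.1 → V) ⁻¹' sᶜ) = k ⁻¹' ((E.f i) ⁻¹' s)ᶜ := by
    ext x
    show U.1.ι (F.f j x) ∉ s ↔ E.f i (k x) ∉ s
    exact iff_of_eq (congrArg (· ∉ s) congr($hk x).symm)
  rw [e]
  exact (hs i).isClosed_compl.preimage k.continuous

/-- A precoverage whose coverings are V coverings. -/
def VBounded (K : Precoverage Scheme.{u}) : Prop :=
  ∀ ⦃T : Scheme.{u}⦄ (R : Presieve T), R ∈ K T → ∃ E : PreZeroHypercover.{u + 1} T, E.presieve₀ = R ∧ IsVCover E

variable {K : Precoverage Scheme.{u}} {S : Scheme.{u}}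

theorem isSheaf_of_etInduced (hV : VBounded K) {P : (Over S)ᵒᵖ ⥤ Type w} (hP : EtInd.EtInduced P) :
    Presieve.IsSheaf (QuotSh.J K S) P := by
  have hle : K.toGrothendieck ≤ finOver P := by
    refine Precoverage.toGrothendieck_le_iff_le_toPrecoverage.2 fun T R hR => ?_
    obtain ⟨E, rfl, hE⟩ := hV R hR
    intro Y g
    show Presieve.IsSheafFor P (lift Y (E.sieve₀.pullback g)).arrows
    rw [lift_sieve₀_pullback]
    refine EtInd.isSheafFor_fam hP (T := fun i => Over.mk (pullback.fst g (E.f i) ≫ Y.hom))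
      (fun i => Over.homMk (pullback.fst g (E.f i))) (fun y => ?_) (fun V k _ s hs => ?_) _
      fun i => Sieve.ofArrows_mk _ _ i
    · obtain ⟨U, hU, hy, -⟩ := exists_isAffineOpen_mem_and_subset (U := (⊤ : Y.left.Opens)) (x := y) trivial
      obtain ⟨G, hG, hr⟩ := HTopCov.isVCover_pullback₁ g E hE ⟨U, hU⟩
      obtain ⟨j, x, hx⟩ := HTopCov.exists_point_of_hasValLift G hG.lift ⟨y, hy⟩
      obtain ⟨i, c, hc⟩ := hr j
      exact ⟨i, c x, (Scheme.Hom.comp_apply c _ x).symm.trans ((congr($hc x)).trans (congrArg U.ι hx))⟩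
    · exact isOpen_of_vCover _ (HTopCov.isVCover_pullback₁ k.left _ (HTopCov.isVCover_pullback₁ g E hE)) s hs
  intro Y R hR
  rw [GrothendieckTopology.mem_over_iff] at hR
  have := hle _ hR Y (𝟙 _)
  rwa [Sieve.pullback_id, lift, OrderIso.symm_apply_apply] at this

theorem vBounded_h : VBounded hPrecoverage.{u} := fun T R hR => by
  obtain ⟨E, hE, rfl⟩ := PreZeroHypercoverFamily.mem_precoverage_iff.mp hR
  exact ⟨E, rfl, hE.2⟩

theorem vBounded_ph : VBounded phPrecoverage.{u} := fun T R hR => by
  obtain ⟨E, hE, rfl⟩ := PreZeroHypercoverFamily.mem_precoverage_iff.mp hR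
  refine ⟨E, rfl, fun U => ?_⟩
  obtain ⟨F, hF, href⟩ := hE.2 U
  exact ⟨F, HTopCov.standardV_of_standardPh F hF, href⟩

theorem isHCover_of_etale {T : Scheme.{u}} (E : PreZeroHypercover.{w} T) (hE : ∀ i, Etale (E.f i))
    (hs : ∀ t, ∃ i, t ∈ Set.range (E.f i)) : IsHCover E := by
  haveI := hE
  let C : Scheme.Cover (Scheme.precoverage @Etale) T :=
    Scheme.Cover.mkOfCovers E.I₀ E.X E.f (fun t => hs t) hE
  haveI : QuasiCompactCover E :=
    QuasiCompactCover.of_isOpenMap (𝒰 := C) fun i => by haveI := hE i; exact Scheme.Hom.isOpenMap (E.f i)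
  exact ⟨fun i => inferInstance, HTopCov.isVCover_of_qc _ fun i => inferInstance⟩

theorem etale_le_h : Scheme.etalePrecoverage.{u}.toGrothendieck ≤ hPrecoverage.{u}.toGrothendieck := by
  refine Precoverage.toGrothendieck_le_iff_le_toPrecoverage.2 fun T R hR => ?_
  obtain ⟨C, rfl⟩ := (Precoverage.mem_iff_exists_zeroHypercover (J := Scheme.etalePrecoverage)).1 hR
  obtain ⟨hs, he⟩ := (Scheme.presieve₀_mem_precoverage_iff C.toPreZeroHypercover).1 C.mem₀
  exact Precoverage.generate_mem_toGrothendieck
    (PreZeroHypercoverFamily.mem_precoverage_iff.mpr ⟨_, isHCover_of_etale _ he hs, rfl⟩)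

theorem etale_le_ph : Scheme.etalePrecoverage.{u}.toGrothendieck ≤ phPrecoverage.{u}.toGrothendieck := by
  refine Precoverage.toGrothendieck_le_iff_le_toPrecoverage.2 fun T R hR => ?_
  obtain ⟨C, rfl⟩ := (Precoverage.mem_iff_exists_zeroHypercover (J := Scheme.etalePrecoverage)).1 hR
  obtain ⟨hs, he⟩ := (Scheme.presieve₀_mem_precoverage_iff C.toPreZeroHypercover).1 C.mem₀
  have h := isHCover_of_etale _ he hs
  exact Precoverage.generate_mem_toGrothendieck
    (PreZeroHypercoverFamily.mem_precoverage_iff.mpr ⟨_, isPhCover_of_isVCover _ h.1 h.2, rfl⟩)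

noncomputable section

variable (hV : VBounded K) (hEt : Scheme.etalePrecoverage.{u}.toGrothendieck ≤ K.toGrothendieck) (F : EtCoh.Ab S)

include hV in
theorem isSheaf_piPull :
    Presheaf.IsSheaf (QuotSh.J K S) ((BigSite.piEtPull Scheme.etalePrecoverage S).obj F).obj :=
  (Presheaf.isSheaf_iff_isSheaf_forget _ _ (forget AddCommGrpCat.{u + 1})).2
    ((isSheaf_iff_isSheaf_of_type _ _).2 (isSheaf_of_etInduced hV (etInduced_piP F)))

/-- The pullback to the big etale site, as an fppf sheaf. -/
noncomputable abbrev piK : BigSite.Ab K S :=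
  ⟨((BigSite.piEtPull Scheme.etalePrecoverage S).obj F).obj, isSheaf_piPull hV F⟩

variable [BigSite.AEtCont K S]

/-- An fppf sheaf as a big etale sheaf. -/
noncomputable abbrev toEt (G : BigSite.Ab K S) : Sheaf (QuotSh.J Scheme.etalePrecoverage S) AddCommGrpCat.{u + 1} :=
  ⟨G.obj, fun A => Presieve.isSheaf_of_le _
    (show QuotSh.J Scheme.etalePrecoverage S ≤ QuotSh.J K S from fun _ _ h => hEt _ h) (G.property A)⟩

/-- The canonical map into the pullback to the big etale site. -/
noncomputable def aPullHom : (BigSite.piEtPull K S).obj F ⟶ piK hV F :=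
  ((BigSite.piEtAdj K S).homEquiv F (piK hV F)).symm
    (ObjectProperty.homMk ((BigSite.piEtAdj Scheme.etalePrecoverage S).unit.app F).hom)

/-- The canonical map out of the pullback to the big etale site. -/
noncomputable def aPullInv : piK hV F ⟶ (BigSite.piEtPull K S).obj F :=
  ObjectProperty.homMk (((BigSite.piEtAdj Scheme.etalePrecoverage S).homEquiv F (toEt hEt ((BigSite.piEtPull K S).obj F))).symm
    (ObjectProperty.homMk ((BigSite.piEtAdj K S).unit.app F).hom)).hom

theorem res_aPullHom (V : S.Etale) :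
    ((BigSite.piEtAdj K S).unit.app F).hom.app (op V) ≫ (aPullHom hV F).hom.app (op ((EtFppf.a S).obj V)) =
      ((BigSite.piEtAdj Scheme.etalePrecoverage S).unit.app F).hom.app (op V) := by
  have h := ((BigSite.piEtAdj K S).homEquiv F (piK hV F)).apply_symm_apply
    (ObjectProperty.homMk ((BigSite.piEtAdj Scheme.etalePrecoverage S).unit.app F).hom)
  rw [Adjunction.homEquiv_unit] at h
  exact congr(($h).hom.app (op V))

theorem res_aPullInv (V : S.Etale) :
    ((BigSite.piEtAdj Scheme.etalePrecoverage S).unit.app F).hom.app (op V) ≫ (aPullInv hV hEt F).hom.app (op ((EtFppf.a S).obj V)) =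
      ((BigSite.piEtAdj K S).unit.app F).hom.app (op V) := by
  have h := ((BigSite.piEtAdj Scheme.etalePrecoverage S).homEquiv F (toEt hEt ((BigSite.piEtPull K S).obj F))).apply_symm_apply
    (ObjectProperty.homMk ((BigSite.piEtAdj K S).unit.app F).hom)
  rw [Adjunction.homEquiv_unit] at h
  exact congr(($h).hom.app (op V))

/-- The two pullbacks agree. -/
noncomputable def aPullIso : (BigSite.piEtPull K S).obj F ≅ piK hV F where
  hom := aPullHom hV F
  inv := aPullInv hV hEt F
  hom_inv_id := ((BigSite.piEtAdj K S).homEquiv F _).injective (by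
    rw [Adjunction.homEquiv_unit, Adjunction.homEquiv_unit]
    ext1; ext1; funext V
    show ((BigSite.piEtAdj K S).unit.app F).hom.app V ≫ (aPullHom hV F).hom.app _ ≫ (aPullInv hV hEt F).hom.app _ =
      ((BigSite.piEtAdj K S).unit.app F).hom.app V ≫ 𝟙 _
    exact (Category.assoc _ _ _).symm.trans ((congrArg (· ≫ _) (res_aPullHom hV F V.unop)).trans
      ((res_aPullInv hV hEt F V.unop).trans (Category.comp_id _).symm)))
  inv_hom_id := by
    have h : (ObjectProperty.homMk (aPullInv hV hEt F ≫ aPullHom hV F).hom :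
        (BigSite.piEtPull Scheme.etalePrecoverage S).obj F ⟶ (BigSite.piEtPull Scheme.etalePrecoverage S).obj F) = 𝟙 _ := by
      refine ((BigSite.piEtAdj Scheme.etalePrecoverage S).homEquiv F _).injective ?_
      rw [Adjunction.homEquiv_unit, Adjunction.homEquiv_unit]
      ext1; ext1; funext V
      show ((BigSite.piEtAdj Scheme.etalePrecoverage S).unit.app F).hom.app V ≫ (aPullInv hV hEt F).hom.app _ ≫ (aPullHom hV F).hom.app _ =
        ((BigSite.piEtAdj Scheme.etalePrecoverage S).unit.app F).hom.app V ≫ 𝟙 _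
      exact (Category.assoc _ _ _).symm.trans ((congrArg (· ≫ _) (res_aPullInv hV hEt F V.unop)).trans
        ((res_aPullHom hV F V.unop).trans (Category.comp_id _).symm))
    ext1
    exact congr(($h).hom)

include hV hEt in
/-- Sections of the pullback. -/
theorem aPull_sections {T : Scheme.{u}} (f : T ⟶ S) :
    Nonempty (((BigSite.piEtPull K S).obj F).obj.obj (op (Over.mk f)) ≅
      ((EtCoh.pull f).obj F).obj.obj (op (EtCoh.top T))) :=
  ⟨((sheafToPresheaf _ _).mapIso (aPullIso hV hEt F)).app (op (Over.mk f)) ≪≫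
    ((BigSite.piEtPull Scheme.etalePrecoverage S).obj F).obj.mapIso
      (Over.isoMk (Iso.refl _) ((Category.id_comp _).trans (Category.id_comp _).symm) :
        (Over.map f).obj ((EtFppf.a T).obj (EtCoh.top T)) ≅ Over.mk f).op ≪≫
    (((sheafToPresheaf _ _).mapIso (resAlongPiPullIso f F)).app (op (EtCoh.top T))).symm⟩

end

end Groth.Agent.HTop83
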