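import Groth.Agent.PopescuLib.FPColim
import Mathlib.AlgebraicGeometry.Morphisms.FinitePresentation

/-!
An affine morphism of affine schemes is a cofiltered limit of finitely presented affine morphisms.
-/

set_option backward.isDefEq.respectTransparency false
set_option backward.isDefEq.respectTransparency.types false

universe u

noncomputable section

namespace Groth.Agent.HTop83

open CategoryTheory CategoryTheory.Limits AlgebraicGeometry Opposite PopescuLib

theorem exists_fp_limit {X Y : Scheme.{u}} [IsAffine X] [IsAffine Y] (f : X ⟶ Y) :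
    ∃ (I : Type u) (_ : SmallCategory I) (_ : IsCofiltered I) (D : I ⥤ Over Y) (c : Cone D)
      (_ : IsLimit ((Over.forget Y).mapCone c)) (_ : c.pt ≅ Over.mk f),
      (∀ i, IsAffine (D.obj i).left) ∧ ∀ i, LocallyOfFinitePresentation (D.obj i).hom := by
  let A : Type u := Γ(Y, ⊤)
  let B : Type u := Γ(X, ⊤)
  letI : Algebra A B := f.appTop.hom.toAlgebra
  let I : Type u := (FPModel A B)ᵒᵖ
  let D : I ⥤ Over Y :=
    { obj := fun M => Over.mk (Spec.map (CommRingCat.ofHom (algebraMap A M.unop.Alg)) ≫ Y.isoSpec.inv)
      map := fun {M N} a => Over.homMk (Spec.map (CommRingCat.ofHom a.unop.1.toRingHom)) (by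
        show Spec.map _ ≫ Spec.map _ ≫ Y.isoSpec.inv = _
        rw [← Spec.map_comp_assoc, show CommRingCat.ofHom (algebraMap A N.unop.Alg) ≫
          CommRingCat.ofHom a.unop.1.toRingHom = CommRingCat.ofHom (algebraMap A M.unop.Alg) from
            CommRingCat.hom_ext (RingHom.ext fun z => a.unop.1.commutes z)]
        rfl)
      map_id := fun M => Over.OverMorphism.ext (Spec.map_id (CommRingCat.of M.unop.Alg))
      map_comp := fun a b => Over.OverMorphism.ext (Spec.map_comp (CommRingCat.ofHom b.unop.1.toRingHom) (CommRingCat.ofHom a.unop.1.toRingHom)) }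
  let c : Cone D :=
    { pt := Over.mk f
      π :=
        { app := fun M => Over.homMk (X.isoSpec.hom ≫ Spec.map (CommRingCat.ofHom M.unop.toB.toRingHom)) (by
            show (X.isoSpec.hom ≫ Spec.map _) ≫ Spec.map _ ≫ Y.isoSpec.inv = f
            rw [Category.assoc, ← Spec.map_comp_assoc, show CommRingCat.ofHom (algebraMap A M.unop.Alg) ≫
              CommRingCat.ofHom M.unop.toB.toRingHom = f.appTop from
                CommRingCat.hom_ext (RingHom.ext fun z => M.unop.toB.commutes z)]
            rw [Scheme.isoSpec_inv_naturality, Iso.hom_inv_id_assoc])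
          naturality := fun M N a => Over.OverMorphism.ext (by
            show 𝟙 _ ≫ X.isoSpec.hom ≫ Spec.map _ = (X.isoSpec.hom ≫ Spec.map _) ≫ Spec.map _
            rw [Category.id_comp, Category.assoc, ← Spec.map_comp,
              show CommRingCat.ofHom a.unop.1.toRingHom ≫ CommRingCat.ofHom M.unop.toB.toRingHom =
                CommRingCat.ofHom N.unop.toB.toRingHom from
                CommRingCat.hom_ext (RingHom.ext fun z => AlgHom.congr_fun a.unop.2 z)]) } }
  haveI : IsConnected (FPModel A B) := IsFiltered.isConnected _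
  let cr := (Under.forget (CommRingCat.of A)).mapCocone (fpCocone A B)
  have hcr : IsColimit cr := isColimitOfPreserves (Under.forget _) (fpIsColimit A B)
  let c' := Scheme.Spec.mapCone cr.op
  have hc' : IsLimit c' := isLimitOfPreserves Scheme.Spec hcr.op
  let c'' : Cone (D ⋙ Over.forget Y) :=
    { pt := c'.pt
      π := { app := fun M => c'.π.app M, naturality := fun M N a => c'.π.naturality a } }
  have hc'' : IsLimit c'' :=
    { lift := fun s => hc'.lift { pt := s.pt, π := { app := fun M => s.π.app M, naturality := fun M N a => s.π.naturality a } }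
      fac := fun s j => hc'.fac _ j
      uniq := fun s m hm => hc'.uniq { pt := s.pt, π := { app := fun M => s.π.app M, naturality := fun M N a => s.π.naturality a } } m hm }
  refine ⟨I, inferInstance, inferInstance, D, c, IsLimit.ofIsoLimit hc'' (Cones.ext X.isoSpec.symm fun M => ?_),
    Iso.refl _, fun M => inferInstanceAs (IsAffine (Spec _)), fun M => ?_⟩
  · show c'.π.app M = X.isoSpec.inv ≫ X.isoSpec.hom ≫ _
    rw [Iso.inv_hom_id_assoc]
    rfl
  · show LocallyOfFinitePresentation (Spec.map (CommRingCat.ofHom (algebraMap A M.unop.Alg)) ≫ Y.isoSpec.inv)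
    haveI : LocallyOfFinitePresentation (Spec.map (CommRingCat.ofHom (algebraMap A M.unop.Alg))) :=
      LocallyOfFinitePresentation.SpecMap_iff _ |>.mpr (RingHom.finitePresentation_algebraMap.mpr inferInstance)
    infer_instance

end Groth.Agent.HTop83
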