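import Groth.Agent.HTop83.PhV
import Groth.Agent.S1297
import Groth.Agent.SmoothFormLib.Valuative
import Groth.Agent.PnCoh.Chow.Basic

/-!
# Finite type descends along V coverings of Noetherian rings
-/

set_option autoImplicit false
set_option backward.isDefEq.respectTransparency false
set_option backward.isDefEq.respectTransparency.types false

universe u

noncomputable section

namespace Groth.Agent.HTop83

open CategoryTheory CategoryTheory.Limits AlgebraicGeometry MvPolynomial Filter

variable {A B : Type u} [CommRing A] [CommRing B] [Algebra A B] {J : Type} (C : J → Type u)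
  [∀ j, CommRing (C j)] [∀ j, Algebra A (C j)] [∀ j, Algebra B (C j)] [∀ j, IsScalarTower A B (C j)]
  [∀ j, Algebra.FiniteType A (C j)]

/-- A ring is integral over a finitely generated subalgebra if a finite family of finitely generated algebras
over it catches all maps to valuation rings with roots. -/
theorem exists_finset_isIntegral [IsNoetherianRing B]
    (hB : ∀ (V : Type u) [CommRing V] [IsDomain V] [ValuationRing V], HasMonicRoots V → ∀ α : B →+* V,
      ∃ (j : J) (c : C j →+* V), c.comp (algebraMap B (C j)) = α) :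
    ∃ T : Finset B, ∀ b : B, IsIntegral (Algebra.adjoin A (T : Set B)) b := by
  classical
  by_contra hcon
  push Not at hcon
  choose b hb using hcon
  have hbad : ∀ T : Finset B, ∃ (K : Type u) (_ : Field K) (_ : IsAlgClosed K) (ψ : B →+* K)
      (V : ValuationSubring K), (∀ r : Algebra.adjoin A (T : Set B), ψ r ∈ V) ∧ ψ (b T) ∉ V := by
    intro T
    have h := hb T
    contrapose! h
    refine SmoothFormLib.isIntegralElem_of_valuation _ (b T) fun K _ ψ V hV => ?_
    let e := algebraMap K (AlgebraicClosure K)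
    obtain ⟨V', hV', hloc⟩ := IsLocalRing.exists_factor_valuationRing (e.comp V.subtype)
    have hmem := h (AlgebraicClosure K) inferInstance inferInstance (e.comp ψ) V'
      fun r => hV' ⟨_, hV r⟩
    by_contra hn
    have hinv : (ψ (b T))⁻¹ ∈ V := (V.mem_or_inv_mem _).resolve_left hn
    have hne : ψ (b T) ≠ 0 := fun h0 => hn (h0 ▸ zero_mem V)
    haveI := hloc
    have hu : IsUnit (⟨(ψ (b T))⁻¹, hinv⟩ : V) := by
      refine isUnit_of_map_unit ((e.comp V.subtype).codRestrict V'.toSubring hV') _ ?_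
      refine ⟨⟨_, ⟨e (ψ (b T)), hmem⟩, Subtype.ext ?_, Subtype.ext ?_⟩, rfl⟩
      · show e (ψ (b T))⁻¹ * e (ψ (b T)) = 1
        rw [← map_mul, inv_mul_cancel₀ hne, map_one]
      · show e (ψ (b T)) * e (ψ (b T))⁻¹ = 1
        rw [← map_mul, mul_inv_cancel₀ hne, map_one]
    obtain ⟨⟨v, hv⟩, hvu⟩ := hu.exists_right_inv
    apply hn
    have : (ψ (b T))⁻¹ * v = 1 := congrArg Subtype.val hvu
    rw [inv_mul_eq_one₀ hne] at this
    exact this ▸ hv
  choose K iF iA ψ V hV hbV using hbad
  letI := iF
  haveI := iA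
  let U : Ultrafilter (Finset B) := Ultrafilter.of atTop
  let L := fun T : Finset B => (V T : Type u)
  let W : ValuationSubring (MorLib.Ultra.Field' U K) := MorLib.Ultra.subring U L
  let Ψ : B →+* ∀ T, K T := Pi.ringHom ψ
  let α₀ : B →+* MorLib.Ultra.Field' U K := (MorLib.Ultra.mk U K).comp Ψ
  have hα : ∀ x, α₀ x ∈ W := fun x => by
    refine (MorLib.Ultra.mk_mem_subring_iff (U := U) L).2 ?_
    refine (Ultrafilter.of_le atTop) ((eventually_ge_atTop ({x} : Finset B)).mono fun T hT => ?_)
    exact ⟨⟨_, hV T ⟨x, Algebra.subset_adjoin (hT (Finset.mem_singleton_self x))⟩⟩, rfl⟩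
  obtain ⟨j, c, hc⟩ := hB W (hasMonicRoots_ultra U K V) (α₀.codRestrict W.toSubring hα)
  obtain ⟨m, π₀, hπ₀⟩ := Algebra.FiniteType.iff_quotient_mvPolynomial''.1 (inferInstance : Algebra.FiniteType A (C j))
  let x : Fin m → C j := fun l => π₀ (X l)
  let π : MvPolynomial (Fin m) B →+* C j := eval₂Hom (algebraMap B (C j)) x
  have hgen : ∀ z : C j, ∃ p : MvPolynomial (Fin m) A, eval₂Hom (algebraMap A (C j)) x p = z := fun z => by
    obtain ⟨p, rfl⟩ := hπ₀ z
    exact ⟨p, RingHom.congr_fun (MvPolynomial.ringHom_ext (g := π₀.toRingHom)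
      (fun a => by rw [eval₂Hom_C]; exact (π₀.commutes a).symm) fun l => by rw [eval₂Hom_X']; rfl) p⟩
  have hπ : Function.Surjective π := fun z => by
    obtain ⟨p, rfl⟩ := hgen z
    refine ⟨MvPolynomial.map (algebraMap A B) p, ?_⟩
    show eval₂ _ _ _ = _
    rw [eval₂_map, ← IsScalarTower.algebraMap_eq]
    rfl
  obtain ⟨s, hs⟩ := (inferInstance : IsNoetherianRing (MvPolynomial (Fin m) B)).noetherian (RingHom.ker π)
  choose y hy using fun l => (c (x l)).2
  let Φ : MvPolynomial (Fin m) B →+* ∀ T, K T := eval₂Hom Ψ fun l => MorLib.Ultra.incl (K := K) L (y l)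
  have hΦ : (MorLib.Ultra.mk U K).comp Φ = (W.subtype.comp c).comp π := by
    refine MvPolynomial.ringHom_ext (fun a => ?_) fun l => ?_
    · show MorLib.Ultra.mk U K (Φ (MvPolynomial.C a)) = W.subtype (c (π (MvPolynomial.C a)))
      simp only [Φ, π, eval₂Hom_C]
      exact congrArg W.subtype (RingHom.congr_fun hc a).symm
    · show MorLib.Ultra.mk U K (Φ (X l)) = W.subtype (c (π (X l)))
      simp only [Φ, π, eval₂Hom_X']
      exact hy l
  have hzero : ∀ f ∈ s, ∀ᶠ T in (U : Filter (Finset B)), Φ f T = 0 := fun f hf => by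
    have hk : π f = 0 := by rw [← RingHom.mem_ker, ← hs]; exact Ideal.subset_span hf
    have := RingHom.congr_fun hΦ f
    rw [RingHom.comp_apply, RingHom.comp_apply, hk, map_zero, ← map_zero (MorLib.Ultra.mk U K),
      MorLib.Ultra.mk_eq_mk] at this
    exact this
  obtain ⟨T, hT⟩ := ((eventually_all_finset s).2 hzero).exists
  let θ : MvPolynomial (Fin m) B →+* K T := (Pi.evalRingHom K T).comp Φ
  have hθ : RingHom.ker π ≤ RingHom.ker θ := by
    rw [show RingHom.ker π = Ideal.span (s : Set _) from hs.symm]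
    exact Ideal.span_le.2 fun f hf => hT f hf
  let cT : C j →+* K T := RingHom.liftOfSurjective π hπ ⟨θ, hθ⟩
  have hcT : ∀ p, cT (π p) = θ p := RingHom.liftOfRightInverse_comp_apply π _ _ ⟨θ, hθ⟩
  have hcb : ∀ z, cT (algebraMap B (C j) z) = ψ T z := fun z => by
    have := hcT (MvPolynomial.C z)
    simpa [π, θ, Φ, Ψ, Pi.ringHom] using this
  apply hbV T
  rw [← hcb]
  obtain ⟨p, hp⟩ := hgen (algebraMap B (C j) (b T))
  rw [← hp]
  clear hp
  induction p using MvPolynomial.induction_on with
  | C a =>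
    rw [eval₂Hom_C, IsScalarTower.algebraMap_apply A B (C j), hcb]
    exact hV T ⟨_, Subalgebra.algebraMap_mem _ a⟩
  | add p q hp hq => rw [map_add, map_add]; exact add_mem hp hq
  | mul_X p l hp =>
    rw [map_mul, map_mul, eval₂Hom_X', show x l = π (X l) from (eval₂Hom_X' _ _ l).symm, hcT]
    refine mul_mem (by simpa using hp) ?_
    show Φ (X l) T ∈ V T
    simp only [Φ, eval₂Hom_X']
    exact (y l T).2

/-- Finite type descends along such a family when the rings are Noetherian and the base is reduced. -/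
theorem finiteType_of_family [IsNoetherianRing A] [IsNoetherianRing B] [_root_.IsReduced B]
    (hB : ∀ (V : Type u) [CommRing V] [IsDomain V] [ValuationRing V], HasMonicRoots V → ∀ α : B →+* V,
      ∃ (j : J) (c : C j →+* V), c.comp (algebraMap B (C j)) = α) : Algebra.FiniteType A B := by
  obtain ⟨T, hT⟩ := exists_finset_isIntegral (A := A) C hB
  let B₀ := Algebra.adjoin A (T : Set B)
  haveI : Algebra.FiniteType A B₀ := (Subalgebra.fg_iff_finiteType B₀).1 ⟨T, rfl⟩
  haveI : IsNoetherianRing B₀ := Algebra.FiniteType.isNoetherianRing A B₀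
  haveI : ∀ j, Algebra.FiniteType B (C j) := fun j => .of_restrictScalars_finiteType A B (C j)
  obtain ⟨R, r, hr, hrs, -, hl⟩ := hasFPRefinement_of_valPoints (A := B) C fun K _ _ V φ hφ => by
    obtain ⟨j, c, hc⟩ := hB V (hasMonicRoots_valuationSubring V) (φ.codRestrict V.toSubring hφ)
    exact ⟨j, V.subtype.comp c, fun z => (c z).2, by
      rw [RingHom.comp_assoc, hc]
      rfl⟩
  let i : Spec (CommRingCat.of B) ⟶ Spec (CommRingCat.of B₀) := Spec.map (CommRingCat.ofHom (algebraMap B₀ B))
  let e : Spec (CommRingCat.of B₀) ⟶ Spec (CommRingCat.of A) := Spec.map (CommRingCat.ofHom (algebraMap A B₀))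
  haveI : IsIntegralHom i := IsIntegralHom.SpecMap_iff.2 fun z => hT z
  haveI : LocallyOfFiniteType ((r ≫ i) ≫ e) := by
    choose O o k h ho hxo hc using hl
    haveI := ho
    let 𝒰 : R.OpenCover := .mkOfCovers R O o (fun x => ⟨x, hxo x⟩) ho
    refine IsZariskiLocalAtSource.of_openCover 𝒰 fun x => ?_
    show LocallyOfFiniteType (o x ≫ (r ≫ i) ≫ e)
    haveI : LocallyOfFiniteType (h x ≫ (affFam (A := B) C).f (k x)) := by rw [hc]; infer_instance
    haveI : LocallyOfFiniteType (h x) := locallyOfFiniteType_of_comp (h x) ((affFam (A := B) C).f (k x))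
    haveI : LocallyOfFiniteType (Spec.map (CommRingCat.ofHom (algebraMap A (C (k x))))) :=
      (HasRingHomProperty.Spec_iff (P := @LocallyOfFiniteType)).2 (RingHom.finiteType_algebraMap.2 inferInstance)
    have : o x ≫ (r ≫ i) ≫ e = h x ≫ Spec.map (CommRingCat.ofHom (algebraMap A (C (k x)))) := by
      rw [← Category.assoc, ← Category.assoc, ← hc]
      show ((h x ≫ Spec.map _) ≫ i) ≫ e = _
      rw [Category.assoc, Category.assoc, ← Spec.map_comp, ← Spec.map_comp, ← CommRingCat.ofHom_comp,
        ← CommRingCat.ofHom_comp, ← IsScalarTower.algebraMap_eq, ← IsScalarTower.algebraMap_eq]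
    rw [this]
    infer_instance
  haveI : LocallyOfFiniteType (r ≫ i) := locallyOfFiniteType_of_comp (r ≫ i) e
  haveI : IsProper (r ≫ i) := ⟨⟩
  have hfin := S1297.finite_appTop (r ≫ i)
  let ρ : B →+* Γ(R, ⊤) := ((Scheme.ΓSpecIso (CommRingCat.of B)).inv ≫ r.appTop).hom
  have hρ : Function.Injective ρ := by
    haveI : IsDominant r := ⟨r.surjective.denseRange⟩
    have h1 : Function.Injective r.appTop.hom := PnCoh.Chow.app_injective_of_isDominant r ⊤
    exact h1.comp (Scheme.ΓSpecIso (CommRingCat.of B)).symm.commRingCatIsoToRingEquiv.injective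
  have hρ₀ : (ρ.comp (algebraMap B₀ B)).Finite := by
    have e1 : CommRingCat.ofHom (algebraMap B₀ B) ≫ (Scheme.ΓSpecIso (CommRingCat.of B)).inv ≫ r.appTop =
        (Scheme.ΓSpecIso (CommRingCat.of B₀)).inv ≫ (r ≫ i).appTop := by
      rw [Scheme.Hom.comp_appTop, Scheme.ΓSpecIso_inv_naturality_assoc]
    have e2 : ρ.comp (algebraMap B₀ B) = ((r ≫ i).appTop.hom).comp (Scheme.ΓSpecIso (CommRingCat.of B₀)).inv.hom :=
      congrArg CommRingCat.Hom.hom e1
    rw [e2]
    exact hfin.comp (RingHom.Finite.of_surjective _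
      (Scheme.ΓSpecIso (CommRingCat.of B₀)).symm.commRingCatIsoToRingEquiv.surjective)
  letI : Algebra B₀ Γ(R, ⊤) := (ρ.comp (algebraMap B₀ B)).toAlgebra
  haveI : Module.Finite B₀ Γ(R, ⊤) := hρ₀
  let ρA : B →ₐ[B₀] Γ(R, ⊤) := { ρ with commutes' := fun _ => rfl }
  haveI : Module.Finite B₀ B := Module.Finite.of_injective ρA.toLinearMap hρ
  exact Algebra.FiniteType.trans (S := B₀) inferInstance inferInstance

end Groth.Agent.HTop83

namespace Groth.Agent.HTop83

open CategoryTheory CategoryTheory.Limits AlgebraicGeometry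

/-- Finite type lifts through a nilpotent finitely generated ideal. -/
theorem finiteType_of_quotient {A B : Type u} [CommRing A] [CommRing B] [Algebra A B] (n : Ideal B) (hn : n.FG)
    (hnil : IsNilpotent n) [h : Algebra.FiniteType A (B ⧸ n)] : Algebra.FiniteType A B := by
  classical
  obtain ⟨s, hs⟩ := h.out
  obtain ⟨F, hF⟩ := hn
  let G : Finset B := s.image (Function.surjInv Ideal.Quotient.mk_surjective) ∪ F
  let S := Algebra.adjoin A (G : Set B)
  have hmod : ∀ b : B, ∃ x ∈ S, b - x ∈ n := fun b => by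
    have hb : Ideal.Quotient.mkₐ A n b ∈ S.map (Ideal.Quotient.mkₐ A n) := by
      have hle : Algebra.adjoin A (s : Set (B ⧸ n)) ≤ S.map (Ideal.Quotient.mkₐ A n) := by
        rw [AlgHom.map_adjoin]
        refine Algebra.adjoin_mono fun z hz => ⟨Function.surjInv Ideal.Quotient.mk_surjective z, ?_,
          Function.surjInv_eq Ideal.Quotient.mk_surjective z⟩
        exact Finset.mem_union_left _ (Finset.mem_image_of_mem _ hz)
      rw [hs] at hle
      exact hle Algebra.mem_top
    obtain ⟨x, hx, hxb⟩ := hb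
    exact ⟨x, hx, Ideal.Quotient.eq.1 hxb.symm⟩
  have hstep : ∀ (k : ℕ) (z : B), z ∈ n ^ k → ∃ x ∈ S, z - x ∈ n ^ (k + 1) := by
    intro k
    induction k with
    | zero => exact fun z _ => by simpa using hmod z
    | succ k ih =>
      intro z hz
      rw [pow_succ'] at hz
      induction hz using Submodule.mul_induction_on' with
      | mem_mul_mem f hf y hy =>
        rw [← hF, Submodule.mem_span_finset] at hf
        obtain ⟨c, -, rfl⟩ := hf
        choose x hx hxy using fun g => ih (c g * y) (Ideal.mul_mem_left _ _ hy)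
        refine ⟨∑ g ∈ F, g * x g, Subalgebra.sum_mem _ fun g hg =>
          mul_mem (Algebra.subset_adjoin (Finset.mem_union_right _ hg)) (hx g), ?_⟩
        rw [Finset.sum_mul, ← Finset.sum_sub_distrib, pow_succ']
        refine Ideal.sum_mem _ fun g hg => ?_
        rw [smul_eq_mul, show c g * g * y - g * x g = g * (c g * y - x g) by ring]
        exact Ideal.mul_mem_mul (hF ▸ Ideal.subset_span hg) (hxy g)
      | add a _ b _ ha hb =>
        obtain ⟨x, hx, hxa⟩ := ha
        obtain ⟨y, hy, hyb⟩ := hb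
        exact ⟨x + y, add_mem hx hy, by rw [add_sub_add_comm]; exact add_mem hxa hyb⟩
  have hk : ∀ (k : ℕ) (z : B), ∃ x ∈ S, z - x ∈ n ^ k := by
    intro k
    induction k with
    | zero => exact fun z => ⟨0, zero_mem _, by simp⟩
    | succ k ih =>
      intro z
      obtain ⟨x, hx, hzx⟩ := ih z
      obtain ⟨y, hy, hzy⟩ := hstep k _ hzx
      exact ⟨x + y, add_mem hx hy, by rwa [← sub_sub]⟩
  obtain ⟨N, hN⟩ := hnil
  refine ⟨⟨G, top_le_iff.1 fun z _ => ?_⟩⟩
  obtain ⟨x, hx, hzx⟩ := hk N z
  rw [hN] at hzx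
  exact (sub_eq_zero.1 (show z - x = 0 from hzx)) ▸ hx

end Groth.Agent.HTop83
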