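import Groth.Agent.HTop83.Noeth
import Groth.Agent.S19876
import Mathlib.AlgebraicGeometry.Morphisms.Flat
import Mathlib.RingTheory.Flat.FaithfullyFlat.Algebra
import Mathlib.RingTheory.Flat.TorsionFree

/-!
Flatness over a reduced Noetherian base descends along universally submersive morphisms.
-/

set_option backward.isDefEq.respectTransparency false
set_option backward.isDefEq.respectTransparency.types false

universe u

namespace Groth.Agent.HTop83

open CategoryTheory CategoryTheory.Limits AlgebraicGeometry IsLocalRing TensorProduct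

variable {X S S' : Scheme.{u}}

theorem faithfullyFlat_of_injective {R R' : Type u} [CommRing R] [IsDomain R] [IsDiscreteValuationRing R]
    [CommRing R'] [IsDomain R'] [IsLocalRing R'] [Algebra R R'] (h : Function.Injective (algebraMap R R'))
    [IsLocalHom (algebraMap R R')] : Module.FaithfullyFlat R R' := by
  haveI : FaithfulSMul R R' := (faithfulSMul_iff_algebraMap_injective R R').mpr h
  haveI : Module.IsTorsionFree R R' := inferInstance
  exact Module.FaithfullyFlat.of_flat_of_isLocalHom

theorem flat_of_univSubmersive [IsLocallyNoetherian S] [IsReduced S] (f : X ⟶ S) [LocallyOfFiniteType f]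
    (g : S' ⟶ S) (hg : SGA1.UnivSubmersive g) [Flat (pullback.snd f g)] : Flat f := by
  refine ⟨fun {U} hU {V} hV e => ?_⟩
  haveI : IsNoetherianRing Γ(S, U) := IsLocallyNoetherian.component_noetherian ⟨U, hU⟩
  haveI : _root_.IsReduced Γ(S, U) := IsReduced.component_reduced U
  letI : Algebra Γ(S, U) Γ(X, V) := (f.appLE U V e).hom.toAlgebra
  have hft : Algebra.FiniteType Γ(S, U) Γ(X, V) := LocallyOfFiniteType.finiteType_appLE f hU hV e
  refine (Groth.Agent.S19876.result Γ(S, U) Γ(X, V) Γ(X, V)).mpr fun R _ _ _ _ => ?_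
  let k : Spec (CommRingCat.of R) ⟶ S := Spec.map (CommRingCat.ofHom (algebraMap Γ(S, U) R)) ≫ hU.fromSpec
  obtain ⟨W, _, _, φ, h, hφi, hφl, hh⟩ := hasDVRLift_of_univSubmersive g hg (CommRingCat.of R) k
  letI : Algebra R W := φ.hom.toAlgebra
  letI : Algebra Γ(S, U) W := (φ.hom.comp (algebraMap Γ(S, U) R)).toAlgebra
  haveI : IsScalarTower Γ(S, U) R W := IsScalarTower.of_algebraMap_eq fun _ => rfl
  haveI : IsLocalHom (algebraMap R W) := hφl
  haveI : Module.FaithfullyFlat R W := faithfullyFlat_of_injective hφi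
  -- the base change of `f` to `Spec W` is flat
  let αW : Spec (CommRingCat.of W) ⟶ Spec Γ(S, U) := Spec.map (CommRingCat.ofHom (algebraMap Γ(S, U) W))
  let αB : Spec Γ(X, V) ⟶ Spec Γ(S, U) := Spec.map (CommRingCat.ofHom (algebraMap Γ(S, U) Γ(X, V)))
  have hαW : αW ≫ hU.fromSpec = h ≫ g := by
    rw [hh]
    change Spec.map (CommRingCat.ofHom (algebraMap Γ(S, U) R) ≫ φ) ≫ hU.fromSpec = _
    rw [Spec.map_comp, Category.assoc]
  have hαB : αB ≫ hU.fromSpec = hV.fromSpec ≫ f := IsAffineOpen.SpecMap_appLE_fromSpec f hU hV e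
  haveI : Flat (pullback.fst (h ≫ g) f) := by
    have hsq := (IsPullback.of_hasPullback (h ≫ g) f).flip
    let l : pullback (h ≫ g) f ⟶ pullback f g :=
      pullback.lift (pullback.snd (h ≫ g) f) (pullback.fst (h ≫ g) f ≫ h)
        (by rw [← pullback.condition, Category.assoc])
    suffices hl : IsPullback l (pullback.fst (h ≫ g) f) (pullback.snd f g) h from
      MorphismProperty.of_isPullback (P := @Flat) hl ‹_›
    refine IsPullback.of_right (t := IsPullback.of_hasPullback f g) ?_ (pullback.lift_snd _ _ _)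
    rw [pullback.lift_fst]
    exact hsq
  haveI : Flat (pullback.fst αW αB) := by
    let m : pullback αW αB ⟶ pullback (h ≫ g) f :=
      pullback.map αW αB (h ≫ g) f (𝟙 _) hV.fromSpec hU.fromSpec (by rw [hαW, Category.id_comp]) hαB
    have hm : m ≫ pullback.fst (h ≫ g) f = pullback.fst αW αB := by
      rw [pullback.lift_fst, Category.comp_id]
    rw [← hm]
    infer_instance
  have hflat : Flat (Spec.map (CommRingCat.ofHom
      (algebraMap W (W ⊗[Γ(S, U)] Γ(X, V))))) := by
    rw [← pullbackSpecIso_inv_fst' Γ(S, U) W Γ(X, V)]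
    infer_instance
  rw [HasRingHomProperty.Spec_iff (P := @Flat), CommRingCat.hom_ofHom, RingHom.flat_algebraMap_iff] at hflat
  haveI : Module.Flat W (W ⊗[R] (R ⊗[Γ(S, U)] Γ(X, V))) :=
    Module.Flat.of_linearEquiv (TensorProduct.AlgebraTensorModule.cancelBaseChange Γ(S, U) R W W Γ(X, V))
  exact Module.Flat.of_flat_tensorProduct R _ W

end Groth.Agent.HTop83
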