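import Groth.Agent.HTop83.KPiOne
import Groth.Agent.FinEtSheaf.Ab
import Groth.Agent.Pi1X.FEtBasic
import Groth.Agent.EtFound.PullConst
import Groth.Agent.EtFound.ConstStalk
import Groth.Prelude.Def_EtCore

/-!
# Finite locally constant sheaves on connected schemes become constant on a finite etale cover

A connected finite etale scheme with the maximal number of maps to the representing scheme sees all of the
geometric fibre.
-/

set_option autoImplicit false
set_option backward.isDefEq.respectTransparency false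
set_option backward.isDefEq.respectTransparency.types false

universe u

open CategoryTheory CategoryTheory.Limits AlgebraicGeometry Opposite

namespace Groth.Agent.HTop83

theorem isOpen_connectedComponent {α : Type*} [TopologicalSpace α] [Finite (_root_.ConnectedComponents α)] (x : α) :
    IsOpen (connectedComponent x) := by
  have e : connectedComponent x = (⋃ c ∈ {c : _root_.ConnectedComponents α | c ≠ (x : _root_.ConnectedComponents α)},
      ConnectedComponents.mk ⁻¹' {c})ᶜ := by
    ext y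
    simp only [Set.mem_compl_iff, Set.mem_iUnion, Set.mem_preimage, Set.mem_singleton_iff, exists_prop, Set.mem_ofPred_eq,
      not_exists, not_and, ← ConnectedComponents.coe_eq_coe']
    refine ⟨fun h c hc e => hc (e.symm.trans h), fun h => ?_⟩
    by_contra hne
    exact h _ hne rfl
  rw [e, isOpen_compl_iff]
  refine (Set.toFinite _).isClosed_biUnion fun c _ => ?_
  obtain ⟨a, rfl⟩ := ConnectedComponents.surjective_coe c
  rw [connectedComponents_preimage_singleton]
  exact isClosed_connectedComponent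

variable {X : Scheme.{u}}

theorem surjective_of_connected [ConnectedSpace ↥X] {V : Scheme.{u}} (h : V ⟶ X) [IsFinite h] [Etale h] (hne : Nonempty V) :
    Function.Surjective h := by
  haveI := hne
  refine Set.range_eq_univ.1 (IsClopen.eq_univ ⟨?_, ?_⟩ (Set.range_nonempty _))
  · exact h.isClosedMap.isClosed_range
  · exact h.isOpenMap.isOpen_range

theorem finite_fiber {U : X.Etale} [IsFinite U.hom] {Ω : Type u} [Field Ω] [IsSepClosed Ω]
    (ξ : Spec (CommRingCat.of Ω) ⟶ X) : Finite ((Scheme.pointSmallEtale ξ).fiber.obj U) := by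
  let U' : FEt.Cat X := MorphismProperty.Over.mk ⊤ U.hom ⟨‹_›, U.prop⟩
  haveI := Pi1X.fiber_finite ξ U'
  exact Finite.of_injective (β := FEt.fiberObj ξ U')
    (fun z => ⟨(z.left : Spec (CommRingCat.of Ω) ⟶ U.left), CategoryTheory.Over.w z⟩)
    fun a b h => CategoryTheory.Over.OverMorphism.ext (congrArg Subtype.val h :)

theorem eq_of_map_eq {U V : X.Etale} [IsFinite U.hom] [PreconnectedSpace V.left] {Ω : Type u} [Field Ω]
    [IsSepClosed Ω] {ξ : Spec (CommRingCat.of Ω) ⟶ X} (z : (Scheme.pointSmallEtale ξ).fiber.obj V) {m m' : V ⟶ U}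
    (h : (Scheme.pointSmallEtale ξ).fiber.map m z = (Scheme.pointSmallEtale ξ).fiber.map m' z) : m = m' := by
  haveI : AlgebraicGeometry.Etale U.hom := U.prop
  refine MorphismProperty.Over.Hom.ext (Pi1X.hom_ext_of_connected U.hom m.left m'.left
    ((MorphismProperty.Over.w m).trans (MorphismProperty.Over.w m').symm)
    (T := Spec (CommRingCat.of Ω)) (z.left : Spec (CommRingCat.of Ω) ⟶ V.left) ?_)
  exact congrArg (fun t => CommaMorphism.left t) h

/-- A connected finite etale scheme all of whose points see the whole fibre. -/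
theorem exists_saturated [ConnectedSpace ↥X] (U : X.Etale) [IsFinite U.hom] :
    ∃ (V : X.Etale) (_ : IsFinite V.hom) (_ : ConnectedSpace V.left),
      ∀ (Ω : Type u) [Field Ω] [IsSepClosed Ω] (ξ : Spec (CommRingCat.of Ω) ⟶ X)
        (z : (Scheme.pointSmallEtale ξ).fiber.obj V),
        Function.Bijective fun m : V ⟶ U => (Scheme.pointSmallEtale ξ).fiber.map m z := by
  obtain ⟨x₀⟩ := (inferInstance : Nonempty X)
  let Ω₀ := AlgebraicClosure (X.residueField x₀)
  let ξ₀ : Spec (CommRingCat.of Ω₀) ⟶ X :=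
    Spec.map (CommRingCat.ofHom (algebraMap (X.residueField x₀) Ω₀)) ≫ X.fromSpecResidueField x₀
  haveI := finite_fiber (U := U) ξ₀
  have hpt : ∀ (V : X.Etale), IsFinite V.hom → Nonempty V.left →
      Nonempty ((Scheme.pointSmallEtale ξ₀).fiber.obj V) := fun V _ hne => by
    haveI : AlgebraicGeometry.Etale V.hom := V.prop
    obtain ⟨v, hv⟩ := surjective_of_connected (X := X) V.hom hne (ξ₀.base default)
    exact ⟨(Scheme.pointSmallEtaleFiberObjToPreimage_surjective ξ₀ rfl V ⟨v, hv⟩).choose⟩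
  let N : Set ℕ := {n | ∃ (V : X.Etale) (_ : IsFinite V.hom) (_ : ConnectedSpace V.left), Nat.card (V ⟶ U) = n}
  have hfinHom : ∀ (V : X.Etale), IsFinite V.hom → ConnectedSpace V.left →
      Finite (V ⟶ U) ∧ Nat.card (V ⟶ U) ≤ Nat.card ((Scheme.pointSmallEtale ξ₀).fiber.obj U) := fun V hV hc => by
    obtain ⟨z⟩ := hpt V hV inferInstance
    have hi : Function.Injective fun m : V ⟶ U => (Scheme.pointSmallEtale ξ₀).fiber.map m z :=
      fun m m' h => eq_of_map_eq z h
    exact ⟨Finite.of_injective _ hi, Nat.card_le_card_of_injective _ hi⟩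
  have hne : N.Nonempty := ⟨_, EtCoh.top X, (inferInstanceAs (IsFinite (𝟙 X))),
    (inferInstanceAs (ConnectedSpace X)), rfl⟩
  have hbdd : BddAbove N := ⟨Nat.card ((Scheme.pointSmallEtale ξ₀).fiber.obj U), by
    rintro n ⟨V, hV, hc, rfl⟩
    exact (hfinHom V hV hc).2⟩
  obtain ⟨V, hV, hc, hmax⟩ := Nat.sSup_mem hne hbdd
  refine ⟨V, hV, hc, fun Ω _ _ ξ z => ⟨fun m m' h => eq_of_map_eq z h, fun p => ?_⟩⟩
  by_contra hp
  haveI : AlgebraicGeometry.Etale U.hom := U.prop
  haveI : AlgebraicGeometry.Etale V.hom := V.prop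
  let P := pullback V.hom U.hom
  haveI : IsFinite (pullback.fst V.hom U.hom) := inferInstance
  haveI : AlgebraicGeometry.Etale (pullback.fst V.hom U.hom) := inferInstance
  haveI hfc : Finite (_root_.ConnectedComponents ((𝟭 Scheme.{u}).obj V.left)) :=
    (Finite.of_subsingleton : Finite (_root_.ConnectedComponents V.left))
  haveI : Finite (_root_.ConnectedComponents ↥P) :=
    finite_connectedComponents_of_openClosed _ (pullback.fst V.hom U.hom).continuous (pullback.fst V.hom U.hom).isOpenMap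
      (pullback.fst V.hom U.hom).isClosedMap (pullback.fst V.hom U.hom).finite_preimage_singleton
  let q : Spec (CommRingCat.of Ω) ⟶ P := pullback.lift (z.left : Spec (CommRingCat.of Ω) ⟶ V.left)
    (p.left : Spec (CommRingCat.of Ω) ⟶ U.left) ((CategoryTheory.Over.w z).trans (CategoryTheory.Over.w p).symm)
  let W : P.Opens := ⟨connectedComponent (q.base default), isOpen_connectedComponent _⟩
  haveI : IsClosedImmersion W.ι := IsClosedImmersion.of_isPreimmersion _ (by
    rw [Scheme.Opens.range_ι]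
    exact isClosed_connectedComponent)
  haveI : ConnectedSpace W.toScheme := isConnected_iff_connectedSpace.1 isConnected_connectedComponent
  haveI : AlgebraicGeometry.Etale (W.ι ≫ pullback.fst V.hom U.hom ≫ V.hom) := inferInstance
  let W' : X.Etale := Scheme.Etale.mk (W.ι ≫ pullback.fst V.hom U.hom ≫ V.hom)
  haveI hW' : IsFinite W'.hom := inferInstanceAs (IsFinite (W.ι ≫ pullback.fst V.hom U.hom ≫ V.hom))
  have hcW : ConnectedSpace W'.left := inferInstanceAs (ConnectedSpace W.toScheme)
  let a : W' ⟶ V := MorphismProperty.Over.homMk (W.ι ≫ pullback.fst V.hom U.hom) (Category.assoc _ _ _) trivial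
  let b : W' ⟶ U := MorphismProperty.Over.homMk (W.ι ≫ pullback.snd V.hom U.hom)
    ((Category.assoc _ _ _).trans (congrArg (_ ≫ ·) pullback.condition.symm)) trivial
  have hq : Set.range q.base ⊆ Set.range W.ι.base := by
    rw [Scheme.Opens.range_ι]
    rintro _ ⟨s, rfl⟩
    rw [Subsingleton.elim s default]
    exact mem_connectedComponent
  let q' : Spec (CommRingCat.of Ω) ⟶ W'.left := IsOpenImmersion.lift W.ι q hq
  let w : (Scheme.pointSmallEtale ξ).fiber.obj W' := CategoryTheory.Over.homMk q' (by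
    show q' ≫ W.ι ≫ pullback.fst V.hom U.hom ≫ V.hom = ξ
    rw [IsOpenImmersion.lift_fac_assoc, pullback.lift_fst_assoc]
    exact CategoryTheory.Over.w z)
  have hwa : (Scheme.pointSmallEtale ξ).fiber.map a w = z := CategoryTheory.Over.OverMorphism.ext (by
    show q' ≫ W.ι ≫ pullback.fst V.hom U.hom = _
    rw [IsOpenImmersion.lift_fac_assoc, pullback.lift_fst])
  have hwb : (Scheme.pointSmallEtale ξ).fiber.map b w = p := CategoryTheory.Over.OverMorphism.ext (by
    show q' ≫ W.ι ≫ pullback.snd V.hom U.hom = _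
    rw [IsOpenImmersion.lift_fac_assoc, pullback.lift_snd])
  have hkey : ∀ m : V ⟶ U, (Scheme.pointSmallEtale ξ).fiber.map (a ≫ m) w =
      (Scheme.pointSmallEtale ξ).fiber.map m z := fun m =>
    (congr($((Scheme.pointSmallEtale ξ).fiber.map_comp a m) w)).trans
      (congrArg ((Scheme.pointSmallEtale ξ).fiber.map m) hwa :)
  haveI := (hfinHom W' hW' hcW).1
  haveI := (hfinHom V hV hc).1
  have hinj : Function.Injective fun o : Option (V ⟶ U) => o.elim b (a ≫ ·) := by
    rintro (_ | m) (_ | m') h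
    · rfl
    · exact absurd ⟨m', ((hkey m').symm.trans (congrArg (fun t => (Scheme.pointSmallEtale ξ).fiber.map t w) h.symm)).trans hwb⟩ hp
    · exact absurd ⟨m, ((hkey m).symm.trans (congrArg (fun t => (Scheme.pointSmallEtale ξ).fiber.map t w) h)).trans hwb⟩ hp
    · refine congrArg some (eq_of_map_eq z ?_)
      rw [← hkey, ← hkey]
      exact congrArg (fun t => (Scheme.pointSmallEtale ξ).fiber.map t w) h
  have hlt := Nat.card_le_card_of_injective _ hinj
  rw [Finite.card_option] at hlt
  have := le_csSup hbdd ⟨W', hW', hcW, rfl⟩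
  omega

/-- On a connected scheme a finite locally constant sheaf becomes constant on a connected finite etale cover. -/
theorem exists_trivializing [ConnectedSpace ↥X] (F : EtCoh.Ab X) (hF : EtCoh.IsFiniteLocallyConstant F) :
    ∃ (V : X.Etale) (_ : IsFinite V.hom) (_ : Surjective V.hom) (_ : ConnectedSpace V.left)
      (M : AddCommGrpCat.{u + 1}) (_ : Finite M),
      (∀ n : ℕ, EtCoh.KilledBy n F → ∀ m : M, n • m = 0) ∧
      Nonempty ((constantSheaf V.left.smallEtaleTopology AddCommGrpCat.{u + 1}).obj M ≅ (EtCoh.pull V.hom).obj F) := by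
  obtain ⟨U, hU, ⟨e⟩⟩ := FinEtSheaf.exists_natIso_of_finiteLocallyConstant hF
  obtain ⟨V, hV, hc, hsat⟩ := exists_saturated U
  haveI : AlgebraicGeometry.Etale V.hom := V.prop
  let ev : (V ⟶ U) → F.obj.obj (op V) := fun m => e.inv.app (op V) (ULift.up.{u + 1} m)
  have hev : Function.Bijective ev :=
    ((ConcreteCategory.isIso_iff_bijective (e.inv.app (op V))).1 inferInstance).comp Equiv.ulift.symm.bijective
  have hconst : EtFound.ConstBy F (𝟙 (F.obj.obj (op V))) := fun Ω _ _ ξ z => by
    let Φ := Scheme.pointSmallEtale ξ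
    haveI : IsIso (Φ.presheafFiber.map e.inv) := inferInstance
    have hE : Function.Bijective (Φ.presheafFiber.map e.inv) := (ConcreteCategory.isIso_iff_bijective _).1 inferInstance
    have h1 : ∀ m : V ⟶ U, Φ.toPresheafFiber V z (F.obj ⋙ forget AddCommGrpCat.{u + 1}) (ev m) =
        Φ.presheafFiber.map e.inv (Φ.toPresheafFiber U (Φ.fiber.map m z) (FinEtSheaf.repPre U) (FinEtSheaf.taut U)) :=
      fun m => by
        refine (Φ.toPresheafFiber_naturality_apply (P := FinEtSheaf.repPre U) (Q := F.obj ⋙ forget AddCommGrpCat.{u + 1}) e.inv V z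
          (ULift.up.{u + 1} m : ULift.{u + 1} (V ⟶ U))).symm.trans
          (congrArg _ ?_)
        refine Eq.trans (congrArg _ ?_) (Φ.toPresheafFiber_w_apply m z (FinEtSheaf.repPre U) (FinEtSheaf.taut U))
        show ULift.up.{u + 1} m = ULift.up.{u + 1} (m ≫ 𝟙 U)
        rw [Category.comp_id]
    have h2 : Function.Bijective fun m : V ⟶ U =>
        Φ.toPresheafFiber V z (F.obj ⋙ forget AddCommGrpCat.{u + 1}) (ev m) := by
      simp only [h1]
      exact hE.comp ((FinEtSheaf.germ_id_bijective ξ U).comp (hsat Ω ξ z))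
    have h3 : Function.Bijective fun s : F.obj.obj (op V) =>
        Φ.toPresheafFiber V z (F.obj ⋙ forget AddCommGrpCat.{u + 1}) s := (Function.Bijective.of_comp_iff _ hev).1 h2
    refine ⟨fun a b h => h3.1 ?_, fun p => ?_⟩
    · obtain ⟨V', g, v, hv, hg⟩ := (Φ.toPresheafFiber_eq_iff' (P := F.obj) V z _ _).1 h
      exact (Φ.toPresheafFiber_eq_iff' (P := F.obj ⋙ forget AddCommGrpCat.{u + 1}) V z _ _).2 ⟨V', g, v, hv, hg⟩
    · obtain ⟨T, t, s, rfl⟩ := Φ.toPresheafFiber_jointly_surjective (P := F.obj) p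
      obtain ⟨k, hk⟩ := h3.2 (Φ.toPresheafFiber T t (F.obj ⋙ forget AddCommGrpCat.{u + 1}) s)
      refine ⟨k, ?_⟩
      obtain ⟨⟨T', t'⟩, ⟨a₀, ha₀⟩, ⟨b₀, hb₀⟩, -⟩ := IsCofilteredOrEmpty.cone_objs
        (Φ.fiber.elementsMk V z) (Φ.fiber.elementsMk T t)
      obtain ⟨a, ha⟩ : ∃ a : T' ⟶ V, Φ.fiber.map a t' = z := ⟨a₀, ha₀⟩
      obtain ⟨b, hb⟩ : ∃ b : T' ⟶ T, Φ.fiber.map b t' = t := ⟨b₀, hb₀⟩
      subst ha hb
      have hk' : Φ.toPresheafFiber T' t' (F.obj ⋙ forget AddCommGrpCat.{u + 1}) (F.obj.map a.op k) =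
          Φ.toPresheafFiber T' t' (F.obj ⋙ forget AddCommGrpCat.{u + 1}) (F.obj.map b.op s) :=
        (Φ.toPresheafFiber_w_apply a t' (F.obj ⋙ forget AddCommGrpCat.{u + 1}) k).trans
          (hk.trans (Φ.toPresheafFiber_w_apply b t' (F.obj ⋙ forget AddCommGrpCat.{u + 1}) s).symm)
      obtain ⟨V', g, v, hv, hg⟩ := (Φ.toPresheafFiber_eq_iff' (P := F.obj ⋙ forget AddCommGrpCat.{u + 1}) T' t' _ _).1 hk'
      refine (Φ.toPresheafFiber_w_apply a t' F.obj k).symm.trans (Eq.trans ?_ (Φ.toPresheafFiber_w_apply b t' F.obj s))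
      exact (Φ.toPresheafFiber_eq_iff' (P := F.obj) T' t' _ _).2 ⟨V', g, v, hv, hg⟩
  haveI : Finite (F.obj.obj (op V)) := by
    obtain ⟨v⟩ := (inferInstance : Nonempty V.left)
    obtain ⟨Ω, _, _, ξ, z, -⟩ := EtFound.exists_algClosed_point V v
    haveI := finite_fiber (U := U) ξ
    haveI : Finite (V ⟶ U) := Finite.of_injective _ (hsat Ω ξ z).1
    exact Finite.of_surjective ev hev.2
  let d : EtCoh.top V.left ⟶ (EtCoh.bc V.hom).obj V :=
    MorphismProperty.Over.homMk (pullback.lift (f := V.hom) (g := V.hom) (𝟙 _) (𝟙 _) rfl) (pullback.lift_snd _ _ _)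
  have hψ := (EtFound.constBy_pull V.hom hconst).restrict d
  refine ⟨V, hV, ⟨surjective_of_connected (X := X) V.hom hc.toNonempty⟩, hc, F.obj.obj (op V), inferInstance, fun n hn m => hn V m, ?_⟩
  let G := (EtCoh.pull V.hom).obj F
  let ψ : F.obj.obj (op V) ⟶ G.obj.obj (op (EtCoh.top V.left)) :=
    ((EtCoh.pullPushAdj V.hom).unit.app F).hom.app (op V) ≫ G.obj.map d.op
  let t := EtCore.topIsTerminal V.left
  let η : (Functor.const V.left.Etaleᵒᵖ).obj (F.obj.obj (op V)) ⟶ G.obj :=
    { app := fun W => ψ ≫ G.obj.map (t.from W.unop).op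
      naturality := fun W W' g => by
        refine (Category.id_comp _).trans ?_
        show ψ ≫ _ = (ψ ≫ _) ≫ _
        refine Eq.trans ?_ ((congrArg (ψ ≫ ·) (G.obj.map_comp _ g)).trans (Category.assoc _ _ _).symm)
        exact congrArg (fun k => ψ ≫ G.obj.map k) (Quiver.Hom.unop_inj (t.hom_ext _ _)) }
  let φ : (constantSheaf V.left.smallEtaleTopology AddCommGrpCat.{u + 1}).obj (F.obj.obj (op V)) ⟶ G :=
    ⟨sheafifyLift V.left.smallEtaleTopology η G.property⟩
  haveI : IsIso φ := EtFound.isIso_of_stalks φ fun Ω _ _ ξ => by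
    let Ω' := AlgebraicClosure Ω
    let l : Spec (CommRingCat.of Ω') ⟶ Spec (CommRingCat.of Ω) := Spec.map (CommRingCat.ofHom (algebraMap Ω Ω'))
    suffices h : Function.Bijective ((Scheme.pointSmallEtale (l ≫ ξ)).presheafFiber.map φ.hom) by
      have h' : IsIso ((Scheme.pointSmallEtale (l ≫ ξ)).sheafFiber.map φ) := (ConcreteCategory.isIso_iff_bijective _).2 h
      rw [← NatIso.isIso_map_iff (EtFound.stalkExtIso AddCommGrpCat.{u + 1} ξ l) φ] at h'
      exact (ConcreteCategory.isIso_iff_bijective ((Scheme.pointSmallEtale ξ).sheafFiber.map φ)).1 h'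
    let Φ := Scheme.pointSmallEtale (l ≫ ξ)
    let u₀ : Φ.fiber.obj (EtCoh.top V.left) := CategoryTheory.Over.homMk (l ≫ ξ) (Category.comp_id _)
    refine (Function.Bijective.of_comp_iff _
      (EtFound.toSheafify_const_germ_bijective (l ≫ ξ) AddCommGrpCat.{u + 1} _ (EtCoh.top V.left) u₀)).1 ?_
    refine Eq.mpr (congrArg Function.Bijective (funext fun m => ?_)) (hψ Ω' (l ≫ ξ) u₀)
    refine (Φ.toPresheafFiber_naturality_apply φ.hom (EtCoh.top V.left) u₀ _).trans (congrArg _ ?_)
    have e1 := congr(($(toSheafify_sheafifyLift V.left.smallEtaleTopology η G.property)).app (op (EtCoh.top V.left)) m)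
    refine e1.trans ?_
    show (ψ ≫ G.obj.map (t.from (EtCoh.top V.left)).op) m = ψ m
    rw [t.hom_ext (t.from (EtCoh.top V.left)) (𝟙 _), op_id, CategoryTheory.Functor.map_id, Category.comp_id]
  exact ⟨asIso φ⟩

end Groth.Agent.HTop83
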