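import Mathlib.RingTheory.LocalRing.Basic
import Mathlib.RingTheory.IntegralClosure.IntegrallyClosed
import Mathlib.RingTheory.Ideal.Maps
import Mathlib.Algebra.Polynomial.Degree.Lemmas

/-!
# Making finitely many rational functions comparable

For a map `π : R →+* K` to a field and a finite set `S ⊆ K` the ideal `fracIdeal π S` consists of the elements
whose image lies in `D · J`, with `J` spanned by `S` and `D` its ideal of denominators. Where this ideal is
generated by one element, one element of `S` divides all others.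
-/

set_option autoImplicit false

universe u

namespace Groth.Agent.HTop83

open Polynomial

variable {R K : Type u} [CommRing R] [Field K]

/-- The products `d * c` of a common denominator `d` of `S` with an element `c` of `S`. -/
def fracGens (π : R →+* K) (S : Finset K) : Set K :=
  {x | ∃ d : K, (∀ c ∈ S, d * c ∈ π.range) ∧ ∃ c ∈ S, x = d * c}

/-- The ideal of elements mapping to the fractional ideal times its denominators. -/
def fracIdeal (π : R →+* K) (S : Finset K) : Ideal R where
  carrier := {a | π a ∈ AddSubgroup.closure {x | ∃ r : R, ∃ g ∈ fracGens π S, x = π r * g}}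
  add_mem' := fun {a b} ha hb => by
    show π (a + b) ∈ AddSubgroup.closure _
    rw [map_add]
    exact add_mem ha hb
  zero_mem' := by
    show π 0 ∈ AddSubgroup.closure _
    rw [map_zero]
    exact zero_mem _
  smul_mem' := fun r a ha => by
    show π (r * a) ∈ AddSubgroup.closure _
    rw [map_mul]
    replace ha : π a ∈ AddSubgroup.closure _ := ha
    generalize π a = z at ha ⊢
    induction ha using AddSubgroup.closure_induction with
    | mem x hx =>
      obtain ⟨r', g, hg, rfl⟩ := hx
      exact AddSubgroup.subset_closure ⟨r * r', g, hg, by rw [map_mul, mul_assoc]⟩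
    | zero => rw [mul_zero]; exact zero_mem _
    | add x y _ _ hx hy => rw [mul_add]; exact add_mem hx hy
    | neg x _ hx => rw [mul_neg]; exact neg_mem hx

theorem mem_fracIdeal {π : R →+* K} {S : Finset K} {a : R} :
    a ∈ fracIdeal π S ↔ π a ∈ AddSubgroup.closure {x | ∃ r : R, ∃ g ∈ fracGens π S, x = π r * g} :=
  Iff.rfl

theorem fracGens_subset_range {π : R →+* K} {S : Finset K} {g : K} (hg : g ∈ fracGens π S) :
    g ∈ π.range := by
  obtain ⟨d, hd, c, hc, rfl⟩ := hg
  exact hd c hc

theorem mem_fracIdeal_of_gen {π : R →+* K} {S : Finset K} {g : K} (hg : g ∈ fracGens π S) {a : R}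
    (ha : π a = g) : a ∈ fracIdeal π S :=
  AddSubgroup.subset_closure ⟨1, g, hg, by rw [ha, map_one, one_mul]⟩

/-- The ideal of denominators is not contained in the kernel. -/
theorem exists_mem_fracIdeal {π : R →+* K} {S : Finset K} (hS : (1 : K) ∈ S)
    (hden : ∃ s : R, π s ≠ 0 ∧ ∀ c ∈ S, π s * c ∈ π.range) : ∃ a ∈ fracIdeal π S, π a ≠ 0 := by
  obtain ⟨s, hs, hsc⟩ := hden
  exact ⟨s, mem_fracIdeal_of_gen ⟨π s, hsc, 1, hS, rfl⟩ (mul_one _).symm, hs⟩

variable {O L : Type u} [CommRing O] [IsLocalRing O] [Field L]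

/-- Where the ideal becomes principal, one of the elements divides all the others. -/
theorem exists_ratio {π : R →+* K} {S : Finset K} (hne : ∃ a ∈ fracIdeal π S, π a ≠ 0) (ψ : R →+* O)
    (φ : O →+* L) (ι : K →+* L) (hcomm : φ.comp ψ = ι.comp π) {e : O}
    (he : (fracIdeal π S).map ψ = Ideal.span {e}) :
    ∃ c ∈ S, c ≠ 0 ∧ ∀ c' ∈ S, ∃ t : O, φ t = ι c' / ι c := by
  have hmul : ∀ a ∈ fracIdeal π S, ∃ t, φ t * φ e = ι (π a) := fun a ha => by
    obtain ⟨t, ht⟩ := Ideal.mem_span_singleton'.1 (he ▸ Ideal.mem_map_of_mem ψ ha)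
    exact ⟨t, by rw [← map_mul, ht]; exact RingHom.congr_fun hcomm a⟩
  obtain ⟨a₀, ha₀, hπa₀⟩ := hne
  have he0 : φ e ≠ 0 := fun h => by
    obtain ⟨t, ht⟩ := hmul a₀ ha₀
    rw [h, mul_zero] at ht
    exact hπa₀ ((map_eq_zero ι).1 ht.symm)
  have hg : ∀ g ∈ fracGens π S, ∃ t, φ t * φ e = ι g := fun g hg => by
    obtain ⟨a, rfl⟩ := fracGens_subset_range hg
    exact hmul a (mem_fracIdeal_of_gen hg rfl)
  suffices h : ∃ g ∈ fracGens π S, ∃ t : O, IsUnit t ∧ φ t * φ e = ι g by
    obtain ⟨g, ⟨d, hd, c, hc, rfl⟩, t, ht, hte⟩ := h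
    have hι : ι d * ι c ≠ 0 := by
      rw [← map_mul, ← hte]
      exact mul_ne_zero (fun h0 => (IsUnit.map φ ht).ne_zero h0) he0
    refine ⟨c, hc, fun h0 => hι (by rw [h0, map_zero, mul_zero]), fun c' hc' => ?_⟩
    obtain ⟨t', ht'⟩ := hg _ ⟨d, hd, c', hc', rfl⟩
    obtain ⟨u, rfl⟩ := ht
    refine ⟨t' * ↑u⁻¹, ?_⟩
    have hu : φ (↑u⁻¹ : O) = (φ (u : O))⁻¹ :=
      eq_inv_of_mul_eq_one_left (by rw [← map_mul, Units.inv_mul, map_one])
    have h1 : φ (u : O) ≠ 0 := fun h0 => hι (by rw [← map_mul, ← hte, h0, zero_mul])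
    rw [map_mul, hu, ← div_eq_mul_inv, div_eq_div_iff h1 (right_ne_zero_of_mul hι)]
    apply mul_right_cancel₀ (mul_ne_zero he0 (left_ne_zero_of_mul hι))
    rw [map_mul] at ht' hte
    linear_combination (ι d * ι c) * ht' - (ι d * ι c') * hte
  by_contra hcon
  push Not at hcon
  have hall : ∀ a ∈ fracIdeal π S, ∃ t ∈ IsLocalRing.maximalIdeal O, φ t * φ e = ι (π a) := fun a ha => by
    replace ha := mem_fracIdeal.1 ha
    generalize π a = x at ha
    induction ha using AddSubgroup.closure_induction with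
    | mem x hx =>
      obtain ⟨r, g, hg', rfl⟩ := hx
      obtain ⟨t, ht⟩ := hg g hg'
      refine ⟨ψ r * t, Ideal.mul_mem_left _ _ ((IsLocalRing.mem_maximalIdeal t).2 fun h => hcon g hg' t h ht), ?_⟩
      rw [map_mul, mul_assoc, ht, map_mul]
      exact congrArg (· * ι g) (RingHom.congr_fun hcomm r)
    | zero => exact ⟨0, zero_mem _, by simp⟩
    | add x y _ _ hx hy =>
      obtain ⟨t, ht, htx⟩ := hx
      obtain ⟨t', ht', hty⟩ := hy
      exact ⟨t + t', add_mem ht ht', by rw [map_add, add_mul, htx, hty, map_add]⟩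
    | neg x _ hx =>
      obtain ⟨t, ht, htx⟩ := hx
      exact ⟨-t, neg_mem ht, by rw [map_neg, neg_mul, htx, map_neg]⟩
  have hmem : ∀ z ∈ (fracIdeal π S).map ψ, ∃ t ∈ IsLocalRing.maximalIdeal O, φ t * φ e = φ z := fun z hz => by
    induction hz using Submodule.span_induction with
    | mem x hx =>
      obtain ⟨a, ha, rfl⟩ := hx
      obtain ⟨t, ht, hta⟩ := hall a ha
      exact ⟨t, ht, hta.trans (RingHom.congr_fun hcomm a).symm⟩
    | zero => exact ⟨0, zero_mem _, by simp⟩
    | add x y _ _ hx hy =>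
      obtain ⟨t, ht, htx⟩ := hx
      obtain ⟨t', ht', hty⟩ := hy
      exact ⟨t + t', add_mem ht ht', by rw [map_add, add_mul, htx, hty, map_add]⟩
    | smul r x _ hx =>
      obtain ⟨t, ht, htx⟩ := hx
      exact ⟨r * t, Ideal.mul_mem_left _ _ ht, by rw [map_mul, mul_assoc, htx, smul_eq_mul, map_mul]⟩
  obtain ⟨t, ht, hte⟩ := hmem e (he ▸ Ideal.mem_span_singleton_self e)
  have h1 : φ (1 - t) = 0 := by
    rw [map_sub, map_one, mul_right_cancel₀ he0 (hte.trans (one_mul _).symm), sub_self]
  exact ((IsLocalRing.isUnit_one_sub_self_of_mem_nonunits t ht).map φ).ne_zero h1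

/-- In an integrally closed local subring of a field, a root of a polynomial with coefficients in the subring,
one of which is a unit, or its inverse lies in the subring. -/
theorem mem_or_inv_mem_of_root (φ : O →+* L) (hint : ∀ z, φ.IsIntegralElem z → z ∈ φ.range) :
    ∀ (n : ℕ) (a : ℕ → O) (x : L), ∑ i ∈ Finset.range (n + 1), φ (a i) * x ^ i = 0 →
      (∃ i ≤ n, IsUnit (a i)) → x ∈ φ.range ∨ x⁻¹ ∈ φ.range := by
  intro n
  induction n with
  | zero =>
    intro a x h ⟨i, hi, hu⟩
    obtain rfl : i = 0 := Nat.le_zero.1 hi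
    simp only [zero_add, Finset.sum_range_one, pow_zero, mul_one] at h
    exact absurd h (hu.map φ).ne_zero
  | succ n ih =>
    intro a x h hu
    have hy : φ (a (n + 1)) * x ∈ φ.range := by
      apply hint
      refine ⟨Polynomial.X ^ (n + 1) +
        ∑ i ∈ Finset.range (n + 1), Polynomial.C (a i * a (n + 1) ^ (n - i)) * Polynomial.X ^ i, ?_, ?_⟩
      · refine monic_X_pow_add ((degree_sum_le _ _).trans_lt ((Finset.sup_lt_iff (by simp)).2 fun i hi => ?_))
        exact (degree_C_mul_X_pow_le _ _).trans_lt (by exact_mod_cast Finset.mem_range.1 hi)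
      · rw [eval₂_add, eval₂_finset_sum, eval₂_X_pow]
        simp only [eval₂_mul, eval₂_C, eval₂_X_pow]
        have : ∀ i ∈ Finset.range (n + 1),
            φ (a i * a (n + 1) ^ (n - i)) * (φ (a (n + 1)) * x) ^ i =
              φ (a (n + 1)) ^ n * (φ (a i) * x ^ i) := fun i hi => by
          obtain ⟨k, hk⟩ := Nat.exists_eq_add_of_le (Nat.lt_succ_iff.1 (Finset.mem_range.1 hi))
          rw [hk, Nat.add_sub_cancel_left, map_mul, map_pow, pow_add, mul_pow]
          ring
        rw [Finset.sum_congr rfl this, ← Finset.mul_sum]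
        rw [Finset.sum_range_succ] at h
        linear_combination φ (a (n + 1)) ^ n * h
    obtain ⟨y, hy⟩ := hy
    have hsum : ∑ i ∈ Finset.range (n + 1), φ (Function.update a n (a n + y) i) * x ^ i = 0 := by
      rw [Finset.sum_range_succ, Function.update_self, map_add, hy]
      rw [Finset.sum_range_succ, Finset.sum_range_succ] at h
      rw [Finset.sum_congr rfl fun i hi => by rw [Function.update_of_ne (Finset.mem_range.1 hi).ne]]
      rw [← h]
      ring
    by_cases hnew : ∃ i ≤ n, IsUnit (Function.update a n (a n + y) i)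
    · exact ih _ x hsum hnew
    push Not at hnew
    have han : ¬ IsUnit (a n + y) := by simpa using hnew n le_rfl
    obtain ⟨i, hi, hiu⟩ := hu
    by_cases htop : IsUnit (a (n + 1))
    · obtain ⟨v, hv⟩ := htop.exists_left_inv
      refine .inl ⟨v * y, ?_⟩
      rw [map_mul, hy, ← mul_assoc, ← map_mul, hv, map_one, one_mul]
    have hin : i = n := by
      refine (eq_or_lt_of_le hi).elim (fun h' => absurd (h' ▸ hiu) htop) fun h' => ?_
      by_contra hne
      exact hnew i (Nat.lt_succ_iff.1 h') (by rwa [Function.update_of_ne hne])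
    subst hin
    have hyu : IsUnit y := by
      by_contra hy0
      refine IsLocalRing.nonunits_add han (show -y ∈ nonunits O from fun h => hy0 (by simpa using h.neg)) ?_
      simpa using hiu
    obtain ⟨w, hw⟩ := hyu.exists_left_inv
    refine .inr ⟨w * a (i + 1), ?_⟩
    refine eq_inv_of_mul_eq_one_left ?_
    rw [map_mul, mul_assoc, ← hy, ← map_mul, hw, map_one]

/-- If the coefficients of a polynomial are comparable in an integrally closed local subring of a field, a root
or its inverse lies in the subring. -/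
theorem mem_or_inv_mem_of_poly (φ : O →+* L) (hint : ∀ z, φ.IsIntegralElem z → z ∈ φ.range)
    (ι : K →+* L) (P : K[X]) {c : K} (hc : c ≠ 0) (hcS : ∃ i, P.coeff i = c)
    (hdiv : ∀ i, ∃ t : O, φ t = ι (P.coeff i) / ι c) {x : L} (hx : P.eval₂ ι x = 0) :
    x ∈ φ.range ∨ x⁻¹ ∈ φ.range := by
  choose a ha using hdiv
  obtain ⟨i₀, hi₀⟩ := hcS
  let a' : ℕ → O := Function.update a i₀ 1
  have ha' : ∀ i, φ (a' i) = ι (P.coeff i) / ι c := fun i => by
    rcases eq_or_ne i i₀ with rfl | h
    · simp [a', hi₀, (map_ne_zero ι).2 hc]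
    · simp [a', Function.update_of_ne h, ha]
  refine mem_or_inv_mem_of_root φ hint P.natDegree a' x ?_
    ⟨i₀, le_natDegree_of_ne_zero (hi₀ ▸ hc), by simp [a']⟩
  simp_rw [ha', div_eq_mul_inv, mul_right_comm, ← Finset.sum_mul]
  rw [← eval₂_eq_sum_range, hx, zero_mul]

end Groth.Agent.HTop83
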