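import Groth.Agent.HTop83.FracIdeal
import Mathlib.AlgebraicGeometry.IdealSheaf.Basic
import Mathlib.AlgebraicGeometry.ResidueField
import Mathlib.RingTheory.Localization.Ideal

/-!
# The ideal sheaf of finitely many elements of a residue field
-/

set_option autoImplicit false
set_option backward.isDefEq.respectTransparency false
set_option backward.isDefEq.respectTransparency.types false

universe u

noncomputable section

namespace Groth.Agent.HTop83

open CategoryTheory AlgebraicGeometry TopologicalSpace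

variable {X : Scheme.{u}} (η : X) (S : Finset (X.residueField η))

theorem evaluation_res {U V : X.Opens} (i : V ≤ U) (h : η ∈ V) (a : Γ(X, U)) :
    (X.evaluation V η h).hom ((X.presheaf.map (homOfLE i).op).hom a) = (X.evaluation U η (i h)).hom a := by
  show X.residue η (X.presheaf.germ V η h _) = X.residue η (X.presheaf.germ U η (i h) a)
  exact congrArg (X.residue η) (TopCat.Presheaf.germ_res_apply X.presheaf (homOfLE i) η h a)

open Classical in
/-- On each affine open the elements whose value at `η` lies in the fractional ideal times denominators. -/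
def fracSheafIdeal (U : X.affineOpens) : Ideal Γ(X, U.1) :=
  if h : η ∈ U.1 then fracIdeal (X.evaluation U.1 η h).hom S else ⊤

theorem fracSheafIdeal_of_mem {U : X.affineOpens} (h : η ∈ U.1) :
    fracSheafIdeal η S U = fracIdeal (X.evaluation U.1 η h).hom S := dif_pos h

theorem mul_closure_mem {R K : Type u} [CommRing R] [Field K] {S : Finset K} (π : R →+* K) (s : R) {z : K}
    (hz : z ∈ AddSubgroup.closure {x | ∃ r, ∃ g ∈ fracGens π S, x = π r * g}) :
    π s * z ∈ AddSubgroup.closure {x | ∃ r, ∃ g ∈ fracGens π S, x = π r * g} := by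
  induction hz using AddSubgroup.closure_induction with
  | mem z hz =>
    obtain ⟨r, g, hg, rfl⟩ := hz
    exact AddSubgroup.subset_closure ⟨s * r, g, hg, by rw [map_mul, mul_assoc]⟩
  | zero => rw [mul_zero]; exact zero_mem _
  | add a b _ _ ha hb => rw [mul_add]; exact add_mem ha hb
  | neg a _ ha => rw [mul_neg]; exact neg_mem ha

theorem fracSheafIdeal_map (U : X.affineOpens) (f : Γ(X, U.1)) :
    (fracSheafIdeal η S U).map (X.presheaf.map (homOfLE <| X.basicOpen_le f).op).hom =
      fracSheafIdeal η S (X.affineBasicOpen f) := by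
  classical
  set res := (X.presheaf.map (homOfLE <| X.basicOpen_le f).op).hom with hres
  letI := res.toAlgebra
  haveI : IsLocalization.Away f Γ(X, X.basicOpen f) := U.2.isLocalization_basicOpen f
  by_cases hU : η ∈ U.1
  swap
  · have hV : η ∉ X.basicOpen f := fun h => hU (X.basicOpen_le f h)
    rw [fracSheafIdeal, dif_neg hU, fracSheafIdeal, dif_neg (show η ∉ (X.affineBasicOpen f).1 from hV), Ideal.map_top]
  rw [fracSheafIdeal_of_mem η S hU]
  let π := (X.evaluation U.1 η hU).hom
  by_cases hV : η ∈ X.basicOpen f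
  swap
  · rw [fracSheafIdeal, dif_neg (show η ∉ (X.affineBasicOpen f).1 from hV)]
    refine Ideal.eq_top_of_isUnit_mem _ (Ideal.mem_map_of_mem res (show f ∈ fracIdeal π S from ?_))
      (IsLocalization.Away.algebraMap_isUnit f)
    rw [mem_fracIdeal, show π f = 0 from (Scheme.evaluation_eq_zero_iff_notMem_basicOpen X η hU f).2 hV]
    exact zero_mem _
  rw [fracSheafIdeal_of_mem η S (U := X.affineBasicOpen f) hV]
  let π' := (X.evaluation (X.basicOpen f) η hV).hom
  have hπ : ∀ a, π' (res a) = π a := evaluation_res η (X.basicOpen_le f) hV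
  have hf : π f ≠ 0 := (Scheme.evaluation_ne_zero_iff_mem_basicOpen X η hU f).2 hV
  refine le_antisymm (Ideal.map_le_iff_le_comap.2 fun a ha => ?_) fun a' ha' => ?_
  · show π' (res a) ∈ AddSubgroup.closure _
    rw [hπ]
    refine (AddSubgroup.closure_mono ?_) (mem_fracIdeal.1 ha)
    rintro _ ⟨r, _, ⟨d, hd, c, hc, rfl⟩, rfl⟩
    exact ⟨res r, _, ⟨d, fun c hc => ⟨res (hd c hc).choose, (hπ _).trans (hd c hc).choose_spec⟩, c, hc, rfl⟩,
      congrArg (· * (d * c)) (hπ r).symm⟩
  · have hrange : ∀ x ∈ π'.range, ∃ n : ℕ, π f ^ n * x ∈ π.range := by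
      rintro _ ⟨b, rfl⟩
      obtain ⟨⟨r, s⟩, hb⟩ := IsLocalization.surj (Submonoid.powers f) b
      obtain ⟨n, hn⟩ := s.2
      refine ⟨n, r, ?_⟩
      have h := congrArg π' hb
      rw [map_mul, RingHom.algebraMap_toAlgebra, hπ, hπ, ← hn, map_pow] at h
      rw [← h, mul_comm]
    have hclo : ∀ x ∈ AddSubgroup.closure {x | ∃ r, ∃ g ∈ fracGens π' S, x = π' r * g}, ∃ n : ℕ,
        π f ^ n * x ∈ AddSubgroup.closure {x | ∃ r, ∃ g ∈ fracGens π S, x = π r * g} := by
      intro x hx
      induction hx using AddSubgroup.closure_induction with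
      | mem x hx =>
        obtain ⟨r, g, ⟨d, hd, c, hc, rfl⟩, rfl⟩ := hx
        obtain ⟨k, r', hr'⟩ := hrange (π' r) ⟨r, rfl⟩
        choose m hm using fun c : S => hrange (d * c) (hd c c.2)
        let N := Finset.univ.sup m
        refine ⟨k + N, AddSubgroup.subset_closure ⟨r', _, ⟨π f ^ N * d, fun c' hc' => ?_, c, hc, rfl⟩, ?_⟩⟩
        · obtain ⟨b, hb⟩ := hm ⟨c', hc'⟩
          obtain ⟨j, hj⟩ := Nat.exists_eq_add_of_le (Finset.le_sup (f := m) (Finset.mem_univ (⟨c', hc'⟩ : S)))
          refine ⟨f ^ j * b, ?_⟩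
          rw [map_mul, map_pow, hb, show N = m ⟨c', hc'⟩ + j from hj, pow_add]
          ring
        · rw [hr', pow_add]
          ring
      | zero => exact ⟨0, by rw [mul_zero]; exact zero_mem _⟩
      | add x y _ _ hx hy =>
        obtain ⟨n, hn⟩ := hx
        obtain ⟨m, hm⟩ := hy
        refine ⟨n + m, ?_⟩
        rw [show π f ^ (n + m) * (x + y) = π f ^ m * (π f ^ n * x) + π f ^ n * (π f ^ m * y) by ring]
        rw [← map_pow π f m, ← map_pow π f n]
        exact add_mem (mul_closure_mem π _ (by rwa [map_pow])) (mul_closure_mem π _ (by rwa [map_pow]))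
      | neg x _ hx =>
        obtain ⟨n, hn⟩ := hx
        exact ⟨n, by rw [mul_neg]; exact neg_mem hn⟩
    obtain ⟨⟨r, s⟩, rfl⟩ := IsLocalization.mk'_surjective (Submonoid.powers f) a'
    obtain ⟨n, hn⟩ := hclo _ ha'
    have hmem : (f ^ n * r) ∈ fracIdeal π S := by
      rw [mem_fracIdeal, map_mul, map_pow]
      have h1 := congrArg π' (IsLocalization.mk'_spec Γ(X, X.basicOpen f) r s)
      rw [map_mul, RingHom.algebraMap_toAlgebra, hπ, hπ] at h1
      rw [← h1, mul_comm _ (π s), mul_left_comm]
      exact mul_closure_mem π s.1 hn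
    exact (IsLocalization.mk'_mem_map_algebraMap_iff (Submonoid.powers f) Γ(X, X.basicOpen f) _ r s).2
      ⟨f ^ n, ⟨n, rfl⟩, hmem⟩

/-- The ideal sheaf of a finite subset of the residue field at `η`. -/
def fracSheaf : X.IdealSheafData where
  ideal := fracSheafIdeal η S
  map_ideal_basicOpen := fracSheafIdeal_map η S

theorem fracSheaf_ideal {U : X.affineOpens} (h : η ∈ U.1) :
    (fracSheaf η S).ideal U = fracIdeal (X.evaluation U.1 η h).hom S := fracSheafIdeal_of_mem η S h

/-- Elements of a residue field have common denominators. -/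
theorem exists_denominator {U : X.Opens} (hU : IsAffineOpen U) (h : η ∈ U) :
    ∃ s : Γ(X, U), (X.evaluation U η h).hom s ≠ 0 ∧
      ∀ c ∈ S, (X.evaluation U η h).hom s * c ∈ (X.evaluation U η h).hom.range := by
  classical
  letI := X.presheaf.algebra_section_stalk (⟨η, h⟩ : U)
  haveI := hU.isLocalization_stalk ⟨η, h⟩
  choose l hl using fun c : X.residueField η => X.residue_surjective η c
  obtain ⟨s, hs⟩ := IsLocalization.exist_integer_multiples_of_finset
    (hU.primeIdealOf ⟨η, h⟩).asIdeal.primeCompl (S.image l)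
  refine ⟨s, ?_, fun c hc => ?_⟩
  · have hu : IsUnit (algebraMap Γ(X, U) (X.presheaf.stalk η) s) := IsLocalization.map_units _ s
    exact (hu.map (X.residue η).hom).ne_zero
  · obtain ⟨b, hb⟩ := hs (l c) (Finset.mem_image_of_mem l hc)
    refine ⟨b, ?_⟩
    have h2 : algebraMap Γ(X, U) (X.presheaf.stalk η) b =
        algebraMap Γ(X, U) (X.presheaf.stalk η) s * l c := hb.trans (Algebra.smul_def _ _)
    have h3 := congrArg (X.residue η).hom h2
    rw [map_mul] at h3
    exact h3.trans (congrArg (_ * ·) (hl c))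

theorem exists_mem_fracSheaf (hS : (1 : X.residueField η) ∈ S) {U : X.affineOpens} (h : η ∈ U.1) :
    ∃ a ∈ fracIdeal (X.evaluation U.1 η h).hom S, (X.evaluation U.1 η h).hom a ≠ 0 :=
  exists_mem_fracIdeal hS (exists_denominator η S U.2 h)

/-- The ideal sheaf is trivial at `η`. -/
theorem notMem_support_fracSheaf (hS : (1 : X.residueField η) ∈ S) : η ∉ (fracSheaf η S).support := by
  obtain ⟨_, ⟨U, hU, rfl⟩, hη, -⟩ :=
    X.isBasis_affineOpens.exists_subset_of_mem_open (Set.mem_univ η) isOpen_univ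
  intro hmem
  obtain ⟨a, ha, ha0⟩ := exists_mem_fracSheaf η S hS (U := ⟨U, hU⟩) hη
  have hz := (Scheme.IdealSheafData.mem_support_iff_of_mem (U := (⟨U, hU⟩ : X.affineOpens)) hη).1 hmem
  rw [fracSheaf_ideal η S (U := ⟨U, hU⟩) hη] at hz
  exact (Scheme.mem_zeroLocus_iff _ _ _).1 hz a ha
    ((Scheme.evaluation_ne_zero_iff_mem_basicOpen X η hη a).1 ha0)

/-- The ideal sheaf is trivial outside the closure of `η`. -/
theorem notMem_support_fracSheaf_of_not_specializes {x : X} (hx : ¬ η ⤳ x) :
    x ∉ (fracSheaf η S).support := by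
  obtain ⟨_, ⟨U, hU, rfl⟩, hxU, hUsub⟩ := X.isBasis_affineOpens.exists_subset_of_mem_open
    (show x ∈ (closure {η})ᶜ from fun h => hx (specializes_iff_mem_closure.2 h)) isClosed_closure.isOpen_compl
  intro hmem
  have hz := (Scheme.IdealSheafData.mem_support_iff_of_mem (U := (⟨U, hU⟩ : X.affineOpens)) hxU).1 hmem
  have h1 : (fracSheaf η S).ideal ⟨U, hU⟩ = ⊤ := dif_neg fun h => hUsub h (subset_closure rfl)
  rw [h1] at hz
  exact (Scheme.mem_zeroLocus_iff _ _ _).1 hz 1 Submodule.mem_top (by simpa using hxU)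

end Groth.Agent.HTop83
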