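import Mathlib.RingTheory.AdjoinRoot
import Mathlib.RingTheory.Ideal.Quotient.Operations
import Mathlib.RingTheory.Localization.Away.Basic
import Mathlib.Algebra.Polynomial.Reverse
import Mathlib.Algebra.CharP.Lemmas
import Mathlib.Algebra.CharP.Basic
import Mathlib.RingTheory.Polynomial.Basic

/-!
# Almost glueing along the basic coverings

For the three basic coverings, sections glue uniquely up to a fixed nilpotency exponent, over any ring.
-/

set_option autoImplicit false

universe u

noncomputable section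

namespace Groth.Agent.HTop83

open Polynomial

/-- Compatible elements of a family of algebras lift, uniquely up to elements of nilpotency exponent `q`. -/
structure AlmostGlue {B : Type u} [CommRing B] {ι : Type} {D : ι → Type u} [∀ k, CommRing (D k)]
    (σ : ∀ k, B →+* D k) (q : ℕ) : Prop where
  ker : ∀ b : B, (∀ k, σ k b = 0) → b ^ q = 0
  glue : ∀ y : ∀ k, D k, (∀ j k (T : Type u) [CommRing T] (t₁ : D j →+* T) (t₂ : D k →+* T),
    t₁.comp (σ j) = t₂.comp (σ k) → t₁ (y j) = t₂ (y k)) → ∃ b, ∀ k, σ k b = y k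

theorem sub_pow_of_prime {B : Type u} [CommRing B] {p : ℕ} [hp : Fact p.Prime] (hB : (p : B) = 0) (M : ℕ)
    (x y : B) : (x - y) ^ p ^ M = x ^ p ^ M - y ^ p ^ M := by
  rcases subsingleton_or_nontrivial B with h | h
  · exact Subsingleton.elim _ _
  haveI : CharP B p := (CharP.charP_iff_prime_eq_zero hp.out).2 hB
  exact sub_pow_char_pow x y M

variable {B : Type u} [CommRing B]

/-- A monic polynomial of positive degree. -/
theorem almostGlue_monic (P : B[X]) (hP : P.Monic) (hd : Subsingleton B ∨ P.natDegree ≠ 0) :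
    AlmostGlue (ι := Unit) (D := fun _ => AdjoinRoot P) (fun _ => AdjoinRoot.of P) 1 := by
  rcases hd with hB | hd
  · exact ⟨fun b _ => Subsingleton.elim _ _, fun y _ => ⟨0, fun k => by
      haveI : Subsingleton (AdjoinRoot P) := (AdjoinRoot.of P).codomain_trivial
      exact Subsingleton.elim _ _⟩⟩
  haveI : Nontrivial B := (subsingleton_or_nontrivial B).resolve_left fun hR => hd (by
    rw [Subsingleton.elim P 0, natDegree_zero])
  have hlt : ∀ {D : Type u} [CommRing D] [Nontrivial D] (ψ : B →+* D) (G : D[X]),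
      G.natDegree < P.natDegree → AdjoinRoot.mk (P.map ψ) G = 0 → G = 0 := by
    intro D _ _ ψ G hG h0
    by_contra hne
    rw [AdjoinRoot.mk_eq_zero] at h0
    refine (hP.map ψ).not_dvd_of_natDegree_lt hne ?_ h0
    rwa [hP.natDegree_map]
  have hinj : Function.Injective (AdjoinRoot.of P) := by
    rw [injective_iff_map_eq_zero]
    intro b hb
    have := hlt (RingHom.id B) (C b) (by rw [natDegree_C]; exact Nat.pos_of_ne_zero hd)
      (by rw [Polynomial.map_id]; exact hb)
    exact C_eq_zero.1 this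
  refine ⟨fun b hb => by rw [pow_one]; exact hinj (by rw [hb (), map_zero]), fun y hy => ?_⟩
  haveI : Nontrivial (AdjoinRoot P) := hinj.nontrivial
  obtain ⟨Q, hQ⟩ := AdjoinRoot.mk_surjective (y ())
  set Q' := Q %ₘ P with hQ'
  have hmk : AdjoinRoot.mk P Q' = y () := by
    rw [← hQ, ← sub_eq_zero, ← map_sub, AdjoinRoot.mk_eq_zero]
    exact ⟨-(Q /ₘ P), by rw [hQ']; linear_combination modByMonic_add_div Q (q := P)⟩
  have hdeg : Q'.natDegree < P.natDegree :=
    natDegree_modByMonic_lt Q hP fun h1 => hd (by rw [h1, natDegree_one])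
  let T := AdjoinRoot (P.map (AdjoinRoot.of P))
  let t₁ : AdjoinRoot P →+* T := AdjoinRoot.of (P.map (AdjoinRoot.of P))
  have hroot : P.eval₂ (t₁.comp (AdjoinRoot.of P)) (AdjoinRoot.root (P.map (AdjoinRoot.of P))) = 0 := by
    rw [← eval₂_map]
    exact AdjoinRoot.eval₂_root _
  let t₂ : AdjoinRoot P →+* T := AdjoinRoot.lift (t₁.comp (AdjoinRoot.of P)) _ hroot
  have h := hy () () T t₁ t₂ (RingHom.ext fun b => (AdjoinRoot.lift_of hroot).symm)
  rw [← hmk, show t₂ (AdjoinRoot.mk P Q') = Q'.eval₂ (t₁.comp (AdjoinRoot.of P)) _ from AdjoinRoot.lift_mk hroot Q',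
    ← eval₂_map] at h
  let G : (AdjoinRoot P)[X] := Q'.map (AdjoinRoot.of P) - C (AdjoinRoot.mk P Q')
  have hG : G = 0 := by
    refine hlt (AdjoinRoot.of P) G ?_ ?_
    · refine lt_of_le_of_lt (natDegree_sub_le _ _) ?_
      rw [natDegree_C, max_eq_left (Nat.zero_le _)]
      exact lt_of_le_of_lt natDegree_map_le hdeg
    · rw [map_sub, AdjoinRoot.mk_C, sub_eq_zero]
      refine Eq.trans ?_ h.symm
      rw [← AdjoinRoot.aeval_eq, aeval_def]
      rfl
  refine ⟨Q'.coeff 0, fun k => ?_⟩
  have h0 := congrArg (fun R : (AdjoinRoot P)[X] => R.coeff 0) hG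
  simp only [G, coeff_sub, coeff_map, coeff_C_zero, coeff_zero, sub_eq_zero] at h0
  rw [h0, hmk]

/-- The pair `B/(h)`, `B/K` for an ideal killed by a power of `h`. -/
theorem almostGlue_pair (h : B) (K : Ideal B) (N : ℕ) (hK : ∀ x ∈ K, h ^ N * x = 0) (q : ℕ) (hq : N + 1 ≤ q) :
    AlmostGlue (ι := Bool) (D := fun k => B ⧸ (bif k then Ideal.span {h} else K))
      (fun k => Ideal.Quotient.mk _) q := by
  refine ⟨fun b hb => ?_, fun y hy => ?_⟩
  · obtain ⟨c, hc⟩ := Ideal.mem_span_singleton'.1 (Ideal.Quotient.eq_zero_iff_mem.1 (hb true))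
    refine pow_eq_zero_of_le hq ?_
    rw [pow_succ]
    nth_rw 1 [← hc]
    rw [mul_pow, mul_assoc, hK b (Ideal.Quotient.eq_zero_iff_mem.1 (hb false)), mul_zero]
  · obtain ⟨x₀, hx₀⟩ := Ideal.Quotient.mk_surjective (y true)
    obtain ⟨x₁, hx₁⟩ := Ideal.Quotient.mk_surjective (y false)
    have := hy true false (B ⧸ Ideal.span {h} ⊔ K) (Ideal.Quotient.factor le_sup_left)
      (Ideal.Quotient.factor le_sup_right) (RingHom.ext fun b => rfl)
    rw [← hx₀, ← hx₁, Ideal.Quotient.factor_mk, Ideal.Quotient.factor_mk, Ideal.Quotient.eq] at this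
    obtain ⟨u, hu, v, hv, huv⟩ := Submodule.mem_sup.1 this
    refine ⟨x₀ - u, fun k => ?_⟩
    cases k
    · rw [← hx₁, Ideal.Quotient.eq]
      rw [show x₀ - u - x₁ = v by linear_combination -huv]
      exact hv
    · rw [← hx₀, Ideal.Quotient.eq]
      rw [show x₀ - u - x₀ = -u by ring]
      exact neg_mem hu

/-- The polynomial of a chart. -/
abbrev chartPoly (h a : B) : B[X] := C h * X - C a

theorem exists_coeff_recursion {h a b : B} (hb : AdjoinRoot.of (chartPoly h a) b = 0) :
    ∃ Q : B[X], b = -(a * Q.coeff 0) ∧ ∀ i, h * Q.coeff i = a * Q.coeff (i + 1) := by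
  obtain ⟨Q, hQ⟩ := AdjoinRoot.mk_eq_zero.1 (show AdjoinRoot.mk (chartPoly h a) (C b) = 0 from hb)
  refine ⟨Q, ?_, fun i => ?_⟩
  · have := congrArg (fun R : B[X] => R.coeff 0) hQ
    simpa [sub_mul, mul_assoc, coeff_C_mul] using this
  · have := congrArg (fun R : B[X] => R.coeff (i + 1)) hQ
    simp [sub_mul, mul_assoc, coeff_C_mul, coeff_C] at this
    linear_combination -this

/-- The index type of the triple. -/
inductive Three : Type
  | centre | left | right

instance : Finite Three :=
  Finite.of_surjective (fun i : Fin 3 => match i with | 0 => Three.centre | 1 => Three.left | 2 => Three.right)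
    fun
      | .centre => ⟨0, rfl⟩
      | .left => ⟨1, rfl⟩
      | .right => ⟨2, rfl⟩

/-- The rings of the triple. -/
def TripleRing (h a : B) : Three → Type u
  | .centre => B ⧸ Ideal.span {h, a}
  | .left => AdjoinRoot (chartPoly h a)
  | .right => AdjoinRoot (chartPoly a h)

instance (h a : B) : ∀ k, CommRing (TripleRing h a k)
  | .centre => inferInstanceAs (CommRing (B ⧸ Ideal.span {h, a}))
  | .left => inferInstanceAs (CommRing (AdjoinRoot (chartPoly h a)))
  | .right => inferInstanceAs (CommRing (AdjoinRoot (chartPoly a h)))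

/-- The maps of the triple. -/
def tripleMap (h a : B) : ∀ k, B →+* TripleRing h a k
  | .centre => Ideal.Quotient.mk _
  | .left => AdjoinRoot.of _
  | .right => AdjoinRoot.of _

theorem triple_ker (h a b : B) (hb : ∀ k, tripleMap h a k b = 0) (q : ℕ) (hq : 2 ≤ q) : b ^ q = 0 := by
  obtain ⟨Q, hQ0, hQ⟩ := exists_coeff_recursion (hb .left)
  obtain ⟨P, hP0, hP⟩ := exists_coeff_recursion (hb .right)
  have hs : ∀ i, a * Q.coeff 0 * (h * P.coeff 0) = a * Q.coeff i * (h * P.coeff i) := fun i => by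
    induction i with
    | zero => rfl
    | succ i ih =>
      rw [ih, show a * Q.coeff i * (h * P.coeff i) = (h * Q.coeff i) * (a * P.coeff i) by ring, hQ, hP]
  refine pow_eq_zero_of_le hq ?_
  rw [sq]
  nth_rw 1 [hQ0]
  rw [hP0, neg_mul_neg, hs (Q.natDegree + 1), coeff_eq_zero_of_natDegree_lt (Nat.lt_succ_self _), mul_zero,
    zero_mul]

/-- Polynomials on the two charts agreeing on the overlap come from a constant. -/
theorem exists_const_of_overlap (h a : B) (P Q : B[X])
    (hPQ : ∃ n L, X ^ n * (X ^ Q.natDegree * P - reflect Q.natDegree Q) = chartPoly h a * L) :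
    ∃ c : B, AdjoinRoot.mk (chartPoly h a) P = AdjoinRoot.of _ c ∧
      AdjoinRoot.mk (chartPoly a h) Q = AdjoinRoot.of _ c := by
  obtain ⟨n, L, hL⟩ := hPQ
  set m := Q.natDegree with hm
  set N := n + m + 1 with hN
  set L₁ := L * X with hL₁
  have hL' : X ^ N * P - X ^ (n + 1) * reflect m Q = chartPoly h a * L₁ := by
    rw [hL₁, hN]
    linear_combination X * hL
  obtain ⟨Lh, Ll, hLl, hdec⟩ : ∃ Lh Ll : B[X], (∀ i, N ≤ i → Ll.coeff i = 0) ∧ L₁ = Ll + X ^ N * Lh :=
    ⟨L₁ /ₘ X ^ N, L₁ %ₘ X ^ N, fun i hi => by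
      rcases subsingleton_or_nontrivial B with hB | hB
      · exact Subsingleton.elim _ _
      refine coeff_eq_zero_of_degree_lt (lt_of_lt_of_le (degree_modByMonic_lt L₁ (monic_X_pow N)) ?_)
      rw [degree_X_pow]
      exact WithBot.coe_le_coe.2 hi, (modByMonic_add_div L₁ (q := X ^ N)).symm⟩
  set R := P - chartPoly h a * Lh with hR
  have hLld : Ll.natDegree ≤ N - 1 := natDegree_le_iff_coeff_eq_zero.2 fun i hi => hLl i (by omega)
  have hN1 : N - 1 + 1 = N := by omega
  have hRHS : X ^ N * R = X ^ (n + 1) * reflect m Q + chartPoly h a * Ll := by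
    rw [hR]
    rw [hdec] at hL'
    linear_combination hL'
  have hdeg : (X ^ (n + 1) * reflect m Q + chartPoly h a * Ll).natDegree ≤ N := by
    refine natDegree_add_le_of_degree_le ?_ ?_
    · refine le_trans natDegree_mul_le ?_
      have h1 : (reflect m Q).natDegree ≤ m := natDegree_le_iff_coeff_eq_zero.2 fun i hi => by
        rw [coeff_reflect, revAt_eq_self_of_lt hi, coeff_eq_zero_of_natDegree_lt (by omega)]
      have := natDegree_X_pow_le (R := B) (n + 1)
      omega
    · refine le_trans natDegree_mul_le ?_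
      have : (chartPoly h a).natDegree ≤ 1 := by
        refine le_trans (natDegree_sub_le _ _) ?_
        rw [natDegree_C]
        exact max_le ((natDegree_C_mul_le _ _).trans natDegree_X_le) (Nat.zero_le _)
      omega
  have hRc : R = C (R.coeff 0) := Polynomial.ext fun i => by
    rcases Nat.eq_zero_or_pos i with rfl | hi
    · rw [coeff_C_zero]
    · rw [coeff_C, if_neg hi.ne', ← coeff_X_pow_mul R N i, hRHS]
      exact coeff_eq_zero_of_natDegree_lt (by omega)
  refine ⟨R.coeff 0, ?_, ?_⟩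
  · rw [← AdjoinRoot.mk_C, ← hRc, hR, map_sub, map_mul, AdjoinRoot.mk_self, zero_mul, sub_zero]
  · rw [← AdjoinRoot.mk_C]
    have h2 := congrArg (reflect N) hRHS
    have e1 : reflect N (X ^ N * R) = C (R.coeff 0) := by
      conv_lhs => rw [hRc]
      rw [mul_comm, reflect_C_mul_X_pow, revAt_le le_rfl, Nat.sub_self, pow_zero, mul_one]
    have e2 : reflect N (X ^ (n + 1) * reflect m Q) = Q := by
      rw [show N = (n + 1) + m by omega, reflect_mul _ _ (natDegree_X_pow_le _)
        (natDegree_le_iff_coeff_eq_zero.2 fun i hi => by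
          rw [coeff_reflect, revAt_eq_self_of_lt hi, coeff_eq_zero_of_natDegree_lt (by omega)]),
        reflect_monomial, revAt_le le_rfl, Nat.sub_self, pow_zero, one_mul]
      exact Polynomial.ext fun i => by rw [coeff_reflect, coeff_reflect, revAt_invol]
    have e3 : reflect N (chartPoly h a * Ll) = (C h - C a * X) * reflect (N - 1) Ll := by
      conv_lhs => rw [← hN1, add_comm]
      rw [reflect_mul _ _ ?_ hLld]
      · congr 1
        rw [chartPoly, sub_eq_add_neg, reflect_add, reflect_neg, reflect_C, ← sub_eq_add_neg]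
        rw [← pow_one (X : B[X]), reflect_C_mul_X_pow, revAt_le le_rfl]
        simp
      · refine le_trans (natDegree_sub_le _ _) ?_
        rw [natDegree_C]
        exact max_le ((natDegree_C_mul_le _ _).trans natDegree_X_le) (Nat.zero_le _)
    rw [reflect_add, e1, e2, e3] at h2
    rw [h2, map_add, map_mul]
    have : AdjoinRoot.mk (chartPoly a h) (C h - C a * X) = 0 := AdjoinRoot.mk_eq_zero.2 ⟨-1, by ring⟩
    rw [this, zero_mul, add_zero]

theorem almostGlue_triple (h a : B) (q : ℕ) (hq : 2 ≤ q) : AlmostGlue (tripleMap h a) q := by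
  refine ⟨fun b hb => triple_ker h a b hb q hq, fun y hy => ?_⟩
  obtain ⟨z, hz⟩ := Ideal.Quotient.mk_surjective (I := Ideal.span {h, a}) (y .centre)
  obtain ⟨P, hP⟩ := AdjoinRoot.mk_surjective (g := chartPoly h a) (y .left)
  obtain ⟨Q, hQ⟩ := AdjoinRoot.mk_surjective (g := chartPoly a h) (y .right)
  let r : AdjoinRoot (chartPoly h a) := AdjoinRoot.root _
  let T := Localization.Away r
  let t₁ : AdjoinRoot (chartPoly h a) →+* T := algebraMap _ T
  let i : B →+* T := t₁.comp (AdjoinRoot.of _)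
  let rinv : T := IsLocalization.Away.invSelf r
  have hrr : t₁ r * rinv = 1 := IsLocalization.Away.mul_invSelf r
  have hroot₁ : i h * t₁ r = i a := by
    show t₁ (AdjoinRoot.of _ h) * t₁ r = t₁ (AdjoinRoot.of _ a)
    rw [← map_mul]
    congr 1
    have h0 := AdjoinRoot.eval₂_root (chartPoly h a)
    simp only [eval₂_sub, eval₂_mul, eval₂_C, eval₂_X] at h0
    exact sub_eq_zero.1 h0
  have hroot : (chartPoly a h).eval₂ i rinv = 0 := by
    simp only [eval₂_sub, eval₂_mul, eval₂_C, eval₂_X]
    rw [← hroot₁, mul_assoc, hrr, mul_one, sub_self]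
  have h12 := hy .left .right T t₁ (AdjoinRoot.lift i rinv hroot)
    (RingHom.ext fun b => (AdjoinRoot.lift_of hroot).symm)
  rw [← hP, ← hQ] at h12
  replace h12 : t₁ (AdjoinRoot.mk _ P) = Q.eval₂ i rinv := h12.trans (AdjoinRoot.lift_mk hroot Q)
  have hov : ∃ n L, X ^ n * (X ^ Q.natDegree * P - reflect Q.natDegree Q) = chartPoly h a * L := by
    letI : Invertible rinv := ⟨t₁ r, hrr, by rw [mul_comm]; exact hrr⟩
    have hrev : (reflect Q.natDegree Q).eval₂ i (t₁ r) = (t₁ r) ^ Q.natDegree * Q.eval₂ i rinv := by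
      have := eval₂_reflect_mul_pow i rinv Q.natDegree Q le_rfl
      rw [← this, mul_comm (eval₂ _ _ _) (rinv ^ _), ← mul_assoc, ← mul_pow, hrr, one_pow, one_mul]
      rfl
    have h0 : t₁ (AdjoinRoot.mk _ (X ^ Q.natDegree * P - reflect Q.natDegree Q)) = 0 := by
      rw [map_sub, map_sub, map_mul, map_mul, map_pow, map_pow, AdjoinRoot.mk_X, h12, ← hrev, sub_eq_zero]
      rw [← AdjoinRoot.aeval_eq, aeval_def, hom_eval₂]
      rfl
    obtain ⟨⟨_, n, rfl⟩, hn⟩ := (IsLocalization.map_eq_zero_iff (Submonoid.powers r) T _).1 h0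
    have hn' : AdjoinRoot.mk (chartPoly h a) (X ^ n * (X ^ Q.natDegree * P - reflect Q.natDegree Q)) = 0 := by
      rw [map_mul, map_pow, AdjoinRoot.mk_X]
      exact hn
    exact ⟨n, AdjoinRoot.mk_eq_zero.1 hn'⟩
  obtain ⟨c, hcP, hcQ⟩ := exists_const_of_overlap h a P Q hov
  refine ⟨c, fun k => ?_⟩
  cases k with
  | left => exact hcP.symm.trans hP
  | right => exact hcQ.symm.trans hQ
  | centre =>
    rw [← hz]
    let m := Ideal.Quotient.mk (Ideal.span {h, a})
    have hroot₀ : (chartPoly h a).eval₂ (C.comp m) (X : (B ⧸ Ideal.span {h, a})[X]) = 0 := by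
      have h1 : m h = 0 := Ideal.Quotient.eq_zero_iff_mem.2 (Ideal.subset_span (Set.mem_insert _ _))
      have h2 : m a = 0 := Ideal.Quotient.eq_zero_iff_mem.2 (Ideal.subset_span (Set.mem_insert_of_mem _ rfl))
      simp [eval₂_sub, eval₂_mul, eval₂_C, eval₂_X, h1, h2]
    have h01 := hy .centre .left ((B ⧸ Ideal.span {h, a})[X]) C (AdjoinRoot.lift (C.comp m) X hroot₀)
      (RingHom.ext fun b => (AdjoinRoot.lift_of hroot₀).symm)
    rw [← hz, ← hP, hcP] at h01
    exact (C_injective (h01.trans (AdjoinRoot.lift_of hroot₀))).symm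

end Groth.Agent.HTop83
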