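import Groth.Agent.HTop83.FrobLimSheaf
import Groth.Prelude.Def_QuotSh
import Groth.Prelude.Def_W4stkflatp2Frob
import Mathlib.CategoryTheory.Sites.LocallyBijective

/-!
# Sections up to `p`-th powers: the Zariski sheafification is an h sheaf
-/

set_option autoImplicit false
set_option backward.isDefEq.respectTransparency false
set_option backward.isDefEq.respectTransparency.types false

universe w w' u

noncomputable section

namespace Groth.Agent.HTop83

open CategoryTheory CategoryTheory.Limits AlgebraicGeometry Opposite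
open HTop (FrobColimSections frobColimPresheaf)

variable {S : Scheme.{u}} {p : ℕ}

theorem colim_mk_add {T : Scheme.{u}} (n N : ℕ) (a : Γ(T, ⊤)) :
    FrobColimSections.mk p n a = FrobColimSections.mk p (n + N) (a ^ p ^ N) := by
  induction N with
  | zero => rw [pow_zero, pow_one, add_zero]
  | succ N ih => rw [ih, FrobColimSections.sound, pow_succ, pow_mul, add_assoc]

/-- The relation on representatives. -/
def ColimEq (p : ℕ) {T : Scheme.{u}} (x y : ℕ × Γ(T, ⊤)) : Prop :=
  ∃ i j, x.1 + i = y.1 + j ∧ x.2 ^ p ^ i = y.2 ^ p ^ j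

theorem colimEq_equivalence {T : Scheme.{u}} : Equivalence (ColimEq p (T := T)) := by
  refine ⟨fun x => ⟨0, 0, rfl, rfl⟩, fun ⟨i, j, h, h'⟩ => ⟨j, i, h.symm, h'.symm⟩, ?_⟩
  rintro x y z ⟨i, j, h, h'⟩ ⟨k, l, g, g'⟩
  refine ⟨i + k, j + l, by omega, ?_⟩
  rw [pow_add, pow_mul, h', ← pow_mul, mul_comm, pow_mul, g', ← pow_mul, ← pow_add, add_comm]

theorem colim_mk_eq_iff {T : Scheme.{u}} (n m : ℕ) (a b : Γ(T, ⊤)) :
    FrobColimSections.mk p n a = FrobColimSections.mk p m b ↔
      ∃ i j, n + i = m + j ∧ a ^ p ^ i = b ^ p ^ j := by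
  constructor
  · intro h
    let f : FrobColimSections p T → Quotient (⟨ColimEq p (T := T), colimEq_equivalence⟩ : Setoid _) :=
      Quot.lift (fun x => Quotient.mk _ x) fun x y (hxy : y = _) => Quotient.sound (show ColimEq p x y by
        subst hxy
        exact ⟨1, 0, by simp, by simp⟩)
    exact Quotient.exact (congrArg f h)
  · rintro ⟨i, j, h, h'⟩
    rw [colim_mk_add n i, colim_mk_add m j, h, h']

variable [hp : Fact p.Prime] (hS : (p : Γ(S, ⊤)) = 0)

include hS in
theorem colim_ext {W : Over S} {ι : Type w'} [Finite ι] {V : ι → Over S} {f : ∀ k, V k ⟶ W} {M : ℕ}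
    (h : AlmostCover W V f (p ^ M)) (s t : FrobColimSections p W.left)
    (hst : ∀ k, FrobColimSections.map p (f k).left s = FrobColimSections.map p (f k).left t) : s = t := by
  haveI := Fintype.ofFinite ι
  induction s using Quot.ind with | mk x => ?_
  induction t using Quot.ind with | mk y => ?_
  obtain ⟨n, a⟩ := x
  obtain ⟨m, b⟩ := y
  change FrobColimSections.mk p n a = FrobColimSections.mk p m b
  choose i j hij he using fun k => (colim_mk_eq_iff _ _ _ _).1 (hst k)
  let E := Finset.univ.sup fun k => i k + j k + n + m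
  have hE : ∀ k, i k + j k + n + m ≤ E := fun k =>
    Finset.le_sup (f := fun k => i k + j k + n + m) (Finset.mem_univ k)
  rcases isEmpty_or_nonempty ι with hι | ⟨⟨k₀⟩⟩
  · refine (colim_mk_eq_iff _ _ _ _).2 ⟨M + m, M + n, by omega, ?_⟩
    have h1 : ∀ c : Γ(W.left, ⊤), ∀ N, c ^ p ^ (M + N) = 0 := fun c N => by
      rw [pow_add, pow_mul, h.ker c (fun k => (IsEmpty.false k).elim), zero_pow (pow_ne_zero _ hp.out.ne_zero)]
    rw [h1, h1]
  have := hE k₀
  refine (colim_mk_eq_iff _ _ _ _).2 ⟨(E - n) + M, (E - m) + M, by omega, ?_⟩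
  rw [pow_add, pow_mul, pow_add, pow_mul, ← sub_eq_zero,
    ← sub_pow_of_prime (natCast_eq_zero_over hS W)]
  refine h.ker _ fun k => ?_
  have := hE k
  have := hij k
  rw [map_sub, map_pow, map_pow, sub_eq_zero]
  obtain ⟨d, hd⟩ : ∃ d, E - n = i k + d := Nat.exists_eq_add_of_le (by omega)
  rw [hd, show E - m = j k + d by omega, pow_add, pow_mul, pow_add, pow_mul, he k]

include hS in
/-- Classes agreeing on the overlaps glue. -/
theorem colim_glue {W : Over S} {ι : Type w'} [Finite ι] {V : ι → Over S} {f : ∀ k, V k ⟶ W} {M : ℕ}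
    (h : AlmostCover W V f (p ^ M)) (s : ∀ k, FrobColimSections p (V k).left)
    (hs : ∀ j k, FrobColimSections.map p (pullback.fst (f j).left (f k).left) (s j) =
      FrobColimSections.map p (pullback.snd (f j).left (f k).left) (s k)) :
    ∃! t : FrobColimSections p W.left, ∀ k, FrobColimSections.map p (f k).left t = s k := by
  haveI := Fintype.ofFinite ι
  choose x hx using fun k => Quot.exists_rep (s k)
  replace hx : ∀ k, FrobColimSections.mk p (x k).1 (x k).2 = s k := hx
  let D := Finset.univ.sup fun k => (x k).1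
  let a : ∀ k, Γ((V k).left, ⊤) := fun k => (x k).2 ^ p ^ (D - (x k).1)
  have ha : ∀ k, FrobColimSections.mk p D (a k) = s k := fun k => by
    rw [← hx k, colim_mk_add (x k).1 (D - (x k).1)]
    congr 1
    have := Finset.le_sup (f := fun k => (x k).1) (Finset.mem_univ k)
    show D = _
    change (x k).1 ≤ D at this
    omega
  have hov : ∀ jk : ι × ι, ∃ e, ((pullback.fst (f jk.1).left (f jk.2).left).appTop.hom (a jk.1)) ^ p ^ e =
      ((pullback.snd (f jk.1).left (f jk.2).left).appTop.hom (a jk.2)) ^ p ^ e := fun jk => by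
    have h1 := hs jk.1 jk.2
    rw [← ha, ← ha, FrobColimSections.map_mk, FrobColimSections.map_mk, colim_mk_eq_iff] at h1
    obtain ⟨i, j, hij, he⟩ := h1
    obtain rfl : i = j := by omega
    exact ⟨i, he⟩
  choose e he using hov
  let E := Finset.univ.sup e
  obtain ⟨b, hb⟩ := h.glue (fun k => a k ^ p ^ E) fun j k Z g₁ g₂ hg => by
    have hg' : g₁.left ≫ (f j).left = g₂.left ≫ (f k).left := congrArg CommaMorphism.left hg
    let m := pullback.lift g₁.left g₂.left hg'
    obtain ⟨d, hd⟩ : ∃ d, E = e (j, k) + d := Nat.exists_eq_add_of_le (Finset.le_sup (Finset.mem_univ (j, k)))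
    have := congrArg m.appTop.hom (congrArg (· ^ p ^ d) (he (j, k)))
    simp only [map_pow, ← pow_mul, ← pow_add, ← hd] at this
    have k₁ : g₁.left.appTop.hom (a j) = m.appTop.hom ((pullback.fst (f j).left (f k).left).appTop.hom (a j)) := by
      rw [← RingHom.comp_apply, ← CommRingCat.hom_comp, ← Scheme.Hom.comp_appTop, pullback.lift_fst]
    have k₂ : g₂.left.appTop.hom (a k) = m.appTop.hom ((pullback.snd (f j).left (f k).left).appTop.hom (a k)) := by
      rw [← RingHom.comp_apply, ← CommRingCat.hom_comp, ← Scheme.Hom.comp_appTop, pullback.lift_snd]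
    show g₁.left.appTop.hom (a j ^ p ^ E) = g₂.left.appTop.hom (a k ^ p ^ E)
    rw [map_pow g₁.left.appTop.hom (a j), map_pow g₂.left.appTop.hom (a k), k₁, k₂]
    exact this
  refine ⟨FrobColimSections.mk p (D + E) b, fun k => ?_, fun t ht => colim_ext hS h t _ fun k => ?_⟩
  · show FrobColimSections.map p (f k).left (FrobColimSections.mk p (D + E) b) = s k
    rw [FrobColimSections.map_mk, hb, ← colim_mk_add, ha]
  · rw [ht k, FrobColimSections.map_mk, hb, ← colim_mk_add, ha]

section Sheafify

variable (p S)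

/-- The presheaf of sections up to `p`-th powers, one universe up. -/
abbrev colimPsh : (Over S)ᵒᵖ ⥤ Type (u + 1) := frobColimPresheaf p S ⋙ uliftFunctor.{u + 1, u}

/-- The topology. -/
abbrev zarOver : GrothendieckTopology (Over S) := QuotSh.J Scheme.zariskiPrecoverage S

/-- Its sheafification. -/
abbrev colimShf : (Over S)ᵒᵖ ⥤ Type (u + 1) := (zarOver S).sheafify (colimPsh S p)

/-- The unit. -/
abbrev colimUnit : colimPsh S p ⟶ colimShf S p := (zarOver S).toSheafify (colimPsh S p)

variable {p S}

/-- A covering sieve of a quasi-compact object contains a finite affine open cover. -/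
theorem exists_finite_cover {X : Over S} [CompactSpace X.left] {R : Sieve X} (hR : R ∈ zarOver S X) :
    ∃ (C : Scheme.OpenCover.{u} X.left) (_ : Finite C.I₀), (∀ i, IsAffine (C.X i)) ∧
      ∀ i, R.arrows (Over.homMk (C.f i) : Over.mk (C.f i ≫ X.hom) ⟶ X) := by
  rw [GrothendieckTopology.mem_over_iff] at hR
  obtain ⟨C₀, hle⟩ := Scheme.mem_grothendieckTopology_iff.mp hR
  have hU : ∀ x : X.left, ∃ U : X.left.Opens, IsAffineOpen U ∧ x ∈ U ∧
      ∃ l, l ≫ C₀.f (C₀.idx x) = U.ι := fun x => by
    obtain ⟨y, hy⟩ := C₀.covers x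
    haveI : IsOpenImmersion (C₀.f (C₀.idx x)) := Scheme.Cover.map_prop C₀ _
    obtain ⟨U, hU, hx, hUV⟩ := exists_isAffineOpen_mem_and_subset (U := (C₀.f (C₀.idx x)).opensRange)
      (x := x) ⟨y, hy⟩
    exact ⟨U, hU, hx, IsOpenImmersion.lift (C₀.f (C₀.idx x)) U.ι (by rw [Scheme.Opens.range_ι]; exact hUV),
      IsOpenImmersion.lift_fac _ _ _⟩
  choose U hU hxU l hl using hU
  obtain ⟨s, hs⟩ := isCompact_univ.elim_finite_subcover (fun x => (U x : Set X.left)) (fun x => (U x).isOpen)
    fun x _ => Set.mem_iUnion.2 ⟨x, hxU x⟩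
  let C : Scheme.OpenCover.{u} X.left := .mkOfCovers s (fun x => U x.1) (fun x => (U x.1).ι)
    (fun x => by
      obtain ⟨y, hy, hxy⟩ := Set.mem_iUnion₂.1 (hs (Set.mem_univ x))
      exact ⟨⟨y, hy⟩, ⟨x, hxy⟩, rfl⟩) fun x => inferInstance
  refine ⟨C, inferInstanceAs (Finite s), fun i => hU i.1, fun i => ?_⟩
  have h1 : (Sieve.overEquiv X R).arrows (C.f i) := by
    show (Sieve.overEquiv X R).arrows (U i.1).ι
    rw [← hl]
    exact Sieve.downward_closed _ (hle _ _ (Presieve.ofArrows.mk _)) _
  rwa [Sieve.overEquiv_iff] at h1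

include hS in
theorem colimUnit_injective (X : Over S) [CompactSpace X.left] :
    Function.Injective ((colimUnit S p).app (op X)) := by
  intro x y hxy
  obtain ⟨C, hC, -, hR⟩ := exists_finite_cover (Presheaf.equalizerSieve_mem (zarOver S) (colimUnit S p) x y hxy)
  refine ULift.ext _ _ (colim_ext hS (M := 0) (by rw [pow_zero]; exact almostCover_openCover X C) _ _ fun i => ?_)
  exact congrArg ULift.down (hR i)

include hS in
theorem colimUnit_surjective (X : Over S) [CompactSpace X.left] [QuasiSeparatedSpace X.left] :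
    Function.Surjective ((colimUnit S p).app (op X)) := by
  intro σ
  obtain ⟨C, hC, hCaff, hR⟩ := exists_finite_cover (Presheaf.imageSieve_mem (zarOver S) (colimUnit S p) σ)
  choose s hs using hR
  let V : C.I₀ → Over S := fun i => Over.mk (C.f i ≫ X.hom)
  let f : ∀ i, V i ⟶ X := fun i => Over.homMk (C.f i)
  have hs' : ∀ i, (colimUnit S p).app (op (V i)) (s i) = (colimShf S p).map (f i).op σ := hs
  have hov : ∀ i j, FrobColimSections.map p (pullback.fst (f i).left (f j).left) (s i).down =
      FrobColimSections.map p (pullback.snd (f i).left (f j).left) (s j).down := fun i j => by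
    let Z : Over S := Over.mk (pullback.fst (f i).left (f j).left ≫ (V i).hom)
    let g₁ : Z ⟶ V i := Over.homMk (pullback.fst (f i).left (f j).left)
    let g₂ : Z ⟶ V j := Over.homMk (pullback.snd (f i).left (f j).left) (by
      show pullback.snd (C.f i) (C.f j) ≫ C.f j ≫ X.hom = pullback.fst (C.f i) (C.f j) ≫ C.f i ≫ X.hom
      rw [← pullback.condition_assoc])
    haveI : CompactSpace Z.left := by
      haveI := hCaff i; haveI := hCaff j
      haveI : QuasiCompact (C.f j) := inferInstance
      exact QuasiCompact.compactSpace_of_compactSpace (pullback.fst (C.f i) (C.f j))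
    refine congrArg ULift.down (colimUnit_injective hS Z (a₁ := (colimPsh S p).map g₁.op (s i))
      (a₂ := (colimPsh S p).map g₂.op (s j)) ?_)
    rw [NatTrans.naturality_apply, NatTrans.naturality_apply, hs', hs', ← Functor.map_comp_apply,
      ← Functor.map_comp_apply, ← op_comp, ← op_comp]
    rw [show g₁ ≫ f i = g₂ ≫ f j from Over.OverMorphism.ext pullback.condition]
  obtain ⟨t, ht, -⟩ := colim_glue hS (M := 0)
    (by rw [pow_zero]; exact almostCover_openCover X C) (fun i => (s i).down) hov
  refine ⟨ULift.up t, ?_⟩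
  have hshf : Presieve.IsSheaf (zarOver S) (colimShf S p) :=
    (isSheaf_iff_isSheaf_of_type _ _).1 ((zarOver S).sheafify_isSheaf (colimPsh S p))
  have hmem : lift X C.sieve₀ ∈ zarOver S X := by
    rw [GrothendieckTopology.mem_over_iff, OrderIso.apply_symm_apply]
    exact C.mem_grothendieckTopology
  have h1 := hshf _ hmem
  rw [show lift X C.sieve₀ = Sieve.ofArrows V f from lift_generate V f, Sieve.ofArrows,
    ← Presieve.isSheafFor_iff_generate] at h1
  refine h1.isSeparatedFor.ext ?_
  rintro _ _ ⟨i⟩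
  show (colimShf S p).map (f i).op _ = _
  rw [← hs' i, ← NatTrans.naturality_apply]
  exact congrArg ((colimUnit S p).app (op (V i))) (ULift.ext _ _ (ht i))

include hS in
theorem colimUnit_bijective (X : Over S) [CompactSpace X.left] [QuasiSeparatedSpace X.left] :
    Function.Bijective ((colimUnit S p).app (op X)) :=
  ⟨colimUnit_injective hS X, colimUnit_surjective hS X⟩

include hS in
theorem isSheaf_Jh_colimShf : Presheaf.IsSheaf (HTop.Jh S) (colimShf S p) := by
  rw [isSheaf_iff_isSheaf_of_type]
  have hshf : Presieve.IsSheaf (zarOver S) (colimShf S p) :=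
    (isSheaf_iff_isSheaf_of_type _ _).1 ((zarOver S).sheafify_isSheaf (colimPsh S p))
  refine isSheaf_Jh_of_basicCovers hshf (hasBasicCovers_of_almostCover (p := p) hshf ?_)
  intro W _ ι _ V f M hV h
  haveI := hV
  rw [Presieve.isSheafFor_arrows_iff]
  intro σ hσ
  choose s hs using fun k => colimUnit_surjective hS (V k) (σ k)
  have hov : ∀ j k, FrobColimSections.map p (pullback.fst (f j).left (f k).left) (s j).down =
      FrobColimSections.map p (pullback.snd (f j).left (f k).left) (s k).down := fun j k => by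
    let Z : Over S := Over.mk (pullback.fst (f j).left (f k).left ≫ (V j).hom)
    let g₁ : Z ⟶ V j := Over.homMk (pullback.fst (f j).left (f k).left)
    let g₂ : Z ⟶ V k := Over.homMk (pullback.snd (f j).left (f k).left) (by
      show pullback.snd (f j).left (f k).left ≫ (V k).hom = pullback.fst (f j).left (f k).left ≫ (V j).hom
      rw [← Over.w (f j), ← Over.w (f k), ← pullback.condition_assoc])
    haveI : IsAffine Z.left := inferInstanceAs (IsAffine (pullback (f j).left (f k).left))
    refine congrArg ULift.down (colimUnit_injective hS Z (a₁ := (colimPsh S p).map g₁.op (s j))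
      (a₂ := (colimPsh S p).map g₂.op (s k)) ?_)
    rw [NatTrans.naturality_apply, NatTrans.naturality_apply, hs, hs]
    exact hσ j k Z g₁ g₂ (Over.OverMorphism.ext pullback.condition)
  obtain ⟨t, ht, hu⟩ := colim_glue hS h (fun k => (s k).down) hov
  refine ⟨(colimUnit S p).app (op W) (ULift.up t), fun k => ?_, fun τ hτ => ?_⟩
  · show (colimShf S p).map (f k).op _ = σ k
    rw [← hs k, ← NatTrans.naturality_apply]
    exact congrArg ((colimUnit S p).app (op (V k))) (ULift.ext _ _ (ht k))
  · obtain ⟨⟨r⟩, rfl⟩ := colimUnit_surjective hS W τ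
    refine congrArg (fun z => (colimUnit S p).app (op W) (ULift.up z)) (hu r fun k => ?_)
    refine congrArg ULift.down (colimUnit_injective hS (V k) (a₁ := (colimPsh S p).map (f k).op ⟨r⟩) ?_)
    rw [NatTrans.naturality_apply, hs k]
    exact hτ k

end Sheafify

end Groth.Agent.HTop83
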