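import Groth.Agent.HTop83.PhRefine
import Mathlib.AlgebraicGeometry.Sites.BigZariski
import Mathlib.RingTheory.Polynomial.IsIntegral
import Mathlib.RingTheory.Algebraic.Integral
import Mathlib.RingTheory.AdjoinRoot
import Mathlib.RingTheory.Polynomial.Basic
import Mathlib.FieldTheory.Minpoly.Field

/-!
# Topologies containing the valuative coverings

A topology on schemes which contains the Zariski topology, the finite free covers given by monic polynomials,
the pairs `R/(h)`, `R/(h^∞-torsion)` and the triples `R/(h,a)`, `R[T]/(hT-a)`, `R[T]/(aT-h)` for Noetherian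
rings `R` contains every finite family of algebras of finite type over a Noetherian ring passing the valuative
test. Over a domain finitely many points with values in an algebraic closure lift all valuations; adjoining an
integral multiple of each coordinate `x` and branching into `C[x]`, `C[x⁻¹]` makes them regular locally.
-/

set_option autoImplicit false
set_option backward.isDefEq.respectTransparency false
set_option backward.isDefEq.respectTransparency.types false

universe u

noncomputable section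

namespace Groth.Agent.HTop83

open CategoryTheory AlgebraicGeometry IsLocalRing Polynomial

/-- The map of spectra of a map of rings. -/
abbrev specHom {R C : Type u} [CommRing R] [CommRing C] (ψ : R →+* C) :
    Spec (CommRingCat.of C) ⟶ Spec (CommRingCat.of R) := Spec.map (CommRingCat.ofHom ψ)

/-- The basic coverings. -/
structure HasBasicCovers (J : GrothendieckTopology Scheme.{u}) : Prop where
  zariski : Scheme.zariskiTopology ≤ J
  monic : ∀ (R : Type u) [CommRing R] [IsNoetherianRing R] (P : R[X]), P.Monic → P.natDegree ≠ 0 →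
    Sieve.generate (Presieve.singleton (specHom (AdjoinRoot.of P))) ∈ J (Spec (CommRingCat.of R))
  pair : ∀ (R : Type u) [CommRing R] [IsNoetherianRing R] (h : R) (K : Ideal R),
    (∀ x, x ∈ K ↔ ∃ n : ℕ, h ^ n * x = 0) →
    Sieve.generate (Presieve.singleton (specHom (Ideal.Quotient.mk (Ideal.span {h}))) ⊔
      Presieve.singleton (specHom (Ideal.Quotient.mk K))) ∈ J (Spec (CommRingCat.of R))
  triple : ∀ (R : Type u) [CommRing R] [IsNoetherianRing R] (h a : R),
    Sieve.generate (Presieve.singleton (specHom (Ideal.Quotient.mk (Ideal.span {h, a}))) ⊔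
      Presieve.singleton (specHom (AdjoinRoot.of (C h * X - C a))) ⊔
      Presieve.singleton (specHom (AdjoinRoot.of (C a * X - C h)))) ∈ J (Spec (CommRingCat.of R))

variable {J : GrothendieckTopology Scheme.{u}} {A : Type u} [CommRing A] (T : Sieve (Spec (CommRingCat.of A)))

/-- The sieve becomes covering along the map of rings. -/
def Cov (J : GrothendieckTopology Scheme.{u}) {C : Type u} [CommRing C] (φ : A →+* C) : Prop :=
  T.pullback (specHom φ) ∈ J (Spec (CommRingCat.of C))

variable {T} {R D : Type u} [CommRing R] [CommRing D]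

theorem specHom_comp (ψ : R →+* D) (φ : A →+* R) : specHom (ψ.comp φ) = specHom ψ ≫ specHom φ := by
  rw [← Spec.map_comp, ← CommRingCat.ofHom_comp]

theorem Cov.comp {φ : A →+* R} (h : Cov T J φ) (ψ : R →+* D) : Cov T J (ψ.comp φ) := by
  show T.pullback (specHom (ψ.comp φ)) ∈ _
  rw [specHom_comp, Sieve.pullback_comp]
  exact J.pullback_stable _ h

theorem cov_of_sieve {φ : A →+* R} {P : Presieve (Spec (CommRingCat.of R))}
    (hP : Sieve.generate P ∈ J (Spec (CommRingCat.of R)))
    (h : ∀ ⦃Y⦄ (f : Y ⟶ Spec (CommRingCat.of R)), P f → (T.pullback (specHom φ)).pullback f ∈ J Y) :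
    Cov T J φ := by
  refine J.transitive hP _ ?_
  rintro Y _ ⟨W, g, f, hf, rfl⟩
  rw [Sieve.pullback_comp]
  exact J.pullback_stable g (h f hf)

theorem cov_pullback {φ : A →+* R} {ψ : R →+* D} (h : Cov T J (ψ.comp φ)) :
    (T.pullback (specHom φ)).pullback (specHom ψ) ∈ J (Spec (CommRingCat.of D)) := by
  rw [← Sieve.pullback_comp, ← specHom_comp]
  exact h

theorem cov_of_subsingleton (hJ : HasBasicCovers J) [Subsingleton R] (φ : A →+* R) : Cov T J φ := by
  haveI : IsEmpty (Spec (CommRingCat.of R)) := inferInstanceAs (IsEmpty (PrimeSpectrum R))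
  exact J.superset_covering bot_le (hJ.zariski _ (Scheme.bot_mem_grothendieckTopology _))

theorem cov_of_span_eq_top (hJ : HasBasicCovers J) {φ : A →+* R} (s : Set R) (hs : Ideal.span s = ⊤)
    (h : ∀ a ∈ s, Cov T J ((algebraMap R (Localization.Away a)).comp φ)) : Cov T J φ := by
  classical
  let E : Scheme.OpenCover.{u} (Spec (CommRingCat.of R)) :=
    .mkOfCovers s (fun a => Spec (CommRingCat.of (Localization.Away a.1)))
      (fun a => specHom (algebraMap R (Localization.Away a.1))) (fun p => by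
        obtain ⟨a, ha, hap⟩ : ∃ a ∈ s, a ∉ p.asIdeal := by
          by_contra hcon
          push Not at hcon
          exact p.isPrime.ne_top (top_le_iff.1 (hs ▸ Ideal.span_le.2 hcon))
        refine ⟨⟨a, ha⟩, ?_⟩
        have : p ∈ Set.range (PrimeSpectrum.comap (algebraMap R (Localization.Away a))) := by
          rw [PrimeSpectrum.localization_away_comap_range (Localization.Away a) a]
          exact hap
        exact this) (fun a => IsOpenImmersion.of_isLocalization a.1)
  refine cov_of_sieve (P := E.toPreZeroHypercover.presieve₀) (hJ.zariski _ E.mem_grothendieckTopology) ?_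
  rintro Y _ ⟨a⟩
  exact cov_pullback (h a.1 a.2)

section Domain

variable {A₀ L : Type u} [CommRing A₀] [IsDomain A₀] [IsNoetherianRing A₀] [Field L] [Algebra A₀ L]
  (p : A →+* A₀)

/-- The inclusion of a subalgebra, as a map out of the original ring. -/
def toSub (C : Subalgebra A₀ L) : A →+* C := (algebraMap A₀ C).comp p

theorem Cov.mono {C D : Subalgebra A₀ L} (h : C ≤ D) (hC : Cov T J (toSub p C)) : Cov T J (toSub p D) := by
  have := hC.comp (Subalgebra.inclusion h).toRingHom
  convert this using 1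
  exact RingHom.ext fun a => (Subalgebra.inclusion h).commutes (p a) |>.symm

theorem fg_adjoin_one (c : L) : (Algebra.adjoin A₀ {c}).FG := ⟨{c}, by simp⟩

theorem isNoetherianRing_sub {C : Subalgebra A₀ L} (hC : C.FG) : IsNoetherianRing C :=
  isNoetherianRing_of_fg hC

variable [Algebra.IsAlgebraic A₀ L]
  (hJ : HasBasicCovers J)
  (hsmall : ∀ (D : Type u) [CommRing D] (θ : A₀ →+* D), (∃ a, a ≠ 0 ∧ θ a = 0) → Cov T J (θ.comp p))
  (hinj : Function.Injective (algebraMap A₀ L))

include hsmall hinj in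
theorem cov_of_map_zero {C : Subalgebra A₀ L} {h : C} (hh : h ≠ 0) {D : Type u} [CommRing D] (θ : C →+* D)
    (hθ : θ h = 0) : Cov T J (θ.comp (toSub p C)) := by
  have halg : IsAlgebraic A₀ h := by
    obtain ⟨P, hP, hPh⟩ := Algebra.IsAlgebraic.isAlgebraic (R := A₀) (h : L)
    exact ⟨P, hP, Subtype.val_injective ((Polynomial.aeval_algHom_apply C.val h P).symm.trans hPh)⟩
  obtain ⟨r, hr, hdvd⟩ := halg.exists_nonzero_dvd (mem_nonZeroDivisors_of_ne_zero hh)
  refine hsmall D (θ.comp (algebraMap A₀ C)) ⟨r, hr, ?_⟩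
  obtain ⟨w, hw⟩ := hdvd
  show θ (algebraMap A₀ C r) = 0
  rw [hw, map_mul, hθ, zero_mul]

include hsmall hinj hJ in
/-- One chart: the quotient of `C[T]/(hT-a)` by its `h`-torsion is `C[a/h]`. -/
theorem cov_chart {C : Subalgebra A₀ L} (hC : C.FG) (h a : C) (hh : h ≠ 0)
    (h₁ : Cov T J (toSub p (C ⊔ Algebra.adjoin A₀ {(a : L) / (h : L)}))) :
    Cov T J ((AdjoinRoot.of (Polynomial.C h * X - Polynomial.C a)).comp (toSub p C)) := by
  haveI := isNoetherianRing_sub hC
  set P : C[X] := Polynomial.C h * X - Polynomial.C a with hP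
  let c : L := (a : L) / (h : L)
  let C₁ := C ⊔ Algebra.adjoin A₀ {c}
  have hhL : (h : L) ≠ 0 := fun h0 => hh (Subtype.ext h0)
  have hroot : P.eval₂ (C.val : C →+* L) c = 0 := by
    simp only [hP, eval₂_sub, eval₂_mul, eval₂_C, eval₂_X]
    show (h : L) * c - (a : L) = 0
    rw [mul_div_cancel₀ _ hhL, sub_self]
  let ψ : AdjoinRoot P →+* L := AdjoinRoot.lift (C.val : C →+* L) c hroot
  have hψof : ∀ x : C, ψ (AdjoinRoot.of P x) = x := fun x => AdjoinRoot.lift_of hroot
  have hψroot : ψ (AdjoinRoot.root P) = c := AdjoinRoot.lift_root hroot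
  have hclear : ∀ q : AdjoinRoot P, ∃ (n : ℕ) (b : C), AdjoinRoot.of P h ^ n * q = AdjoinRoot.of P b := by
    have hrt : AdjoinRoot.of P h * AdjoinRoot.root P = AdjoinRoot.of P a := by
      have h0 := AdjoinRoot.eval₂_root P
      rw [hP, eval₂_sub, eval₂_mul, eval₂_C, eval₂_X, eval₂_C] at h0
      exact sub_eq_zero.1 h0
    intro q
    obtain ⟨Q, rfl⟩ := AdjoinRoot.mk_surjective q
    induction Q using Polynomial.induction_on with
    | C x => exact ⟨0, x, by rw [pow_zero, one_mul, AdjoinRoot.mk_C]⟩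
    | add f g hf hg =>
      obtain ⟨n, b, hb⟩ := hf
      obtain ⟨m, b', hb'⟩ := hg
      refine ⟨n + m, h ^ m * b + h ^ n * b', ?_⟩
      rw [map_add, mul_add, map_add, map_mul, map_mul, map_pow, map_pow, ← hb, ← hb', pow_add]
      ring
    | monomial n x ih =>
      obtain ⟨m, b, hb⟩ := ih
      refine ⟨m + 1, b * a, ?_⟩
      rw [map_mul (AdjoinRoot.of P) b a, ← hb, ← hrt, pow_succ X, ← mul_assoc (Polynomial.C x),
        map_mul (AdjoinRoot.mk P) (Polynomial.C x * X ^ n) X, AdjoinRoot.mk_X, pow_succ]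
      ring
  refine cov_of_sieve (hJ.pair (AdjoinRoot P) (AdjoinRoot.of P h) (RingHom.ker ψ) fun x => ⟨fun hx => ?_,
    fun ⟨n, hn⟩ => ?_⟩) ?_
  · obtain ⟨n, b, hb⟩ := hclear x
    refine ⟨n, ?_⟩
    have h1 := congrArg ψ hb
    rw [map_mul, RingHom.mem_ker.1 hx, mul_zero, hψof] at h1
    rw [hb, show b = 0 from Subtype.ext h1.symm, map_zero]
  · have h1 := congrArg ψ hn
    rw [map_mul, map_pow, hψof, map_zero] at h1
    exact (mul_eq_zero.1 h1).resolve_left (pow_ne_zero n hhL)
  · rintro Y _ (⟨⟨⟩⟩ | ⟨⟨⟩⟩)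
    · refine cov_pullback ?_
      rw [← RingHom.comp_assoc]
      exact cov_of_map_zero p hsmall hinj hh _
        (Ideal.Quotient.eq_zero_iff_mem.2 (Ideal.mem_span_singleton_self (AdjoinRoot.of P h)))
    · refine cov_pullback ?_
      have hmem : ∀ q, ψ q ∈ C₁ := fun q => by
        obtain ⟨Q, rfl⟩ := AdjoinRoot.mk_surjective q
        rw [AdjoinRoot.lift_mk]
        refine (eval₂_eq_sum_range (C.val : C →+* L) c).symm ▸ Subalgebra.sum_mem _ fun i _ => ?_
        exact mul_mem (le_sup_left (a := C) (Q.coeff i).2)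
          (pow_mem (le_sup_right (a := C) (Algebra.self_mem_adjoin_singleton A₀ c)) i)
      let ρ : AdjoinRoot P →+* C₁ := ψ.codRestrict C₁.toSubring hmem
      have hsurj : Function.Surjective ρ := fun y => by
        let Rg : Subalgebra A₀ L :=
          { ψ.range with algebraMap_mem' := fun r => ⟨AdjoinRoot.of P (algebraMap A₀ C r), hψof _⟩ }
        have hle : C₁ ≤ Rg := sup_le (fun x hx => ⟨AdjoinRoot.of P ⟨x, hx⟩, hψof _⟩)
          (Algebra.adjoin_le (Set.singleton_subset_iff.2 ⟨AdjoinRoot.root P, hψroot⟩))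
        obtain ⟨q, hq⟩ := hle y.2
        exact ⟨q, Subtype.ext hq⟩
      have hker : RingHom.ker ρ = RingHom.ker ψ := Ideal.ext fun q => by
        show ρ q = 0 ↔ ψ q = 0
        exact Subtype.ext_iff
      let e : AdjoinRoot P ⧸ RingHom.ker ψ ≃+* C₁ :=
        (Ideal.quotEquivOfEq hker.symm).trans (RingHom.quotientKerEquivOfSurjective hsurj)
      convert h₁.comp e.symm.toRingHom using 1
      refine RingHom.ext fun x => e.injective ?_
      simp only [RingHom.comp_apply]
      show e (Ideal.Quotient.mk _ (AdjoinRoot.of P (toSub p C x))) = e (e.symm (toSub p C₁ x))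
      rw [e.apply_symm_apply]
      exact Subtype.ext (hψof _)

include hsmall hinj hJ in
/-- Branching into `C[a/h]` and `C[h/a]`. -/
theorem cov_branch {C : Subalgebra A₀ L} (hC : C.FG) (h a : C) (hh : h ≠ 0) (ha : a ≠ 0)
    (h₁ : Cov T J (toSub p (C ⊔ Algebra.adjoin A₀ {(a : L) / (h : L)})))
    (h₂ : Cov T J (toSub p (C ⊔ Algebra.adjoin A₀ {(h : L) / (a : L)}))) : Cov T J (toSub p C) := by
  haveI := isNoetherianRing_sub hC
  refine cov_of_sieve (hJ.triple C h a) ?_
  rintro Y _ ((⟨⟨⟩⟩ | ⟨⟨⟩⟩) | ⟨⟨⟩⟩)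
  · exact cov_pullback (cov_of_map_zero p hsmall hinj hh _
      (Ideal.Quotient.eq_zero_iff_mem.2 (Ideal.subset_span (Set.mem_insert _ _))))
  · exact cov_pullback (cov_chart p hJ hsmall hinj hC h a hh h₁)
  · exact cov_pullback (cov_chart p hJ hsmall hinj hC a h ha h₂)

include hsmall hinj hJ in
/-- Integral fractions. -/
theorem cov_integral_fraction {C : Subalgebra A₀ L} (hC : C.FG) {c : L} (hint : IsIntegral C c)
    (hfrac : ∃ a h : C, h ≠ 0 ∧ c = (a : L) / (h : L))
    (h₁ : Cov T J (toSub p (C ⊔ Algebra.adjoin A₀ {c}))) : Cov T J (toSub p C) := by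
  obtain ⟨a, h, hh, rfl⟩ := hfrac
  by_cases ha : a = 0
  · refine Cov.mono p (le_of_eq ?_) h₁
    rw [ha, ZeroMemClass.coe_zero, zero_div, sup_eq_left]
    exact Algebra.adjoin_le (Set.singleton_subset_iff.2 (zero_mem C))
  refine cov_branch p hJ hsmall hinj hC h a hh ha h₁ (Cov.mono p (sup_le le_sup_left ?_) h₁)
  refine Algebra.adjoin_le (Set.singleton_subset_iff.2 ?_)
  set D := C ⊔ Algebra.adjoin A₀ {(h : L) / (a : L)}
  set c : L := (a : L) / (h : L) with hc
  have hinv : c⁻¹ ∈ D := by
    rw [hc, inv_div]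
    exact le_sup_right (a := C) (Algebra.self_mem_adjoin_singleton A₀ _)
  have hc0 : c ≠ 0 := div_ne_zero (fun h0 => ha (Subtype.ext h0)) fun h0 => hh (Subtype.ext h0)
  obtain ⟨P, hP, hPc⟩ := hint
  rw [eval₂_eq_sum_range, Finset.sum_range_succ, hP.coeff_natDegree, map_one, one_mul] at hPc
  by_cases hn : P.natDegree = 0
  · rw [hn] at hPc
    simp at hPc
  obtain ⟨m, hm⟩ := Nat.exists_eq_succ_of_ne_zero hn
  rw [hm] at hPc
  have hval : c = -∑ i ∈ Finset.range (m + 1), (algebraMap C L (P.coeff i)) * c⁻¹ ^ (m - i) := by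
    have h1 := eq_neg_of_add_eq_zero_right hPc
    have h2 : c ^ (m + 1) * c⁻¹ ^ m = c := by
      rw [pow_succ', mul_assoc, ← mul_pow, mul_inv_cancel₀ hc0, one_pow, mul_one]
    calc c = c ^ (m + 1) * c⁻¹ ^ m := h2.symm
      _ = (-∑ i ∈ Finset.range (m + 1), (algebraMap C L (P.coeff i)) * c ^ i) * c⁻¹ ^ m :=
        congrArg (· * c⁻¹ ^ m) h1
      _ = _ := by
        rw [neg_mul, Finset.sum_mul]
        refine congrArg Neg.neg (Finset.sum_congr rfl fun i hi => ?_)
        obtain ⟨j, hj⟩ := Nat.exists_eq_add_of_le (Nat.lt_succ_iff.1 (Finset.mem_range.1 hi))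
        rw [hj, Nat.add_sub_cancel_left, pow_add, mul_assoc, ← mul_assoc (c ^ i), ← mul_pow,
          mul_inv_cancel₀ hc0, one_pow, one_mul]
  rw [SetLike.mem_coe, hval]
  exact neg_mem (Subalgebra.sum_mem _ fun i _ =>
    mul_mem (le_sup_left (b := Algebra.adjoin A₀ {(h : L) / (a : L)}) (P.coeff i).2) (pow_mem hinv _))

include hsmall hinj hJ in
/-- Adjoining finitely many integral fractions. -/
theorem cov_integral_fractions (s : List L) : ∀ {C : Subalgebra A₀ L}, C.FG →
    (∀ c ∈ s, IsIntegral C c ∧ ∃ a h : C, h ≠ 0 ∧ c = (a : L) / (h : L)) →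
    ∀ C' : Subalgebra A₀ L, C ≤ C' → C' ≤ C ⊔ Algebra.adjoin A₀ {c | c ∈ s} →
      Cov T J (toSub p C') → Cov T J (toSub p C) := by
  induction s with
  | nil =>
    intro C _ _ C' _ h2 h3
    refine Cov.mono p (h2.trans (sup_le le_rfl ?_)) h3
    simp
  | cons c s ih =>
    intro C hC hs C' h1 h2 h3
    obtain ⟨hint, hfrac⟩ := hs c List.mem_cons_self
    refine cov_integral_fraction p hJ hsmall hinj hC hint hfrac ?_
    set C₁ := C ⊔ Algebra.adjoin A₀ {c}
    refine ih (hC.sup (fg_adjoin_one c)) (fun d hd => ?_) (C' ⊔ C₁) le_sup_right ?_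
      (Cov.mono p le_sup_left h3)
    · obtain ⟨hd₁, a, h, hh, hd₂⟩ := hs d (List.mem_cons_of_mem _ hd)
      have hle : C ≤ C₁ := le_sup_left
      refine ⟨?_, ⟨a, hle a.2⟩, ⟨h, hle h.2⟩, fun h0 => hh ?_, hd₂⟩
      · obtain ⟨P, hP, hPd⟩ := hd₁
        refine ⟨P.map (Subalgebra.inclusion hle).toRingHom, hP.map _, ?_⟩
        rw [eval₂_map]
        exact hPd
      · exact Subtype.ext (congrArg (fun z : C₁ => (z : L)) h0)
    · refine sup_le (h2.trans (sup_le (le_sup_left.trans le_sup_left) (Algebra.adjoin_le ?_))) le_sup_left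
      rintro d hd
      rcases List.mem_cons.1 hd with rfl | hd
      · exact le_sup_left (b := Algebra.adjoin A₀ {c | c ∈ s}) (le_sup_right (a := C) (Algebra.self_mem_adjoin_singleton A₀ _))
      · exact le_sup_right (a := C₁) (Algebra.subset_adjoin hd)

include hsmall hinj hJ in
/-- Adjoining an integral element. -/
theorem cov_adjoin_integral [IsAlgClosed L] {C : Subalgebra A₀ L} (hC : C.FG) {y : L} (hy : IsIntegral C y)
    (h₁ : Cov T J (toSub p (C ⊔ Algebra.adjoin A₀ {y}))) : Cov T J (toSub p C) := by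
  classical
  let K : Subfield L := Subfield.closure (C : Set L)
  obtain ⟨P₀, hP₀, hP₀y⟩ := hy
  have hint : IsIntegral K y := by
    let ι : C →+* K := C.val.toRingHom.codRestrict K.toSubring fun x => Subfield.subset_closure x.2
    refine ⟨P₀.map ι, hP₀.map _, ?_⟩
    rw [eval₂_map]
    exact hP₀y
  let Q : L[X] := (minpoly K y).map (algebraMap K L)
  have hQm : Q.Monic := (minpoly.monic hint).map _
  have hco : ∀ i, IsIntegral C (Q.coeff i) := by
    refine isIntegral_coeff_of_factors Q (by rw [hQm.leadingCoeff]; exact isIntegral_one) (IsAlgClosed.splits _)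
      fun x hx => ⟨P₀, hP₀, ?_⟩
    let ι : C →+* K := C.val.toRingHom.codRestrict K.toSubring fun x => Subfield.subset_closure x.2
    have hdvd : minpoly K y ∣ P₀.map ι := minpoly.dvd _ _ (by
      show eval₂ (algebraMap K L) y (P₀.map ι) = 0
      rw [eval₂_map]
      exact hP₀y)
    have hdvd' : Q ∣ P₀.map (algebraMap C L) := by
      have := Polynomial.map_dvd (algebraMap K L) hdvd
      rwa [Polynomial.map_map] at this
    have := Polynomial.IsRoot.dvd hx hdvd'
    rwa [IsRoot, eval_map] at this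
  have hfrac : ∀ i, ∃ a h : C, h ≠ 0 ∧ Q.coeff i = (a : L) / (h : L) := fun i => by
    have hmem : Q.coeff i ∈ Subfield.closure (C : Set L) := by
      rw [coeff_map]
      exact ((minpoly K y).coeff i).2
    obtain ⟨u, hu, v, hv, huv⟩ := Subfield.mem_closure_iff.1 hmem
    have hcl : Subring.closure (C : Set L) = C.toSubring := Subring.closure_eq C.toSubring
    rw [hcl] at hu hv
    by_cases hv0 : v = 0
    · exact ⟨0, 1, one_ne_zero, by rw [← huv, hv0, div_zero]; simp⟩
    · exact ⟨⟨u, hu⟩, ⟨v, hv⟩, fun h0 => hv0 (congrArg Subtype.val h0), huv.symm⟩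
  let s : List L := (List.range (Q.natDegree + 1)).map Q.coeff
  let C₂ : Subalgebra A₀ L := C ⊔ Algebra.adjoin A₀ {c | c ∈ s}
  have hC₂ : C₂.FG := hC.sup ⟨(List.finite_toSet s).toFinset, by rw [Set.Finite.coe_toFinset]⟩
  refine cov_integral_fractions p hJ hsmall hinj s hC (fun c hc => ?_) C₂ le_sup_left le_rfl ?_
  · obtain ⟨i, -, rfl⟩ := List.mem_map.1 hc
    exact ⟨hco i, hfrac i⟩
  haveI := isNoetherianRing_sub hC₂
  have hQC : ∀ i, Q.coeff i ∈ C₂ := fun i => by
    by_cases hi : i ≤ Q.natDegree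
    · exact le_sup_right (a := C) (Algebra.subset_adjoin (List.mem_map.2 ⟨i, List.mem_range.2 (Nat.lt_succ_of_le hi), rfl⟩))
    · rw [coeff_eq_zero_of_natDegree_lt (not_le.1 hi)]
      exact zero_mem _
  obtain ⟨P, hPmap, hPdeg, hPm⟩ := lifts_and_natDegree_eq_and_monic (f := (C₂.val : C₂ →+* L))
    ((lifts_iff_coeff_lifts Q).2 fun i => ⟨⟨_, hQC i⟩, rfl⟩) hQm
  have hPy : P.eval₂ (C₂.val : C₂ →+* L) y = 0 := by
    rw [← eval_map, hPmap, eval_map]
    exact minpoly.aeval K y
  have hdeg : P.natDegree ≠ 0 := by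
    rw [hPdeg, natDegree_map]
    exact (minpoly.natDegree_pos hint).ne'
  refine cov_of_sieve (hJ.monic C₂ P hPm hdeg) ?_
  rintro Y _ ⟨⟩
  refine cov_pullback ?_
  let ψ : AdjoinRoot P →+* L := AdjoinRoot.lift (C₂.val : C₂ →+* L) y hPy
  let C₃ : Subalgebra A₀ L := C₂ ⊔ Algebra.adjoin A₀ {y}
  have hψinj : Function.Injective ψ := by
    rw [injective_iff_map_eq_zero]
    intro q hq
    obtain ⟨F, rfl⟩ := AdjoinRoot.mk_surjective q
    rw [AdjoinRoot.lift_mk] at hq
    rw [← modByMonic_add_div F (q := P), map_add, map_mul, AdjoinRoot.mk_self, zero_mul, add_zero]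
    have hr : (F %ₘ P).eval₂ (C₂.val : C₂ →+* L) y = 0 := by
      rw [← modByMonic_add_div F (q := P), eval₂_add, eval₂_mul, hPy, zero_mul, add_zero] at hq
      exact hq
    have hC₂K : ∀ x : C₂, (x : L) ∈ K := fun x => by
      have hle : C₂ ≤ { K.toSubring with algebraMap_mem' := fun r => Subfield.subset_closure (C.algebraMap_mem r) } :=
        sup_le (fun z hz => Subfield.subset_closure hz) (Algebra.adjoin_le fun z hz => by
          obtain ⟨i, -, rfl⟩ := List.mem_map.1 hz
          show Q.coeff i ∈ K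
          rw [coeff_map]
          exact ((minpoly K y).coeff i).2)
      exact hle x.2
    let ι : C₂ →+* K := C₂.val.toRingHom.codRestrict K.toSubring hC₂K
    have hι : Function.Injective ι := fun a b hab => Subtype.ext (congrArg (fun z : K => (z : L)) hab)
    by_contra hne
    have hne' : F %ₘ P ≠ 0 := fun h0 => hne (by rw [h0, map_zero])
    have hlt : (F %ₘ P).natDegree < P.natDegree :=
      natDegree_modByMonic_lt F hPm (fun h1 => hdeg (by rw [h1, natDegree_one]))
    have h0 : (F %ₘ P).map ι ≠ 0 := (Polynomial.map_ne_zero_iff hι).2 hne'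
    have := natDegree_le_natDegree (minpoly.degree_le_of_ne_zero K y h0 ?_)
    · rw [natDegree_map_eq_of_injective hι] at this
      rw [hPdeg, natDegree_map] at hlt
      omega
    · show eval₂ (algebraMap K L) y ((F %ₘ P).map ι) = 0
      rw [eval₂_map]
      exact hr
  have hmem : ∀ q, ψ q ∈ C₃ := fun q => by
    obtain ⟨F, rfl⟩ := AdjoinRoot.mk_surjective q
    rw [AdjoinRoot.lift_mk]
    refine (eval₂_eq_sum_range (C₂.val : C₂ →+* L) y).symm ▸ Subalgebra.sum_mem _ fun i _ => ?_
    exact mul_mem (le_sup_left (a := C₂) (F.coeff i).2)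
      (pow_mem (le_sup_right (a := C₂) (Algebra.self_mem_adjoin_singleton A₀ y)) i)
  let ρ : AdjoinRoot P →+* C₃ := ψ.codRestrict C₃.toSubring hmem
  have hsurj : Function.Surjective ρ := fun z => by
    let Rg : Subalgebra A₀ L :=
      { ψ.range with algebraMap_mem' := fun r => ⟨AdjoinRoot.of P (algebraMap A₀ C₂ r), AdjoinRoot.lift_of hPy⟩ }
    have hle : C₃ ≤ Rg := sup_le (fun x hx => ⟨AdjoinRoot.of P ⟨x, hx⟩, AdjoinRoot.lift_of hPy⟩)
      (Algebra.adjoin_le (Set.singleton_subset_iff.2 ⟨AdjoinRoot.root P, AdjoinRoot.lift_root hPy⟩))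
    obtain ⟨q, hq⟩ := hle z.2
    exact ⟨q, Subtype.ext hq⟩
  let e : AdjoinRoot P ≃+* C₃ := RingEquiv.ofBijective ρ
    ⟨fun a b hab => hψinj (congrArg (fun z : C₃ => (z : L)) hab), hsurj⟩
  have h₂ : Cov T J (toSub p C₃) := Cov.mono p (sup_le (le_sup_left.trans le_sup_left) le_sup_right) h₁
  convert h₂.comp e.symm.toRingHom using 1
  refine RingHom.ext fun x => e.injective ?_
  show e (AdjoinRoot.of P (toSub p C₂ x)) = e (e.symm (toSub p C₃ x))
  rw [e.apply_symm_apply]
  exact Subtype.ext (AdjoinRoot.lift_of hPy)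

include hsmall hinj hJ in
/-- Branching at finitely many elements. -/
theorem cov_of_branches [IsAlgClosed L] (xs : List L) : ∀ {C : Subalgebra A₀ L}, C.FG →
    (∀ C' : Subalgebra A₀ L, C'.FG → C ≤ C' → (∀ x ∈ xs, x ∈ C' ∨ x⁻¹ ∈ C') → Cov T J (toSub p C')) →
    Cov T J (toSub p C) := by
  induction xs with
  | nil => exact fun hC h => h _ hC le_rfl (by simp)
  | cons x xs ih =>
    intro C hC h
    by_cases hx0 : x = 0
    · refine ih hC fun C' hC' hle hxs => h C' hC' hle ?_
      intro z hz
      rcases List.mem_cons.1 hz with rfl | hz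
      · exact .inl (hx0 ▸ zero_mem _)
      · exact hxs z hz
    obtain ⟨r, hr, hrint⟩ := (Algebra.IsAlgebraic.isAlgebraic (R := A₀) x).exists_integral_multiple
    rw [Algebra.smul_def] at hrint
    set y := algebraMap A₀ L r * x with hy
    refine cov_adjoin_integral p hJ hsmall hinj hC hrint.tower_top ?_
    set C₁ := C ⊔ Algebra.adjoin A₀ {y}
    have hC₁ : C₁.FG := hC.sup (fg_adjoin_one y)
    have hr0 : algebraMap A₀ L r ≠ 0 := (map_ne_zero_iff _ hinj).2 hr
    have step : ∀ z : L, (z = x ∨ z = x⁻¹) → Cov T J (toSub p (C₁ ⊔ Algebra.adjoin A₀ {z})) := fun z hz => by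
      refine ih (hC₁.sup (fg_adjoin_one z)) fun C' hC' hle hxs => h C' hC' ?_ ?_
      · exact (le_sup_left.trans le_sup_left).trans hle
      · intro w hw
        rcases List.mem_cons.1 hw with rfl | hw
        · have hm : z ∈ C' := hle (le_sup_right (a := C₁) (Algebra.self_mem_adjoin_singleton A₀ z))
          rcases hz with rfl | rfl
          · exact .inl hm
          · exact .inr hm
        · exact hxs w hw
    let hh : C₁ := algebraMap A₀ C₁ r
    let aa : C₁ := ⟨y, le_sup_right (a := C) (Algebra.self_mem_adjoin_singleton A₀ y)⟩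
    refine cov_branch p hJ hsmall hinj hC₁ hh aa (fun h0 => hr0 (congrArg (fun z : C₁ => (z : L)) h0))
      (fun h0 => mul_ne_zero hr0 hx0 (congrArg (fun z : C₁ => (z : L)) h0))
      (step _ (.inl (mul_div_cancel_left₀ x hr0))) (step _ (.inr ?_))
    show algebraMap A₀ L r / y = x⁻¹
    rw [hy, div_mul_eq_div_div, div_self hr0, one_div]

end Domain

/-- A topology with the basic coverings contains the families passing the valuative test. -/
theorem affFam_mem_of_valPoints (hJ : HasBasicCovers J) [IsNoetherianRing A] {ι : Type}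
    (Cs : ι → Type u) [∀ j, CommRing (Cs j)] [∀ j, Algebra A (Cs j)] [∀ j, Algebra.FiniteType A (Cs j)]
    (hC : ValPoints (A := A) Cs) : (affFam (A := A) Cs).sieve₀ ∈ J (Spec (CommRingCat.of A)) := by
  classical
  set T := (affFam (A := A) Cs).sieve₀ with hT
  suffices key : ∀ I : Ideal A, Cov T J (Ideal.Quotient.mk I) by
    have h := (key ⊥).comp (RingEquiv.quotientBot A).toRingHom
    rw [show (RingEquiv.quotientBot A).toRingHom.comp (Ideal.Quotient.mk ⊥) = RingHom.id A from
      RingHom.ext fun a => rfl] at h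
    have : T.pullback (specHom (RingHom.id A)) = T := by
      rw [show specHom (RingHom.id A) = 𝟙 _ from Spec.map_id (CommRingCat.of A), Sieve.pullback_id]
    rwa [Cov, this] at h
  intro I
  induction I using WellFoundedGT.induction with
  | _ I ih =>
  have hsmall : ∀ {D : Type u} [CommRing D] (θ : A →+* D), I < RingHom.ker θ → Cov T J θ := by
    intro D _ θ hθ
    have := (ih _ hθ).comp (RingHom.kerLift θ)
    rwa [show (RingHom.kerLift θ).comp (Ideal.Quotient.mk (RingHom.ker θ)) = θ from rfl] at this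
  by_cases hI : I = ⊤
  · haveI : Subsingleton (A ⧸ I) := Ideal.Quotient.subsingleton_iff.2 hI
    exact cov_of_subsingleton hJ _
  by_cases hp : I.IsPrime
  swap
  · obtain ⟨a, ha, b, hb, hab⟩ := (Ideal.not_isPrime_iff.1 hp).resolve_left hI
    haveI : IsNoetherianRing (A ⧸ I) := inferInstance
    let K : Ideal (A ⧸ I) :=
      { carrier := {x | ∃ n : ℕ, Ideal.Quotient.mk I a ^ n * x = 0}
        add_mem' := fun {x y} ⟨n, hn⟩ ⟨m, hm⟩ => ⟨n + m, by
          linear_combination (norm := ring_nf) Ideal.Quotient.mk I a ^ m * hn + Ideal.Quotient.mk I a ^ n * hm⟩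
        zero_mem' := ⟨0, mul_zero _⟩
        smul_mem' := fun c x ⟨n, hn⟩ => ⟨n, by rw [smul_eq_mul, mul_left_comm, hn, mul_zero]⟩ }
    refine cov_of_sieve (hJ.pair (A ⧸ I) (Ideal.Quotient.mk I a) K fun x => Iff.rfl) ?_
    have hlt : ∀ (J' : Ideal (A ⧸ I)) (c : A), c ∉ I → Ideal.Quotient.mk I c ∈ J' →
        Cov T J ((Ideal.Quotient.mk J').comp (Ideal.Quotient.mk I)) := fun J' c hc hc' => by
      refine hsmall _ (lt_of_le_of_ne (fun z hz => ?_) fun heq => hc ?_)
      · show Ideal.Quotient.mk J' (Ideal.Quotient.mk I z) = 0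
        rw [Ideal.Quotient.eq_zero_iff_mem.2 hz, map_zero]
      · rw [heq]
        show Ideal.Quotient.mk J' (Ideal.Quotient.mk I c) = 0
        exact Ideal.Quotient.eq_zero_iff_mem.2 hc'
    rintro Y _ (⟨⟨⟩⟩ | ⟨⟨⟩⟩)
    · exact cov_pullback (hlt _ a ha (Ideal.mem_span_singleton_self _))
    · exact cov_pullback (hlt _ b hb ⟨1, by rw [pow_one, ← map_mul, Ideal.Quotient.eq_zero_iff_mem]; exact hab⟩)
  haveI := hp
  let A₀ := A ⧸ I
  let L := AlgebraicClosure (FractionRing A₀)
  haveI : Algebra.IsAlgebraic A₀ (FractionRing A₀) := IsLocalization.isAlgebraic _ (nonZeroDivisors A₀)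
  haveI : Algebra.IsAlgebraic A₀ L := Algebra.IsAlgebraic.trans A₀ (FractionRing A₀) L
  have hinj : Function.Injective (algebraMap A₀ L) := by
    rw [IsScalarTower.algebraMap_eq A₀ (FractionRing A₀) L]
    exact (algebraMap (FractionRing A₀) L).injective.comp (IsFractionRing.injective A₀ (FractionRing A₀))
  let φ₀ : A →+* L := (algebraMap A₀ L).comp (Ideal.Quotient.mk I)
  obtain ⟨S, hS, hSV⟩ := exists_finset_points Cs hC φ₀
  have hgen : ∀ j, ∃ t : Finset (Cs j), Algebra.adjoin A (t : Set (Cs j)) = ⊤ := fun j => Algebra.FiniteType.out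
  choose t ht using hgen
  let xs : Finset L := S.biUnion fun e => (t e.1).image e.2
  let p := Ideal.Quotient.mk I
  have hsmall' : ∀ (D : Type u) [CommRing D] (θ : A₀ →+* D), (∃ a, a ≠ 0 ∧ θ a = 0) → Cov T J (θ.comp p) := by
    intro D _ θ ⟨a, ha, hθ⟩
    obtain ⟨a, rfl⟩ := Ideal.Quotient.mk_surjective a
    refine hsmall _ (lt_of_le_of_ne (fun z hz => ?_) fun heq => ha ?_)
    · show θ (p z) = 0
      rw [Ideal.Quotient.eq_zero_iff_mem.2 hz, map_zero]
    · rw [Ideal.Quotient.eq_zero_iff_mem, heq]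
      exact hθ
  have hbot : Cov T J (toSub p (⊥ : Subalgebra A₀ L)) := by
    refine cov_of_branches p hJ hsmall' hinj xs.toList Subalgebra.fg_bot fun C hC _ hxs => ?_
    refine cov_of_span_eq_top hJ {s | Cov T J ((algebraMap C (Localization.Away s)).comp (toSub p C))} ?_
      fun a ha => ha
    by_contra hne
    obtain ⟨M, hM, hle⟩ := Ideal.exists_le_maximal _ hne
    haveI : IsLocalRing (Localization.AtPrime M) := inferInstance
    let f : Localization.AtPrime M →+* L := IsLocalization.lift (M := M.primeCompl) (g := (C.val : C →+* L))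
      fun s => IsUnit.mk0 _ fun h0 => s.2 (by rw [show (s : C) = 0 from Subtype.ext h0]; exact zero_mem M)
    obtain ⟨V, hV, hloc⟩ := exists_factor_valuationRing (R := Localization.AtPrime M) f
    have hCV : ∀ c : C, (c : L) ∈ V := fun c => by
      have := hV (algebraMap C (Localization.AtPrime M) c)
      rwa [show f (algebraMap C (Localization.AtPrime M) c) = (c : L) from IsLocalization.lift_eq _ c] at this
    obtain ⟨e, he, hev⟩ := hSV V fun a => hCV (algebraMap A₀ C (p a))
    let den : L → C := fun x => if h : x⁻¹ ∈ C ∧ x ∉ C then ⟨x⁻¹, h.1⟩ else 1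
    let s : C := ∏ z ∈ t e.1, den (e.2 z)
    have hs : s ∉ M := by
      refine Submonoid.prod_mem M.primeCompl fun z hz => ?_
      show den (e.2 z) ∉ M
      simp only [den]
      split_ifs with h
      · intro hmem
        have hu : IsUnit ((f.codRestrict V.toSubring hV) (algebraMap C (Localization.AtPrime M) ⟨_, h.1⟩)) := by
          have hval : ((f.codRestrict V.toSubring hV) (algebraMap C (Localization.AtPrime M) ⟨_, h.1⟩) : L) =
              (e.2 z)⁻¹ := IsLocalization.lift_eq _ _
          refine IsUnit.of_mul_eq_one (⟨e.2 z, hev z⟩ : V) (Subtype.ext ?_)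
          show ((f.codRestrict V.toSubring hV) _ : L) * e.2 z = 1
          rw [hval, inv_mul_cancel₀ fun (h0 : e.2 z = 0) => h.2 (by rw [h0]; exact zero_mem C)]
        haveI := hloc
        exact (IsLocalization.AtPrime.isUnit_to_map_iff (Localization.AtPrime M) M _).1 (isUnit_of_map_unit _ _ hu) hmem
      · exact fun h1 => hM.ne_top ((Ideal.eq_top_iff_one M).2 h1)
    refine hs (hle (Ideal.subset_span ?_))
    show Cov T J ((algebraMap C (Localization.Away s)).comp (toSub p C))
    have hs0 : (s : L) ≠ 0 := fun h0 => hs (by rw [show s = 0 from Subtype.ext h0]; exact zero_mem M)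
    let ι : Localization.Away s →+* L := IsLocalization.Away.lift s (g := (C.val : C →+* L)) (IsUnit.mk0 _ hs0)
    have hι : ∀ c : C, ι (algebraMap C (Localization.Away s) c) = (c : L) := fun c =>
      IsLocalization.Away.lift_eq s (g := (C.val : C →+* L)) (IsUnit.mk0 _ hs0) c
    have hιinj : Function.Injective ι := by
      rw [injective_iff_map_eq_zero]
      intro w hw
      obtain ⟨⟨c, m⟩, rfl⟩ := IsLocalization.mk'_surjective (Submonoid.powers s) w
      have h1 := congrArg ι (IsLocalization.mk'_spec (Localization.Away s) c m)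
      rw [map_mul] at h1
      have h2 : (c : L) = 0 := by
        rw [← hι c, ← h1]
        rw [show ι (IsLocalization.mk' _ c m) = 0 from hw, zero_mul]
      rw [show c = 0 from Subtype.ext h2]
      simp
    have hrange : ∀ z, e.2 z ∈ ι.range := fun z => by
      have hz : z ∈ Algebra.adjoin A (t e.1 : Set (Cs e.1)) := ht e.1 ▸ Algebra.mem_top
      induction hz using Algebra.adjoin_induction with
      | mem z hz =>
        by_cases hzC : e.2 z ∈ C
        · exact ⟨algebraMap C _ ⟨_, hzC⟩, hι _⟩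
        have hzi : (e.2 z)⁻¹ ∈ C :=
          ((hxs _ (Finset.mem_toList.2 (Finset.mem_biUnion.2 ⟨e, he, Finset.mem_image_of_mem _ hz⟩))).resolve_left hzC)
        have hsplit : s = den (e.2 z) * ∏ z' ∈ (t e.1).erase z, den (e.2 z') :=
          (Finset.mul_prod_erase _ _ hz).symm
        set rest := ∏ z' ∈ (t e.1).erase z, den (e.2 z')
        refine ⟨algebraMap C _ rest * IsLocalization.Away.invSelf s, ?_⟩
        have h1 : ι (algebraMap C _ s) * ι (IsLocalization.Away.invSelf s) = 1 := by
          rw [← map_mul, IsLocalization.Away.mul_invSelf, map_one]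
        have h2 := hι
        rw [h2] at h1
        have h3 : (s : L) = (e.2 z)⁻¹ * (rest : L) := by
          rw [hsplit]
          show ((den (e.2 z) : C) : L) * _ = _
          simp only [den, dif_pos (And.intro hzi hzC)]
        rw [map_mul, h2]
        refine mul_left_cancel₀ hs0 ?_
        rw [← mul_assoc, mul_comm (s : L) (rest : L), mul_assoc, h1, mul_one, h3, mul_comm (e.2 z)⁻¹, mul_assoc,
          inv_mul_cancel₀ fun (h0 : e.2 z = 0) => hzC (by rw [h0]; exact zero_mem C), mul_one]
      | algebraMap a => exact ⟨algebraMap C _ (algebraMap A₀ C (p a)), (hι _).trans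
          (RingHom.congr_fun (hS e he) a).symm⟩
      | add a b _ _ ha hb => rw [map_add]; exact add_mem ha hb
      | mul a b _ _ ha hb => rw [map_mul]; exact mul_mem ha hb
    let eι := RingEquiv.ofBijective ι.rangeRestrict
      ⟨fun a b h => hιinj (congrArg Subtype.val h), ι.rangeRestrict_surjective⟩
    let γ : Cs e.1 →+* Localization.Away s := eι.symm.toRingHom.comp (e.2.codRestrict ι.range hrange)
    have hγ : γ.comp (algebraMap A (Cs e.1)) = (algebraMap C (Localization.Away s)).comp (toSub p C) :=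
      RingHom.ext fun a => hιinj ((congrArg Subtype.val (eι.apply_symm_apply
        ⟨e.2 (algebraMap A (Cs e.1) a), hrange _⟩)).trans
          ((RingHom.congr_fun (hS e he) a).trans (hι (algebraMap A₀ C (p a))).symm))
    have hmem : T.arrows (specHom ((algebraMap C (Localization.Away s)).comp (toSub p C))) := by
      rw [← hγ, specHom_comp]
      exact T.downward_closed (Sieve.le_generate _ _ _ (Presieve.ofArrows.mk (f := (affFam (A := A) Cs).f) e.1)) _
    show T.pullback _ ∈ _
    rw [Sieve.pullback_eq_top_of_mem T hmem]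
    exact J.top_mem _
  have hb : Function.Bijective (algebraMap A₀ (⊥ : Subalgebra A₀ L)) :=
    ⟨fun a b h => hinj (congrArg Subtype.val h), fun ⟨x, hx⟩ => by
      obtain ⟨a, rfl⟩ := Algebra.mem_bot.1 hx
      exact ⟨a, rfl⟩⟩
  have h := hbot.comp (RingEquiv.ofBijective _ hb).symm.toRingHom
  rwa [show (RingEquiv.ofBijective _ hb).symm.toRingHom.comp (toSub p (⊥ : Subalgebra A₀ L)) = p from
    RingHom.ext fun a => (RingEquiv.ofBijective _ hb).symm_apply_apply (p a)] at h

end Groth.Agent.HTop83
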