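import Groth.Agent.HTop83.PhV
import Groth.Agent.HTop83.Noeth
import Groth.Agent.HTopCov.Sheaf
import Groth.Agent.HTopCov.V
import Groth.Agent.HTopCov.Spec
import Groth.Agent.LimMor.Approx
import Mathlib.AlgebraicGeometry.AffineTransitionLimit

/-!
# Standard h coverings descend along cofiltered limits of affine schemes
-/

set_option autoImplicit false
set_option backward.isDefEq.respectTransparency false
set_option backward.isDefEq.respectTransparency.types false

universe w u

noncomputable section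

namespace Groth.Agent.HTop83

open CategoryTheory CategoryTheory.Limits AlgebraicGeometry HTop MvPolynomial IsLocalRing

variable {A : Type u} [CommRing A]

/-- Over an affine scheme the valuative test gives the valuative lifting property. -/
theorem hasValLift_of_valPoints {J : Type} (C : J → Type u) [∀ j, CommRing (C j)] [∀ j, Algebra A (C j)]
    (hC : ValPoints (A := A) C) : HasValLift (affFam (A := A) C) := by
  intro V _ _ g
  obtain ⟨α, rfl⟩ := Spec.map_surjective g
  let K := AlgebraicClosure (FractionRing V)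
  let ι : V →+* K := (algebraMap (FractionRing V) K).comp (algebraMap V (FractionRing V))
  obtain ⟨V', hV', hloc⟩ := exists_factor_valuationRing ι
  let φ : V ⟶ CommRingCat.of V' := CommRingCat.ofHom (ι.codRestrict V'.toSubring hV')
  haveI : IsDomain (CommRingCat.of V') := inferInstanceAs (IsDomain V')
  haveI : ValuationRing (CommRingCat.of V') := inferInstanceAs (ValuationRing V')
  have hinj : Function.Injective φ.hom := fun a b h => by
    have h' : ι a = ι b := congrArg Subtype.val h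
    exact IsFractionRing.injective V (FractionRing V) ((algebraMap (FractionRing V) K).injective h')
  obtain ⟨j, c, hcV, hc⟩ := hC K V' (ι.comp α.hom) fun a => hV' (α.hom a)
  refine ⟨CommRingCat.of V', inferInstance, inferInstance, φ, ⟨hinj, hloc⟩, j,
    Spec.map (CommRingCat.ofHom (c.codRestrict V'.toSubring hcV)), ?_⟩
  show Spec.map _ ≫ Spec.map (CommRingCat.ofHom (algebraMap A (C j))) = Spec.map φ ≫ Spec.map α
  rw [← Spec.map_comp, ← Spec.map_comp]
  refine congrArg Spec.map (CommRingCat.hom_ext (RingHom.ext fun a => Subtype.ext ?_))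
  exact RingHom.congr_fun hc a

/-- A presented family passing the valuative test is a standard h covering. -/
theorem pres_family {m : ℕ} (n r : Fin m → ℕ) (g : ∀ k, Fin (r k) → MvPolynomial (Fin (n k)) A)
    (hval : ValPoints (A := A) fun k => Pres (g k)) :
    IsVCover (affFam (A := A) fun k => Pres (g k)) ∧
      ∀ k, LocallyOfFinitePresentation ((affFam (A := A) fun k => Pres (g k)).f k) := by
  refine ⟨HTopCov.isVCover_of_standardV ⟨inferInstanceAs (IsAffine (Spec (CommRingCat.of A))),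
    inferInstanceAs (Finite (Fin m)), fun k => inferInstanceAs (IsAffine (Spec (CommRingCat.of (Pres (g k))))),
    hasValLift_of_valPoints _ hval⟩, fun k => ?_⟩
  show LocallyOfFinitePresentation (Spec.map (CommRingCat.ofHom (algebraMap A (Pres (g k)))))
  rw [HasRingHomProperty.Spec_iff (P := @LocallyOfFinitePresentation)]
  refine RingHom.finitePresentation_algebraMap.2 ?_
  exact Algebra.FinitePresentation.quotient (Submodule.fg_def.2 ⟨_, Set.finite_range (g k), rfl⟩)

/-- An algebra given by relations over a subring is the base change of the algebra over the subring. -/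
theorem isPullback_pres {B : Type u} [CommRing B] (ι : B →+* A) {n r : ℕ}
    (f : Fin r → MvPolynomial (Fin n) A) (g : Fin r → MvPolynomial (Fin n) B)
    (hgf : ∀ k, MvPolynomial.map ι (g k) = f k) :
    ∃ m : CommRingCat.of (Pres g) ⟶ CommRingCat.of (Pres f),
      IsPullback (Spec.map m) (Spec.map (CommRingCat.ofHom (algebraMap A (Pres f))))
        (Spec.map (CommRingCat.ofHom (algebraMap B (Pres g)))) (Spec.map (CommRingCat.ofHom ι)) := by
  obtain ⟨m, hm, hmX⟩ := (pres_hom_iff g ((algebraMap A (Pres f)).comp ι)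
    (fun i => Ideal.Quotient.mk _ (X i))).1 fun k => by
      rw [← MvPolynomial.eval₂_map ι, hgf]
      exact (pres_hom_iff f (algebraMap A (Pres f)) _).2 ⟨RingHom.id _, rfl, fun i => rfl⟩ k
  refine ⟨CommRingCat.ofHom m, isPullback_SpecMap_of_isPushout _ _ _ _ ?_⟩
  have sq : CommRingCat.ofHom (algebraMap B (Pres g)) ≫ CommRingCat.ofHom m =
      CommRingCat.ofHom ι ≫ CommRingCat.ofHom (algebraMap A (Pres f)) := CommRingCat.hom_ext hm
  have desc : ∀ (s : PushoutCocone (CommRingCat.ofHom (algebraMap B (Pres g))) (CommRingCat.ofHom ι)),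
      ∃ d : Pres f →+* s.pt, d.comp (algebraMap A (Pres f)) = s.inr.hom ∧
        ∀ i, d (Ideal.Quotient.mk _ (X i)) = s.inl.hom (Ideal.Quotient.mk _ (X i)) := fun s =>
    (pres_hom_iff f s.inr.hom _).1 fun k => by
      rw [← hgf, MvPolynomial.eval₂_map]
      exact (pres_hom_iff g (s.inr.hom.comp ι) _).2
        ⟨s.inl.hom, congrArg CommRingCat.Hom.hom s.condition, fun i => rfl⟩ k
  choose d hd hdX using desc
  refine ⟨⟨sq⟩, ⟨PushoutCocone.IsColimit.mk _ (fun s => CommRingCat.ofHom (d s)) (fun s => ?_)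
    (fun s => CommRingCat.hom_ext (hd s)) fun s e h1 h2 => ?_⟩⟩
  · refine CommRingCat.hom_ext (Ideal.Quotient.ringHom_ext (MvPolynomial.ringHom_ext (fun b => ?_) fun i => ?_))
    · show d s (m (algebraMap B (Pres g) b)) = s.inl.hom (algebraMap B (Pres g) b)
      rw [show m (algebraMap B (Pres g) b) = algebraMap A (Pres f) (ι b) from RingHom.congr_fun hm b]
      exact (RingHom.congr_fun (hd s) (ι b)).trans
        (RingHom.congr_fun (congrArg CommRingCat.Hom.hom s.condition) b).symm
    · show d s (m (Ideal.Quotient.mk _ (X i))) = s.inl.hom (Ideal.Quotient.mk _ (X i))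
      rw [hmX, hdX]
  · refine CommRingCat.hom_ext (Ideal.Quotient.ringHom_ext (MvPolynomial.ringHom_ext (fun a => ?_) fun i => ?_))
    · exact (RingHom.congr_fun (congrArg CommRingCat.Hom.hom h2) a).trans (RingHom.congr_fun (hd s) a).symm
    · show e.hom (Ideal.Quotient.mk _ (X i)) = d s (Ideal.Quotient.mk _ (X i))
      rw [hdX, ← hmX]
      exact RingHom.congr_fun (congrArg CommRingCat.Hom.hom h1) _

/-- The stage of a descended standard h covering. -/
theorem exists_standardH_stage {I : Type u} [SmallCategory I] (D : I ⥤ Scheme.{u})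
    [∀ i, IsAffine (D.obj i)] (c : Cone D) [IsAffine c.pt] (V : PreZeroHypercover.{w} c.pt)
    (hV : IsStandardH V) {m : ℕ} (e₀ : V.I₀ ≃ Fin m) (n r : V.I₀ → ℕ)
    (f : ∀ j, Fin (r j) → MvPolynomial (Fin (n j)) Γ(c.pt, ⊤))
    (ε : letI : ∀ j : V.I₀, Algebra Γ(c.pt, ⊤) Γ(V.X j, ⊤) := fun j => (V.f j).appTop.hom.toAlgebra
      ∀ j, Pres (f j) ≃ₐ[Γ(c.pt, ⊤)] Γ(V.X j, ⊤))
    {B : Type u} [CommRing B] (ι : B →+* Γ(c.pt, ⊤))
    (g : ∀ k, Fin (r (e₀.symm k)) → MvPolynomial (Fin (n (e₀.symm k))) B)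
    (hgf : ∀ k l, MvPolynomial.map ι (g k l) = f (e₀.symm k) l)
    (hval : ValPoints (A := B) fun k => Pres (g k)) (i : I) (p : D.obj i ⟶ Spec (CommRingCat.of B))
    (hp : c.π.app i ≫ p = c.pt.isoSpec.hom ≫ Spec.map (CommRingCat.ofHom ι)) :
    ∃ (i : I) (W : PreZeroHypercover.{w} (D.obj i)), IsStandardH W ∧ ∃ (σ : V.I₀ ≃ W.I₀)
      (e : ∀ j, V.X j ≅ pullback (c.π.app i) (W.f (σ j))), ∀ j,
        (e j).hom ≫ pullback.fst (c.π.app i) (W.f (σ j)) = V.f j := by
  haveI := hV.finite_index
  haveI := hV.isAffine_obj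
  letI : ∀ j : V.I₀, Algebra Γ(c.pt, ⊤) Γ(V.X j, ⊤) := fun j => (V.f j).appTop.hom.toAlgebra
  obtain ⟨hF, hFfp⟩ := pres_family (fun k => n (e₀.symm k)) (fun k => r (e₀.symm k)) g hval
  let F := affFam (A := B) fun k => Pres (g k)
  let pB : c.pt ⟶ Spec (CommRingCat.of B) := c.pt.isoSpec.hom ≫ Spec.map (CommRingCat.ofHom ι)
  let W : PreZeroHypercover.{w} (D.obj i) :=
    ⟨V.I₀, fun j => pullback p (F.f (e₀ j)), fun j => pullback.fst p (F.f (e₀ j))⟩
  have hWV : IsVCover W := by
    intro U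
    obtain ⟨G, hG, hGr⟩ := HTopCov.isVCover_pullback₁ p F hF U
    refine ⟨G, hG, fun q => ?_⟩
    obtain ⟨k, h, hh⟩ := hGr q
    obtain ⟨j, rfl⟩ := e₀.surjective k
    exact ⟨j, h, hh⟩
  have hfp : ∀ j, LocallyOfFinitePresentation (W.f j) := fun j => by
    haveI : LocallyOfFinitePresentation (F.f (e₀ j)) := hFfp _
    exact MorphismProperty.pullback_fst _ _ inferInstance
  refine ⟨i, W, ⟨inferInstance, inferInstanceAs (Finite V.I₀), fun j => ?_, hfp, hWV⟩, Equiv.refl _, ?_⟩
  · haveI : IsAffine (F.X (e₀ j)) := inferInstanceAs (IsAffine (Spec (CommRingCat.of (Pres (g (e₀ j))))))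
    exact inferInstanceAs (IsAffine (pullback p (F.f (e₀ j))))
  have hsq : ∀ j, ∃ t : V.X j ⟶ F.X (e₀ j), IsPullback t (V.f j) (F.f (e₀ j)) pB := fun j => by
    obtain ⟨k, rfl⟩ := e₀.symm.surjective j
    rw [Equiv.apply_symm_apply]
    obtain ⟨m', hm'⟩ := isPullback_pres ι (f (e₀.symm k)) (g k) (hgf k)
    let eV : V.X (e₀.symm k) ≅ Spec (CommRingCat.of (Pres (f (e₀.symm k)))) :=
      (V.X (e₀.symm k)).isoSpec ≪≫
        Scheme.Spec.mapIso ((ε (e₀.symm k)).toRingEquiv.toCommRingCatIso).op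
    refine ⟨eV.hom ≫ Spec.map m', hm'.of_iso eV.symm (Iso.refl _) c.pt.isoSpec.symm (Iso.refl _) ?_ ?_ ?_ ?_⟩
    · show Spec.map m' ≫ 𝟙 _ = eV.inv ≫ eV.hom ≫ Spec.map m'
      rw [Category.comp_id, Iso.inv_hom_id_assoc]
    · show Spec.map _ ≫ c.pt.isoSpec.inv = eV.inv ≫ V.f (e₀.symm k)
      rw [← cancel_mono c.pt.isoSpec.hom, Category.assoc, Iso.inv_hom_id, Category.comp_id, Category.assoc,
        ← Scheme.isoSpec_hom_naturality]
      show _ = (Spec.map _ ≫ (V.X (e₀.symm k)).isoSpec.inv) ≫ _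
      rw [Category.assoc, Iso.inv_hom_id_assoc, ← Spec.map_comp]
      refine congrArg Spec.map (CommRingCat.hom_ext (RingHom.ext fun a => ?_))
      exact ((ε (e₀.symm k)).symm.commutes a).symm
    · show F.f k ≫ 𝟙 _ = 𝟙 _ ≫ F.f k
      rw [Category.comp_id, Category.id_comp]
    · show Spec.map (CommRingCat.ofHom ι) ≫ 𝟙 _ = c.pt.isoSpec.inv ≫ pB
      rw [Category.comp_id, Iso.inv_hom_id_assoc]
  choose t ht using hsq
  have h1 : ∀ j, IsPullback (pullback.fst (c.π.app i) (W.f j))
      (pullback.snd (c.π.app i) (W.f j) ≫ pullback.snd p (F.f (e₀ j))) pB (F.f (e₀ j)) := fun j =>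
    (show c.π.app i ≫ p = pB from hp) ▸ (IsPullback.of_hasPullback (c.π.app i) (W.f j)).paste_vert (IsPullback.of_hasPullback p (F.f (e₀ j)))
  exact ⟨fun j => (ht j).flip.isoIsPullback _ _ (h1 j), fun j =>
    (ht j).flip.isoIsPullback_hom_fst _ _ (h1 j)⟩

set_option maxHeartbeats 800000 in
/-- A standard h covering of a limit of affine schemes comes from a stage. -/
theorem exists_standardH_descent {I : Type u} [SmallCategory I] [IsCofiltered I] (D : I ⥤ Scheme.{u})
    [∀ i, IsAffine (D.obj i)] (c : Cone D) (hc : IsLimit c) [IsAffine c.pt] (V : PreZeroHypercover.{w} c.pt)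
    (hV : IsStandardH V) :
    ∃ (i : I) (W : PreZeroHypercover.{w} (D.obj i)), IsStandardH W ∧ ∃ (σ : V.I₀ ≃ W.I₀)
      (e : ∀ j, V.X j ≅ pullback (c.π.app i) (W.f (σ j))), ∀ j,
        (e j).hom ≫ pullback.fst (c.π.app i) (W.f (σ j)) = V.f j := by
  classical
  haveI := hV.finite_index
  haveI := hV.isAffine_obj
  haveI := hV.finitePresentation
  obtain ⟨m, ⟨e₀⟩⟩ := Finite.exists_equiv_fin V.I₀
  let A : CommRingCat.{u} := Γ(c.pt, ⊤)
  letI : ∀ j : V.I₀, Algebra A Γ(V.X j, ⊤) := fun j => (V.f j).appTop.hom.toAlgebra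
  have hpres : ∀ j : V.I₀, ∃ (n r : ℕ) (f : Fin r → MvPolynomial (Fin n) A),
      Nonempty (Pres f ≃ₐ[A] Γ(V.X j, ⊤)) := fun j => by
    have hfp : Algebra.FinitePresentation A Γ(V.X j, ⊤) :=
      HasRingHomProperty.appTop (P := @LocallyOfFinitePresentation) (V.f j) inferInstance
    obtain ⟨n, I, ε, hI⟩ := Algebra.FinitePresentation.iff.1 hfp
    obtain ⟨r, f, hf⟩ := Submodule.fg_iff_exists_fin_generating_family.1 hI
    exact ⟨n, r, f, ⟨(Ideal.quotientEquivAlgOfEq A hf).trans ε⟩⟩
  choose n r f hε using hpres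
  have ε := fun j => (hε j).some
  obtain ⟨B, hB, g, hgf, hval⟩ := exists_fg_subring_valPoints (J := Fin m) (fun k => n (e₀.symm k))
    (fun k => r (e₀.symm k)) (fun k => f (e₀.symm k)) fun U _ _ _ hU α => by
      haveI : IsDomain (CommRingCat.of U) := inferInstanceAs (IsDomain U)
      haveI : ValuationRing (CommRingCat.of U) := inferInstanceAs (ValuationRing U)
      obtain ⟨W, hW, hW', φ, ⟨hinj, hloc⟩, j, g', hg'⟩ := HTopCov.hasValLift_of_isVCover hV.isVCover
        (CommRingCat.of U) (Spec.map (CommRingCat.ofHom α) ≫ c.pt.isoSpec.inv)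
      obtain ⟨γ, hγ⟩ := Spec.map_surjective (g' ≫ (V.X j).isoSpec.hom)
      obtain ⟨k, rfl⟩ := e₀.symm.surjective j
      haveI := hloc
      have hcomp : γ.hom.comp (algebraMap A Γ(V.X (e₀.symm k), ⊤)) = φ.hom.comp α := by
        have h1 : Spec.map ((V.f (e₀.symm k)).appTop ≫ γ) = Spec.map (CommRingCat.ofHom α ≫ φ) := by
          rw [Spec.map_comp, Spec.map_comp, hγ, Category.assoc, Scheme.isoSpec_hom_naturality,
            ← Category.assoc, hg', Category.assoc, Category.assoc, Iso.inv_hom_id, Category.comp_id]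
        exact congrArg CommRingCat.Hom.hom (Spec.map_injective h1)
      haveI : Algebra.FiniteType A Γ(V.X (e₀.symm k), ⊤) :=
        Algebra.FiniteType.of_surjective (ε (e₀.symm k)).toAlgHom (ε (e₀.symm k)).surjective
      obtain ⟨d, hd⟩ := exists_ringHom_of_ext hU φ.hom hinj α γ.hom hcomp
      exact ⟨k, d.comp (ε _).toRingEquiv.toRingHom, RingHom.ext fun a => by
        show d (ε _ (algebraMap A _ a)) = α a
        rw [(ε _).commutes]
        exact RingHom.congr_fun hd a⟩
  let T : Scheme.{u} := Spec (CommRingCat.of B)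
  let pB : c.pt ⟶ T := c.pt.isoSpec.hom ≫ Spec.map (CommRingCat.ofHom B.val.toRingHom)
  haveI : LocallyOfFiniteType (LimMor.toZ T) := by
    obtain ⟨h, hh⟩ := Spec.map_surjective (LimMor.toZ T)
    rw [← hh, HasRingHomProperty.Spec_iff (P := @LocallyOfFiniteType)]
    haveI : Algebra.FiniteType ℤ B := (Subalgebra.fg_iff_finiteType B).1 hB
    refine RingHom.FiniteType.of_comp_finiteType (f := ULift.ringEquiv.symm.toRingHom) ?_
    rw [show h.hom.comp ULift.ringEquiv.symm.toRingHom = algebraMap ℤ B from Subsingleton.elim _ _]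
    exact RingHom.finiteType_algebraMap.2 inferInstance
  haveI : LocallyOfFinitePresentation (LimMor.toZ T) :=
    locallyOfFinitePresentation_of_locallyOfFiniteType _
  haveI : ∀ {i j : I} (a : i ⟶ j), IsAffineHom (D.map a) := fun a => inferInstance
  obtain ⟨i, p, hp, -⟩ := Scheme.exists_π_app_comp_eq_of_locallyOfFinitePresentation D
    ({ app := fun i => LimMor.toZ (D.obj i)
       naturality := fun i j a => specULiftZIsTerminal.hom_ext _ _ } : D ⟶ (Functor.const I).obj LimMor.specZ)
    (LimMor.toZ T) c hc pB (by ext i; exact specULiftZIsTerminal.hom_ext _ _)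
  exact exists_standardH_stage D c V hV e₀ n r f ε B.val.toRingHom g hgf hval i p hp

end Groth.Agent.HTop83
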