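import Groth.Agent.HTop83.HSheafOver
import Groth.Agent.HTop83.SquareTop
import Groth.Agent.HTop83.StandardHLimit
import Groth.Agent.HTop83.AlmostSquares
import Groth.Agent.HTop83.SquareGlue
import Mathlib.RingTheory.RingHom.Flat
import Mathlib.RingTheory.RingHom.Finite

/-!
# h sheaves through flat covers and almost blow up squares

A Zariski sheaf on `S`-schemes whose topology of effective sieves contains the basic coverings of `SquareTop` is an
h sheaf; the basic coverings are effective if `F` has the sheaf property for flat proper coverings of affine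
schemes and turns almost blow up squares with centre cut out by two sections into cartesian squares.
-/

set_option autoImplicit false
set_option backward.isDefEq.respectTransparency false
set_option backward.isDefEq.respectTransparency.types false

universe w u

noncomputable section

namespace Groth.Agent.HTop83

open CategoryTheory CategoryTheory.Limits AlgebraicGeometry IsLocalRing Polynomial Opposite
open HTop
open Scheme (IdealSheafData)

variable {S : Scheme.{u}} {F : (Over S)ᵒᵖ ⥤ Type w}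

theorem ofIdealTop_top {X : Scheme.{u}} [IsAffine X] (I : Ideal Γ(X, ⊤)) :
    (IdealSheafData.ofIdealTop I).ideal ⟨⊤, isAffineOpen_top X⟩ = I := by
  simp [IdealSheafData.ofIdealTop_ideal]

/-- Sheaf property for a pair of arrows out of unique glueing along a commutative square. -/
theorem isSheafFor_sup_singleton {C : Type*} [Category C] (F : Cᵒᵖ ⥤ Type w) {E Z X' X : C} (e : E ⟶ X')
    (π : E ⟶ Z) (b : X' ⟶ X) (i : Z ⟶ X) (w : π ≫ i = e ≫ b)
    (h : ∀ (t : F.obj (op Z)) (s' : F.obj (op X')), F.map π.op t = F.map e.op s' →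
      ∃! s : F.obj (op X), F.map i.op s = t ∧ F.map b.op s = s') :
    Presieve.IsSheafFor F (Presieve.singleton i ⊔ Presieve.singleton b) := by
  intro x hx
  obtain ⟨s, ⟨hs₁, hs₂⟩, hu⟩ := h (x i (Or.inl ⟨⟩)) (x b (Or.inr ⟨⟩)) (hx π e _ _ w)
  refine ⟨s, ?_, fun s₁ hs₁ => hu s₁ ⟨hs₁ i (Or.inl ⟨⟩), hs₁ b (Or.inr ⟨⟩)⟩⟩
  rintro Y f (⟨⟨⟩⟩ | ⟨⟨⟩⟩)
  exacts [hs₁, hs₂]

/-- Two sections cut out the closed subscheme. -/
def CutByTwo {Z X : Scheme.{u}} (i : Z ⟶ X) : Prop :=
  ∃ f₁ f₂ : Γ(X, ⊤), i.ker = IdealSheafData.ofIdealTop (Ideal.span {f₁, f₂})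

/-- The condition on squares. -/
def SquareTwo (F : (Over S)ᵒᵖ ⥤ Type w) : Prop :=
  ∀ (E Z X' X : Over S) (e : E ⟶ X') (π : E ⟶ Z) (b : X' ⟶ X) (i : Z ⟶ X), IsAffine X.left →
    IsAlmostBlowUpSquare e.left π.left b.left i.left → CutByTwo i.left →
    ∀ (t : F.obj (op Z)) (s' : F.obj (op X')), F.map π.op t = F.map e.op s' →
      ∃! s : F.obj (op X), F.map i.op s = t ∧ F.map b.op s = s'

/-- The condition on flat coverings. -/
def FlatProper (F : (Over S)ᵒᵖ ⥤ Type w) : Prop :=
  ∀ (X Y : Over S) (f : X ⟶ Y), IsAffine Y.left → Surjective f.left → Flat f.left → IsProper f.left →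
    LocallyOfFinitePresentation f.left → Presieve.IsSheafFor F (Presieve.singleton f)

theorem cutByTwo_comap {Z T W : Scheme.{u}} [IsAffine T] [IsAffine W] (i : Z ⟶ T) [IsClosedImmersion i]
    (g : W ⟶ T) (h : CutByTwo i) : CutByTwo (pullback.fst g i) := by
  obtain ⟨f₁, f₂, hf⟩ := h
  refine ⟨g.appTop.hom f₁, g.appTop.hom f₂, IdealSheafData.ext_of_isAffine ?_⟩
  rw [IdealSheafData.ker_fst_of_isClosedImmersion, HTopCov.ideal_comap_of_isAffine, hf]
  simp only [ofIdealTop_top, Ideal.map_span, Set.image_pair]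

/-- An almost blow up square gives an effective covering. -/
theorem square_mem_finOver (hZ : Presieve.IsSheaf (Scheme.zariskiTopology.over S) F) (hsq : SquareTwo F)
    {E Z X' T : Scheme.{u}} [IsAffine T] {e : E ⟶ X'} {π : E ⟶ Z} {b : X' ⟶ T} {i : Z ⟶ T}
    (h : IsAlmostBlowUpSquare e π b i) (hc : CutByTwo i) :
    Sieve.generate (Presieve.singleton i ⊔ Presieve.singleton b) ∈ finOver F T := by
  haveI := h.isClosedImmersion
  refine mem_finOverZ_of_affine hZ _ fun W _ g => ?_
  let Z₁ : Over S := Over.mk (pullback.fst g i ≫ W.hom)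
  let X₁ : Over S := Over.mk (pullback.fst g b ≫ W.hom)
  let i₁ : Z₁ ⟶ W := Over.homMk (pullback.fst g i)
  let b₁ : X₁ ⟶ W := Over.homMk (pullback.fst g b)
  let gX := pullback.snd g b
  let E₁ : Over S := Over.mk (pullback.snd e gX ≫ pullback.fst g b ≫ W.hom)
  let e₁ : E₁ ⟶ X₁ := Over.homMk (pullback.snd e gX)
  have hZp : IsPullback (pullback.snd g i) (pullback.fst g i) i g := (IsPullback.of_hasPullback g i).flip
  have hw : (pullback.fst e gX ≫ π) ≫ i = (pullback.snd e gX ≫ pullback.fst g b) ≫ g := by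
    rw [Category.assoc, ← h.isPullback.w, ← Category.assoc, pullback.condition, Category.assoc, Category.assoc,
      pullback.condition]
  let π₁ : E₁ ⟶ Z₁ := Over.homMk (hZp.lift (pullback.fst e gX ≫ π) (pullback.snd e gX ≫ pullback.fst g b) hw) (by
    show hZp.lift _ _ hw ≫ pullback.fst g i ≫ W.hom = _
    rw [← Category.assoc, hZp.lift_snd, Category.assoc]
    rfl)
  have hs : IsAlmostBlowUpSquare e₁.left π₁.left b₁.left i₁.left :=
    HTopCov.isAlmostBlowUpSquare_baseChange h g (IsPullback.of_hasPullback g b).flip hZp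
      (IsPullback.of_hasPullback e gX) (hZp.lift_snd _ _ hw)
  have hw₁ : π₁ ≫ i₁ = e₁ ≫ b₁ := Over.OverMorphism.ext (hZp.lift_snd _ _ hw)
  have key := isSheafFor_sup_singleton F e₁ π₁ b₁ i₁ hw₁
    (hsq E₁ Z₁ X₁ W e₁ π₁ b₁ i₁ inferInstance hs (cutByTwo_comap i g hc))
  rw [Presieve.isSheafFor_iff_generate] at key
  convert key using 2
  refine Sieve.ext fun V f => ⟨?_, ?_⟩
  · intro hf
    obtain ⟨Y, a, k, (⟨⟨⟩⟩ | ⟨⟨⟩⟩), ha⟩ := hf
    · exact ⟨Z₁, Over.homMk (pullback.lift f.left a ha.symm) (by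
        show pullback.lift _ _ _ ≫ pullback.fst g i ≫ W.hom = _
        rw [← Category.assoc, pullback.lift_fst]
        exact Over.w f), i₁, Or.inl ⟨⟩, Over.OverMorphism.ext (pullback.lift_fst _ _ _)⟩
    · exact ⟨X₁, Over.homMk (pullback.lift f.left a ha.symm) (by
        show pullback.lift _ _ _ ≫ pullback.fst g b ≫ W.hom = _
        rw [← Category.assoc, pullback.lift_fst]
        exact Over.w f), b₁, Or.inr ⟨⟩, Over.OverMorphism.ext (pullback.lift_fst _ _ _)⟩
  · rintro ⟨Y, a, k, (⟨⟨⟩⟩ | ⟨⟨⟩⟩), rfl⟩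
    · exact ⟨_, a.left ≫ pullback.snd g i, i, Or.inl ⟨⟩, by
        show _ = (a.left ≫ pullback.fst g i) ≫ g
        rw [Category.assoc, Category.assoc, pullback.condition]⟩
    · exact ⟨_, a.left ≫ pullback.snd g b, b, Or.inr ⟨⟩, by
        show _ = (a.left ≫ pullback.fst g b) ≫ g
        rw [Category.assoc, Category.assoc, pullback.condition]⟩

/-- A finite locally free covering is effective. -/
theorem flat_mem_finOver (hZ : Presieve.IsSheaf (Scheme.zariskiTopology.over S) F) (hflat : FlatProper F)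
    {X T : Scheme.{u}} (σ : X ⟶ T) (h1 : IsProper σ) (h2 : Surjective σ) (h3 : Flat σ)
    (h4 : LocallyOfFinitePresentation σ) : Sieve.generate (Presieve.singleton σ) ∈ finOver F T := by
  refine mem_finOverZ_of_affine hZ _ fun W _ g => ?_
  let V : Over S := Over.mk (pullback.fst g σ ≫ W.hom)
  let f : V ⟶ W := Over.homMk (pullback.fst g σ)
  have := hflat V W f inferInstance (MorphismProperty.pullback_fst (P := @Surjective) g σ h2)
    (MorphismProperty.pullback_fst (P := @Flat) g σ h3)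
    (MorphismProperty.pullback_fst (P := @IsProper) g σ h1)
    (MorphismProperty.pullback_fst (P := @LocallyOfFinitePresentation) g σ h4)
  rw [← PreZeroHypercover.presieve₀_singleton]
  show Presieve.IsSheafFor F (lift W ((PreZeroHypercover.singleton.{u} σ).sieve₀.pullback g)).arrows
  rw [lift_sieve₀_pullback, Sieve.ofArrows, ← Presieve.isSheafFor_iff_generate]
  exact (Presieve.ofArrows_pUnit.{u} f) ▸ this

theorem appTop_specHom_surjective {R : Type u} [CommRing R] (x : Γ(Spec (CommRingCat.of R), ⊤)) :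
    ∃ r : R, (Scheme.ΓSpecIso (CommRingCat.of R)).inv.hom r = x :=
  ⟨(Scheme.ΓSpecIso (CommRingCat.of R)).hom.hom x, Iso.hom_inv_id_apply (Scheme.ΓSpecIso (CommRingCat.of R)) x⟩

theorem ker_specHom {R D : Type u} [CommRing R] [CommRing D] (ψ : R →+* D) (r : R) :
    (Scheme.ΓSpecIso (CommRingCat.of R)).inv.hom r ∈ (specHom ψ).ker.ideal ⟨⊤, isAffineOpen_top _⟩ ↔ ψ r = 0 := by
  rw [Scheme.ker_of_isAffine, ofIdealTop_top, RingHom.mem_ker]
  have e := congr($(Scheme.ΓSpecIso_inv_naturality (CommRingCat.ofHom ψ)).hom r)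
  rw [CommRingCat.hom_comp, CommRingCat.hom_comp, RingHom.comp_apply, RingHom.comp_apply] at e
  show (Spec.map (CommRingCat.ofHom ψ)).appTop.hom _ = 0 ↔ _
  rw [← e]
  exact map_eq_zero_iff _ (Scheme.ΓSpecIso (CommRingCat.of D)).symm.commRingCatIsoToRingEquiv.injective

theorem ker_specHom_mk {R : Type u} [CommRing R] (I : Ideal R) (s : Set R) (hs : Ideal.span s = I) :
    (specHom (Ideal.Quotient.mk I)).ker.ideal ⟨⊤, isAffineOpen_top _⟩ =
      Ideal.span ((Scheme.ΓSpecIso (CommRingCat.of R)).inv.hom '' s) := by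
  ext x
  obtain ⟨r, rfl⟩ := appTop_specHom_surjective x
  rw [ker_specHom, Ideal.Quotient.eq_zero_iff_mem, ← Ideal.map_span, hs]
  exact (Ideal.apply_mem_of_equiv_iff
    (f := (Scheme.ΓSpecIso (CommRingCat.of R)).symm.commRingCatIsoToRingEquiv)).symm

theorem cutByTwo_mk {R : Type u} [CommRing R] (h a : R) :
    CutByTwo (specHom (Ideal.Quotient.mk (Ideal.span {h, a}))) := by
  refine ⟨(Scheme.ΓSpecIso (CommRingCat.of R)).inv.hom h, (Scheme.ΓSpecIso (CommRingCat.of R)).inv.hom a,
    IdealSheafData.ext_of_isAffine ?_⟩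
  rw [ker_specHom_mk _ _ rfl, ofIdealTop_top, Set.image_pair]

theorem isClosedImmersion_mk {R : Type u} [CommRing R] (I : Ideal R) :
    IsClosedImmersion (specHom (Ideal.Quotient.mk I)) :=
  IsClosedImmersion.spec_of_surjective _ Ideal.Quotient.mk_surjective

/-- The square of `R/(h)` and `R/(h^∞-torsion)`. -/
theorem exists_square_pair {R : Type u} [CommRing R] [IsNoetherianRing R] (h : R) (K : Ideal R)
    (hK : ∀ x, x ∈ K ↔ ∃ n : ℕ, h ^ n * x = 0) :
    IsAlmostBlowUpSquare (pullback.fst (specHom (Ideal.Quotient.mk K)) (specHom (Ideal.Quotient.mk (Ideal.span {h}))))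
      (pullback.snd (specHom (Ideal.Quotient.mk K)) (specHom (Ideal.Quotient.mk (Ideal.span {h}))))
      (specHom (Ideal.Quotient.mk K)) (specHom (Ideal.Quotient.mk (Ideal.span {h}))) := by
  haveI := isClosedImmersion_mk K
  haveI := isClosedImmersion_mk (Ideal.span {h})
  haveI : IsLocallyNoetherian (Spec (CommRingCat.of R)) := inferInstance
  haveI := locallyOfFinitePresentation_of_locallyOfFiniteType (specHom (Ideal.Quotient.mk K))
  haveI := locallyOfFinitePresentation_of_locallyOfFiniteType (specHom (Ideal.Quotient.mk (Ideal.span {h})))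
  let i := specHom (Ideal.Quotient.mk (Ideal.span {h}))
  let b := specHom (Ideal.Quotient.mk K)
  let t := (Scheme.ΓSpecIso (CommRingCat.of R)).inv.hom
  have hi : i.ker.ideal ⟨⊤, isAffineOpen_top _⟩ = Ideal.span {t h} := by
    rw [ker_specHom_mk _ _ rfl, Set.image_singleton]
  have hip : IsLocPrincipal i.ker := fun x => ⟨⟨⊤, isAffineOpen_top _⟩, trivial, t h, hi⟩
  have hsupp : supportedOn i.ker = b.ker := by
    refine IdealSheafData.ext_of_isAffine (Ideal.ext fun x => ?_)
    obtain ⟨r, rfl⟩ := appTop_specHom_surjective x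
    rw [HTopCov.mem_supportedOn_iff _ hip ⟨⊤, isAffineOpen_top _⟩ hi, ker_specHom,
      Ideal.Quotient.eq_zero_iff_mem, hK]
    refine exists_congr fun n => ?_
    show t h ^ n * t r = 0 ↔ _
    rw [← map_pow, ← map_mul]
    exact map_eq_zero_iff _ (Scheme.ΓSpecIso (CommRingCat.of R)).symm.commRingCatIsoToRingEquiv.injective
  have hcart : BlowUp.IsEffCartierIdeal (i.ker.comap b) := by
    let l : (supportedOn i.ker).subscheme ⟶ _ := IsClosedImmersion.lift b (supportedOn i.ker).subschemeι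
      (by rw [IdealSheafData.ker_subschemeι, hsupp])
    let l' : Spec (CommRingCat.of (R ⧸ K)) ⟶ (supportedOn i.ker).subscheme :=
      IsClosedImmersion.lift (supportedOn i.ker).subschemeι b (by rw [IdealSheafData.ker_subschemeι, hsupp])
    have h1 : l ≫ b = (supportedOn i.ker).subschemeι := IsClosedImmersion.lift_fac _ _ _
    have h2 : l' ≫ (supportedOn i.ker).subschemeι = b := IsClosedImmersion.lift_fac _ _ _
    haveI : IsIso l' := ⟨l, by rw [← cancel_mono b, Category.assoc, h1, h2, Category.id_comp],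
      by rw [← cancel_mono (supportedOn i.ker).subschemeι, Category.assoc, h2, h1, Category.id_comp]⟩
    rw [← h2, IdealSheafData.comap_comp]
    exact BlowUpLib.isEffCartier_comap_flat l' (HTopCov.isEffCartier_comap_supportedOn i.ker hip)
  refine ⟨inferInstance, inferInstance, IsPullback.of_hasPullback _ _, HTopCov.isLocPrincipal_comap b _ hip,
    inferInstance, inferInstance, ?_⟩
  haveI : IsIso (supportedOn (i.ker.comap b)).subschemeι := by
    rw [HTopCov.supportedOn_eq_bot hcart]; infer_instance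
  refine BlowUpLib.isBlowUp_iso_comp _ ⟨hcart, fun Y g hg => ?_⟩
  have hle : b.ker ≤ g.ker := hsupp ▸ HTopCov.supportedOn_le_ker g _ hg
  exact ⟨IsClosedImmersion.lift b g hle, IsClosedImmersion.lift_fac _ _ _, fun m hm =>
    (cancel_mono b).1 (hm.trans (IsClosedImmersion.lift_fac _ _ _).symm)⟩

/-- The square of the blow up of two elements. -/
theorem exists_square_triple {R : Type u} [CommRing R] [IsNoetherianRing R] (h a : R) :
    ∃ (T' : Scheme.{u}) (b : T' ⟶ Spec (CommRingCat.of R)),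
      BlowUp.IsBlowUp b (specHom (Ideal.Quotient.mk (Ideal.span {h, a}))).ker ∧
      IsAlmostBlowUpSquare (pullback.fst b (specHom (Ideal.Quotient.mk (Ideal.span {h, a}))))
        (pullback.snd b (specHom (Ideal.Quotient.mk (Ideal.span {h, a})))) b
        (specHom (Ideal.Quotient.mk (Ideal.span {h, a}))) := by
  haveI := isClosedImmersion_mk (Ideal.span {h, a})
  let i := specHom (Ideal.Quotient.mk (Ideal.span {h, a}))
  haveI : IsLocallyNoetherian (Spec (CommRingCat.of R)) := inferInstance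
  haveI := locallyOfFinitePresentation_of_locallyOfFiniteType i
  obtain ⟨T', b, hb⟩ := BlowUpLib.exists_blowUp i.ker
  haveI : IsProper b := BlowUpLib.isProper_of_isBlowUp i.ker hb fun U => by
    haveI : IsNoetherianRing Γ(Spec (CommRingCat.of R), U.1) := IsLocallyNoetherian.component_noetherian U
    exact IsNoetherian.noetherian _
  haveI := locallyOfFinitePresentation_of_locallyOfFiniteType b
  refine ⟨T', b, hb, inferInstance, inferInstance, IsPullback.of_hasPullback _ _,
    HTopCov.isLocPrincipal_of_isEffCartier hb.1, inferInstance, inferInstance, ?_⟩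
  haveI : IsIso (supportedOn (i.ker.comap b)).subschemeι := by
    rw [HTopCov.supportedOn_eq_bot hb.1]; infer_instance
  exact BlowUpLib.isBlowUp_iso_comp _ hb

/-- The ring map of a morphism to an affine scheme. -/
def toRingHom {R : Type u} [CommRing R] {W : Scheme.{u}} (g : W ⟶ Spec (CommRingCat.of R)) : R →+* Γ(W, ⊤) :=
  ((Scheme.ΓSpecIso (CommRingCat.of R)).inv ≫ g.appTop).hom

theorem toRingHom_comp {R : Type u} [CommRing R] {V W : Scheme.{u}} (k : V ⟶ W)
    (g : W ⟶ Spec (CommRingCat.of R)) (r : R) : toRingHom (k ≫ g) r = k.appTop.hom (toRingHom g r) := by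
  show ((Scheme.ΓSpecIso (CommRingCat.of R)).inv ≫ (k ≫ g).appTop).hom r = _
  rw [Scheme.Hom.comp_appTop]
  rfl

/-- A morphism along which `a` is a multiple of `h` factors through the chart. -/
theorem exists_lift_chart {R : Type u} [CommRing R] (h a : R) {W : Scheme.{u}} (g : W ⟶ Spec (CommRingCat.of R))
    (t : Γ(W, ⊤)) (ht : toRingHom g h * t = toRingHom g a) :
    ∃ l, l ≫ specHom (AdjoinRoot.of (C h * X - C a)) = g := by
  have hroot : (C h * X - C a).eval₂ (toRingHom g) t = 0 := by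
    simp only [eval₂_sub, eval₂_mul, eval₂_C, eval₂_X, ht, sub_self]
  refine ⟨W.toSpecΓ ≫ specHom (AdjoinRoot.lift (toRingHom g) t hroot), ?_⟩
  rw [Category.assoc, ← specHom_comp, show (AdjoinRoot.lift (toRingHom g) t hroot).comp (AdjoinRoot.of _) = toRingHom g
    from RingHom.ext fun r => AdjoinRoot.lift_of hroot]
  show W.toSpecΓ ≫ Spec.map ((Scheme.ΓSpecIso (CommRingCat.of R)).inv ≫ g.appTop) = g
  rw [Spec.map_comp, ← Scheme.toSpecΓ_naturality_assoc, toSpecΓ_SpecMap_ΓSpecIso_inv, Category.comp_id]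

theorem isUnit_restrict_basicOpen {U : Scheme.{u}} (u : Γ(U, ⊤)) : IsUnit ((U.basicOpen u).ι.appTop.hom u) := by
  have h1 : (U.basicOpen u : Scheme).basicOpen ((U.basicOpen u).ι.appTop.hom u) = ⊤ := by
    rw [← Scheme.preimage_basicOpen_top, Scheme.Opens.ι_preimage_self]
  refine RingedSpace.isUnit_of_isUnit_germ _ _ _ fun x hx => (Scheme.mem_basicOpen _ _ x hx).1 ?_
  rw [h1]
  exact hx

/-- Near each point of the blow up one of the charts applies. -/
theorem exists_chart_nhd {R : Type u} [CommRing R] (h a : R) {T' : Scheme.{u}} (b : T' ⟶ Spec (CommRingCat.of R))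
    (hb : BlowUp.IsEffCartierIdeal ((specHom (Ideal.Quotient.mk (Ideal.span {h, a}))).ker.comap b)) (x : T') :
    ∃ (W : Scheme.{u}) (k : W ⟶ T'), IsOpenImmersion k ∧ x ∈ Set.range k ∧
      ((∃ l, l ≫ specHom (AdjoinRoot.of (C h * X - C a)) = k ≫ b) ∨
        (∃ l, l ≫ specHom (AdjoinRoot.of (C a * X - C h)) = k ≫ b)) := by
  obtain ⟨U, hxU, f, hf, hI⟩ := hb x
  let φ : R →+* Γ(T', U.1) :=
    ((Scheme.ΓSpecIso (CommRingCat.of R)).inv ≫ b.appLE ⊤ U.1 le_top).hom
  have hspan : Ideal.span {φ h, φ a} = Ideal.span {f} := by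
    rw [← hI, HTopCov.ideal_comap_appLE b _ ⟨⊤, isAffineOpen_top _⟩ U le_top, ker_specHom_mk _ _ rfl,
      Ideal.map_span, Set.image_pair, Set.image_pair]
    rfl
  obtain ⟨u, hu⟩ := Ideal.mem_span_singleton'.1 (hspan ▸ Ideal.subset_span (Set.mem_insert (φ h) _))
  obtain ⟨v, hv⟩ := Ideal.mem_span_singleton'.1
    (hspan ▸ Ideal.subset_span (Set.mem_insert_of_mem (φ h) (Set.mem_singleton (φ a))))
  obtain ⟨α, β, hαβ⟩ := Ideal.mem_span_pair.1 (hspan.symm ▸ Ideal.mem_span_singleton_self f)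
  have h1 : α * u + β * v = 1 := by
    have : (α * u + β * v - 1) * f = 0 := by rw [← hu, ← hv] at hαβ; linear_combination hαβ
    exact sub_eq_zero.1 ((mul_right_mem_nonZeroDivisors_eq_zero_iff hf).1 this)
  let k := U.1.ι
  let ψ : Γ(T', U.1) →+* Γ(U.1, ⊤) := (k.appLE U.1 ⊤ fun z _ => z.2).hom
  have hψ : ∀ r, ψ (φ r) = toRingHom (k ≫ b) r := fun r => by
    show ((b.appLE ⊤ U.1 le_top) ≫ k.appLE U.1 ⊤ _).hom _ = _
    rw [Scheme.Hom.appLE_comp_appLE, toRingHom, Scheme.Hom.appTop, Scheme.Hom.app_eq_appLE]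
    rfl
  let x' : (U.1 : Scheme) := ⟨x, hxU⟩
  have hcase : x' ∈ (U.1 : Scheme).basicOpen (ψ u) ∨ x' ∈ (U.1 : Scheme).basicOpen (ψ v) := by
    rw [Scheme.mem_basicOpen _ _ x' (show x' ∈ (⊤ : (U.1 : Scheme).Opens) from trivial), Scheme.mem_basicOpen _ _ x' (show x' ∈ (⊤ : (U.1 : Scheme).Opens) from trivial)]
    let G : Γ(T', U.1) →+* (U.1 : Scheme).presheaf.stalk x' :=
      ((U.1 : Scheme).presheaf.germ ⊤ x' trivial).hom.comp ψ
    have hadd : IsUnit (G α * G u + G β * G v) := by
      rw [← map_mul, ← map_mul, ← map_add, h1, map_one]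
      exact isUnit_one
    exact (IsLocalRing.isUnit_or_isUnit_of_isUnit_add hadd).imp
      (fun hh => (IsUnit.mul_iff.1 hh).2) (fun hh => (IsUnit.mul_iff.1 hh).2)
  have key : ∀ (p q : R) (y z : Γ(T', U.1)), y * f = φ p → z * f = φ q →
      x' ∈ (U.1 : Scheme).basicOpen (ψ y) →
      ∃ (W : Scheme.{u}) (k : W ⟶ T'), IsOpenImmersion k ∧ x ∈ Set.range k ∧
        ∃ l, l ≫ specHom (AdjoinRoot.of (C p * X - C q)) = k ≫ b := by
    intro p q y z hy hz hx
    let D := (U.1 : Scheme).basicOpen (ψ y)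
    obtain ⟨y', hy'⟩ := (isUnit_restrict_basicOpen (ψ y)).exists_left_inv
    refine ⟨D, D.ι ≫ k, inferInstance, ⟨⟨x', hx⟩, rfl⟩,
      exists_lift_chart p q _ (D.ι.appTop.hom (ψ z) * y') ?_⟩
    rw [Category.assoc, toRingHom_comp, toRingHom_comp _ _ q, ← hψ, ← hψ, ← hy, ← hz]
    simp only [map_mul]
    linear_combination (D.ι.appTop.hom (ψ f) * D.ι.appTop.hom (ψ z)) * hy'
  rcases hcase with hc | hc
  · obtain ⟨W, k, hk, hx, hl⟩ := key h a u v hu hv hc
    exact ⟨W, k, hk, hx, Or.inl hl⟩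
  · obtain ⟨W, k, hk, hx, hl⟩ := key a h v u hv hu hc
    exact ⟨W, k, hk, hx, Or.inr hl⟩

/-- The basic coverings are effective for a sheaf as in the criterion. -/
theorem hasBasicCovers_finOver (hZ : Presieve.IsSheaf (Scheme.zariskiTopology.over S) F) (hflat : FlatProper F)
    (hsq : SquareTwo F) : HasBasicCovers (finOver F) where
  zariski := zariski_le_finOverZ hZ
  monic R _ _ P hP hd := by
    haveI := hP.free_adjoinRoot
    haveI := hP.finite_adjoinRoot
    haveI : Nontrivial R := (subsingleton_or_nontrivial R).resolve_left fun hR => hd (by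
      rw [Subsingleton.elim P 0, natDegree_zero])
    haveI : Nonempty (Fin (AdjoinRoot.powerBasis' hP).dim) := ⟨⟨0, Nat.pos_of_ne_zero hd⟩⟩
    haveI : Nontrivial (AdjoinRoot P) := (AdjoinRoot.powerBasis' hP).basis.repr.toEquiv.nontrivial
    haveI : IsLocallyNoetherian (Spec (CommRingCat.of R)) := inferInstance
    haveI : IsFinite (specHom (AdjoinRoot.of P)) :=
      (IsFinite.SpecMap_iff _).2 (RingHom.finite_algebraMap.2 hP.finite_adjoinRoot)
    refine flat_mem_finOver hZ hflat _ inferInstance ⟨?_⟩ ?_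
      (locallyOfFinitePresentation_of_locallyOfFiniteType _)
    · show Function.Surjective (PrimeSpectrum.comap (algebraMap R (AdjoinRoot P)))
      exact PrimeSpectrum.comap_surjective_of_faithfullyFlat (A := R) (B := AdjoinRoot P)
    · exact (HasRingHomProperty.Spec_iff (P := @Flat)).2
        (RingHom.flat_algebraMap_iff.2 inferInstance)
  pair R _ _ h K hK := by
    refine square_mem_finOver hZ hsq (exists_square_pair h K hK) ?_
    rw [show Ideal.span ({h} : Set R) = Ideal.span {h, h} by rw [Set.pair_eq_singleton]]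
    exact cutByTwo_mk h h
  triple R _ _ h a := by
    obtain ⟨T', b, hb, hs⟩ := exists_square_triple h a
    refine (finOver F).transitive (square_mem_finOver hZ hsq hs (cutByTwo_mk h a)) _ ?_
    rintro Y _ ⟨Z, m, k, (⟨⟨⟩⟩ | ⟨⟨⟩⟩), rfl⟩ <;> rw [Sieve.pullback_comp] <;>
      refine (finOver F).pullback_stable m ?_
    · rw [Sieve.pullback_eq_top_of_mem _ (Sieve.le_generate _ _ _ (Or.inl (Or.inl ⟨⟩)))]
      exact (finOver F).top_mem _
    · choose W k hk hx hl using exists_chart_nhd h a b hb.1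
      haveI := hk
      let C : Scheme.OpenCover.{u} T' := .mkOfCovers T' W k (fun x => ⟨x, hx x⟩) hk
      refine (finOver F).superset_covering ((Sieve.generate_le_iff _ _).mpr <| Presieve.ofArrows_le_iff.mpr
        fun x => ?_) (zariski_le_finOverZ hZ _ C.mem_grothendieckTopology)
      show (Sieve.generate _).arrows (k x ≫ b)
      rcases hl x with ⟨l, hl⟩ | ⟨l, hl⟩
      · exact ⟨_, l, _, Or.inl (Or.inr ⟨⟩), hl⟩
      · exact ⟨_, l, _, Or.inr ⟨⟩, hl⟩

/-- A covering refined by the base change of a family over a Noetherian ring passing the valuative test. -/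
theorem mem_finOver_of_pres {A B : Type u} [CommRing A] [CommRing B] [IsNoetherianRing B] {R : Scheme.{u}}
    (σ : R ⟶ Spec (CommRingCat.of A)) (hB : HasBasicCovers (finOver F)) (ι : B →+* A) {m : ℕ} (n r : Fin m → ℕ)
    (f : ∀ j, Fin (r j) → MvPolynomial (Fin (n j)) A) (g : ∀ j, Fin (r j) → MvPolynomial (Fin (n j)) B)
    (hgf : ∀ j k, MvPolynomial.map ι (g j k) = f j k) (hval : ValPoints (A := B) fun j => Pres (g j))
    (hlift : ∀ j, ∃ l : Spec (CommRingCat.of (Pres (f j))) ⟶ R,
      l ≫ σ = Spec.map (CommRingCat.ofHom (algebraMap A (Pres (f j))))) :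
    Sieve.generate (Presieve.singleton σ) ∈ finOver F (Spec (CommRingCat.of A)) := by
  haveI : ∀ j, Algebra.FiniteType B (Pres (g j)) := fun j => inferInstance
  have hmem := affFam_mem_of_valPoints hB (fun j => Pres (g j)) hval
  refine (finOver F).superset_covering ?_ ((finOver F).pullback_stable (specHom ι) hmem)
  rintro Y y ⟨_, a, _, ⟨j⟩, ha⟩
  obtain ⟨m', hm'⟩ := isPullback_pres ι (f j) (g j) (hgf j)
  obtain ⟨l, hl⟩ := hlift j
  exact ⟨_, hm'.lift a y ha ≫ l, σ, ⟨⟩, by rw [Category.assoc, hl, hm'.lift_snd]⟩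

/-- A proper surjective morphism of finite presentation to an affine scheme is effective. -/
theorem proper_mem_finOver {A : Type u} [CommRing A] {R : Scheme.{u}} (σ : R ⟶ Spec (CommRingCat.of A))
    (hB : HasBasicCovers (finOver F)) [IsProper σ] [Surjective σ] [LocallyOfFinitePresentation σ] :
    Sieve.generate (Presieve.singleton σ) ∈ finOver F (Spec (CommRingCat.of A)) := by
  classical
  haveI : CompactSpace R := QuasiCompact.compactSpace_of_compactSpace σ
  obtain ⟨ιs, hι⟩ := isCompact_univ.elim_finite_subcover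
    (fun U : R.affineOpens => (U.1 : Set R)) (fun U => U.1.isOpen) (fun x _ => by
      obtain ⟨U, hU, hx, -⟩ := exists_isAffineOpen_mem_and_subset (U := (⊤ : R.Opens)) (x := x) trivial
      exact Set.mem_iUnion.2 ⟨⟨U, hU⟩, hx⟩)
  let m := ιs.card
  let U : Fin m → R.affineOpens := fun j => (ιs.equivFin.symm j).1
  have hcov : ∀ x : R, ∃ j, x ∈ (U j).1 := fun x => by
    obtain ⟨V, hV, hx⟩ := Set.mem_iUnion₂.1 (hι (Set.mem_univ x))
    exact ⟨ιs.equivFin ⟨V, hV⟩, by simpa [U] using hx⟩
  let α : ∀ j, CommRingCat.of A ⟶ Γ(R, (U j).1) := fun j => Spec.preimage ((U j).2.fromSpec ≫ σ)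
  have hα : ∀ j, Spec.map (α j) = (U j).2.fromSpec ≫ σ := fun j => Spec.map_preimage _
  letI : ∀ j, Algebra A Γ(R, (U j).1) := fun j => (α j).hom.toAlgebra
  have hpres : ∀ j, ∃ (n r : ℕ) (f : Fin r → MvPolynomial (Fin n) A),
      Nonempty (Pres f ≃ₐ[A] Γ(R, (U j).1)) := fun j => by
    have hfp : Algebra.FinitePresentation A Γ(R, (U j).1) := by
      refine (HasRingHomProperty.Spec_iff (P := @LocallyOfFinitePresentation) (φ := α j)).1 ?_
      rw [hα]
      infer_instance
    obtain ⟨n, I, ε, hI⟩ := Algebra.FinitePresentation.iff.1 hfp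
    obtain ⟨r, f, hf⟩ := Submodule.fg_iff_exists_fin_generating_family.1 hI
    exact ⟨n, r, f, ⟨(Ideal.quotientEquivAlgOfEq A hf).trans ε⟩⟩
  choose n r f hε using hpres
  have ε := fun j => (hε j).some
  obtain ⟨B, hBfg, g, hgf, hval⟩ := exists_fg_subring_valPoints (J := Fin m) n r f fun V _ _ _ hV β => by
    haveI : IsDomain (CommRingCat.of V) := inferInstanceAs (IsDomain V)
    haveI : ValuationRing (CommRingCat.of V) := inferInstanceAs (ValuationRing V)
    have hv : IsVCover (PreZeroHypercover.singleton.{u} σ) := HTopCov.isVCover_of_proper σ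
    obtain ⟨W, hW, hW', φ, ⟨hinj, hloc⟩, ⟨⟩, g', hg'⟩ := HTopCov.hasValLift_of_isVCover
      hv (CommRingCat.of V) (Spec.map (CommRingCat.ofHom β))
    obtain ⟨j, hj⟩ := hcov (g' (closedPoint W))
    have hr : Set.range g' ⊆ Set.range (U j).2.fromSpec := by
      rw [IsAffineOpen.range_fromSpec]
      rintro _ ⟨z, rfl⟩
      exact ((IsLocalRing.specializes_closedPoint z).map g'.continuous).mem_open (U j).1.isOpen hj
    obtain ⟨γ, hγ⟩ := Spec.map_surjective (IsOpenImmersion.lift _ g' hr)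
    haveI := hloc
    have hcomp : γ.hom.comp (algebraMap A Γ(R, (U j).1)) = φ.hom.comp β := by
      have h1 : Spec.map (α j ≫ γ) = Spec.map (CommRingCat.ofHom β ≫ φ) := by
        rw [Spec.map_comp, Spec.map_comp, hγ, hα, IsOpenImmersion.lift_fac_assoc]
        exact hg'
      exact congrArg CommRingCat.Hom.hom (Spec.map_injective h1)
    haveI : Algebra.FiniteType A Γ(R, (U j).1) :=
      Algebra.FiniteType.of_surjective (ε j).toAlgHom (ε j).surjective
    obtain ⟨d, hd⟩ := exists_ringHom_of_ext hV φ.hom hinj β γ.hom hcomp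
    exact ⟨j, d.comp (ε j).toRingEquiv.toRingHom, RingHom.ext fun a => by
      show d (ε j (algebraMap A _ a)) = β a
      rw [(ε j).commutes]
      exact RingHom.congr_fun hd a⟩
  haveI : Algebra.FiniteType ℤ B := (Subalgebra.fg_iff_finiteType B).1 hBfg
  haveI : IsNoetherianRing B := Algebra.FiniteType.isNoetherianRing ℤ B
  refine mem_finOver_of_pres σ hB B.val.toRingHom n r f g hgf hval fun j =>
    ⟨Spec.map (CommRingCat.ofHom (ε j).symm.toRingEquiv.toRingHom) ≫ (U j).2.fromSpec, ?_⟩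
  rw [Category.assoc, ← hα, ← Spec.map_comp]
  exact congrArg Spec.map (CommRingCat.hom_ext (RingHom.ext fun c => (ε j).symm.commutes c))

/-- A Zariski sheaf for which the basic coverings are effective is an h sheaf. -/
theorem isSheaf_Jh_of_basicCovers (hZ : Presieve.IsSheaf (Scheme.zariskiTopology.over S) F)
    (hB : HasBasicCovers (finOver F)) : Presieve.IsSheaf (Jh S) F := by
  refine isSheaf_Jh_of_proper hZ fun U V f _ hp hs hfp => ?_
  let e := U.left.isoSpec
  haveI : IsProper (f.left ≫ e.hom) := inferInstance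
  haveI : Surjective (f.left ≫ e.hom) := inferInstance
  haveI : LocallyOfFinitePresentation (f.left ≫ e.hom) := inferInstance
  have h1 := (finOver F).pullback_stable e.hom (proper_mem_finOver (A := Γ(U.left, ⊤)) (f.left ≫ e.hom) hB)
  have h2 := h1 U (𝟙 _)
  rw [Sieve.pullback_id] at h2
  rw [Presieve.isSheafFor_iff_generate]
  convert h2 using 2
  refine Sieve.ext fun W a => ⟨?_, ?_⟩
  · rintro ⟨_, c, _, ⟨⟩, rfl⟩
    exact ⟨_, c.left, _, ⟨⟩, (Category.assoc _ _ _).symm⟩
  · rintro ⟨_, c, _, ⟨⟩, hc⟩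
    have hc' : c ≫ f.left = a.left := (cancel_mono e.hom).1 ((Category.assoc _ _ _).trans hc)
    exact ⟨V, Over.homMk c (by rw [← Over.w f, ← Category.assoc, hc']; exact Over.w a), f, ⟨⟩,
      Over.OverMorphism.ext hc'⟩

end Groth.Agent.HTop83
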