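import Groth.Agent.HTop83.FrobAlg
import Groth.Agent.HTop83.SquareCrit

/-!
# Presheaves with unique glueing along almost glueing coverings

Over a base of characteristic `p`, the basic coverings of affine schemes over the base have almost glueing of
global sections with exponent a power of `p`.
-/

set_option autoImplicit false
set_option backward.isDefEq.respectTransparency false
set_option backward.isDefEq.respectTransparency.types false

universe w w' u

noncomputable section

namespace Groth.Agent.HTop83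

open CategoryTheory CategoryTheory.Limits AlgebraicGeometry Polynomial Opposite

variable {S : Scheme.{u}} {F : (Over S)ᵒᵖ ⥤ Type w}

/-- A family of arrows along which global sections glue up to nilpotents of exponent `q`. -/
structure AlmostCover (W : Over S) {ι : Type w'} (V : ι → Over S) (f : ∀ k, V k ⟶ W) (q : ℕ) : Prop where
  ker : ∀ b : Γ(W.left, ⊤), (∀ k, (f k).left.appTop.hom b = 0) → b ^ q = 0
  glue : ∀ y : ∀ k, Γ((V k).left, ⊤), (∀ j k (Z : Over S) (g₁ : Z ⟶ V j) (g₂ : Z ⟶ V k),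
      g₁ ≫ f j = g₂ ≫ f k → g₁.left.appTop.hom (y j) = g₂.left.appTop.hom (y k)) →
    ∃ b, ∀ k, (f k).left.appTop.hom b = y k

theorem eq_toSpecΓ {R : Type u} [CommRing R] {W : Scheme.{u}} (g : W ⟶ Spec (CommRingCat.of R)) :
    W.toSpecΓ ≫ specHom (toRingHom g) = g := by
  show W.toSpecΓ ≫ Spec.map ((Scheme.ΓSpecIso (CommRingCat.of R)).inv ≫ g.appTop) = g
  rw [Spec.map_comp, ← Scheme.toSpecΓ_naturality_assoc, toSpecΓ_SpecMap_ΓSpecIso_inv, Category.comp_id]

theorem toRingHom_specHom {R C : Type u} [CommRing R] [CommRing C] {W : Scheme.{u}}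
    (a : W ⟶ Spec (CommRingCat.of C)) (ψ : R →+* C) : toRingHom (a ≫ specHom ψ) = (toRingHom a).comp ψ := by
  refine RingHom.ext fun r => ?_
  rw [toRingHom_comp]
  show a.appTop.hom ((specHom ψ).appTop.hom ((Scheme.ΓSpecIso (CommRingCat.of R)).inv.hom r)) = _
  have e := congr($(Scheme.ΓSpecIso_inv_naturality (CommRingCat.ofHom ψ)).hom r)
  rw [CommRingCat.hom_comp, CommRingCat.hom_comp, RingHom.comp_apply, RingHom.comp_apply] at e
  exact congrArg a.appTop.hom e.symm

theorem toRingHom_isoSpec {W : Scheme.{u}} [IsAffine W] : toRingHom W.isoSpec.hom = RingHom.id Γ(W, ⊤) := by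
  refine RingHom.ext fun r => ?_
  have e : W.isoSpec.hom = W.toSpecΓ := rfl
  rw [e]
  show ((Scheme.ΓSpecIso _).inv ≫ W.toSpecΓ.appTop).hom r = r
  rw [Scheme.toSpecΓ_appTop, Iso.inv_hom_id]
  rfl

section Affine

variable (W : Over S) [IsAffine W.left] {D : Type u} [CommRing D] (σ : Γ(W.left, ⊤) →+* D)

/-- The affine chart of an algebra. -/
def algChart : Over S := Over.mk ((specHom σ ≫ W.left.isoSpec.inv) ≫ W.hom)

/-- The map of the chart. -/
def algChartHom : algChart W σ ⟶ W := Over.homMk (specHom σ ≫ W.left.isoSpec.inv)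

theorem appTop_algChartHom (b : Γ(W.left, ⊤)) :
    (algChartHom W σ).left.appTop.hom b = (Scheme.ΓSpecIso (CommRingCat.of D)).inv.hom (σ b) := by
  have h1 : toRingHom ((algChartHom W σ).left ≫ W.left.isoSpec.hom) =
      (Scheme.ΓSpecIso (CommRingCat.of D)).inv.hom.comp σ := by
    show toRingHom ((specHom σ ≫ W.left.isoSpec.inv) ≫ W.left.isoSpec.hom) = _
    rw [Category.assoc, Iso.inv_hom_id, Category.comp_id, ← Category.id_comp (specHom σ), toRingHom_specHom]
    congr 1
  have h2 := RingHom.congr_fun h1 b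
  rwa [toRingHom_comp, toRingHom_isoSpec] at h2

theorem factors_algChart {Y : Over S} (h : Y ⟶ W) :
    (∃ a : Y ⟶ algChart W σ, a ≫ algChartHom W σ = h) ↔ ∃ d : D →+* Γ(Y.left, ⊤), d.comp σ = h.left.appTop.hom := by
  constructor
  · rintro ⟨a, rfl⟩
    refine ⟨toRingHom (a.left : Y.left ⟶ Spec (CommRingCat.of D)), RingHom.ext fun b => ?_⟩
    rw [Over.comp_left, Scheme.Hom.comp_appTop, CommRingCat.hom_comp, RingHom.comp_apply, RingHom.comp_apply,
      appTop_algChartHom]
    rfl
  · rintro ⟨d, hd⟩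
    have e : (Y.left.toSpecΓ ≫ specHom d) ≫ specHom σ ≫ W.left.isoSpec.inv = h.left := by
      rw [← cancel_mono W.left.isoSpec.hom, Category.assoc, Category.assoc, Category.assoc, Iso.inv_hom_id,
        Category.comp_id, ← specHom_comp, hd]
      refine Eq.trans ?_ (eq_toSpecΓ _)
      congr 2
      exact RingHom.ext fun b => by rw [toRingHom_comp, toRingHom_isoSpec]; rfl
    refine ⟨Over.homMk (Y.left.toSpecΓ ≫ specHom d) ?_, Over.OverMorphism.ext e⟩
    show (Y.left.toSpecΓ ≫ specHom d) ≫ (specHom σ ≫ W.left.isoSpec.inv) ≫ W.hom = Y.hom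
    rw [← Category.assoc, e]
    exact Over.w h

end Affine

variable {R : Type u} [CommRing R]

/-- Base change of a family of algebras to an affine scheme over the base. -/
theorem sieve_eq_algCharts (W : Over S) [IsAffine W.left] (g : W.left ⟶ Spec (CommRingCat.of R)) {ι : Type}
    {C : ι → Type u} [∀ k, CommRing (C k)] (ψ : ∀ k, R →+* C k) {D : ι → Type u} [∀ k, CommRing (D k)]
    (σ : ∀ k, Γ(W.left, ⊤) →+* D k)
    (hbc : ∀ k (X : Type u) [CommRing X] (β : Γ(W.left, ⊤) →+* X),
      (∃ c : C k →+* X, c.comp (ψ k) = β.comp (toRingHom g)) ↔ ∃ d : D k →+* X, d.comp (σ k) = β) :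
    lift W ((Sieve.ofArrows _ fun k => specHom (ψ k)).pullback g) =
      Sieve.ofArrows _ fun k => algChartHom W (σ k) := by
  refine Sieve.ext fun Yo h => ⟨?_, ?_⟩
  · rintro ⟨_, a, _, ⟨k⟩, ha⟩
    have hd : ∃ d : D k →+* Γ(Yo.left, ⊤), d.comp (σ k) = h.left.appTop.hom := by
      refine (hbc k _ _).1 ⟨toRingHom a, ?_⟩
      rw [← toRingHom_specHom, ha]
      exact RingHom.ext fun r => toRingHom_comp _ _ r
    obtain ⟨b, hb⟩ := (factors_algChart W (σ k) h).2 hd
    exact ⟨_, b, _, ⟨k⟩, hb⟩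
  · rintro ⟨_, a, _, ⟨k⟩, ha⟩
    obtain ⟨d, hd⟩ := (factors_algChart W (σ k) h).1 ⟨a, ha⟩
    obtain ⟨c, hc⟩ := (hbc k _ _).2 ⟨d, hd⟩
    refine ⟨_, Yo.left.toSpecΓ ≫ specHom c, _, ⟨k⟩, ?_⟩
    show (_ ≫ specHom c) ≫ specHom (ψ k) = h.left ≫ g
    rw [Category.assoc, ← specHom_comp, hc]
    refine Eq.trans ?_ (eq_toSpecΓ _)
    congr 2

theorem almostCover_algCharts (W : Over S) [IsAffine W.left] {ι : Type} {D : ι → Type u}
    [∀ k, CommRing (D k)] (σ : ∀ k, Γ(W.left, ⊤) →+* D k) {q : ℕ} (h : AlmostGlue σ q) :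
    AlmostCover W (fun k => algChart W (σ k)) (fun k => algChartHom W (σ k)) q := by
  have hbij : ∀ k, Function.Bijective ((Scheme.ΓSpecIso (CommRingCat.of (D k))).inv.hom) := fun k =>
    (Scheme.ΓSpecIso (CommRingCat.of (D k))).symm.commRingCatIsoToRingEquiv.bijective
  refine ⟨fun b hb => h.ker b fun k => (hbij k).1 ?_, fun y hy => ?_⟩
  · rw [← appTop_algChartHom, hb, map_zero]
  choose z hz using fun k => (hbij k).2 (y k)
  obtain ⟨b, hb⟩ := h.glue z fun j k T _ t₁ t₂ ht => by
    let Z : Over S := Over.mk (specHom t₁ ≫ (algChartHom W (σ j)).left ≫ W.hom)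
    have e : specHom t₁ ≫ specHom (σ j) = specHom t₂ ≫ specHom (σ k) := by
      rw [← specHom_comp, ← specHom_comp, ht]
    let g₁ : Z ⟶ algChart W (σ j) := Over.homMk (specHom t₁) (by
      show specHom t₁ ≫ (specHom (σ j) ≫ W.left.isoSpec.inv) ≫ W.hom = specHom t₁ ≫ (algChartHom W (σ j)).left ≫ W.hom
      rfl)
    let g₂ : Z ⟶ algChart W (σ k) := Over.homMk (specHom t₂) (by
      show specHom t₂ ≫ (specHom (σ k) ≫ W.left.isoSpec.inv) ≫ W.hom =
        specHom t₁ ≫ (specHom (σ j) ≫ W.left.isoSpec.inv) ≫ W.hom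
      simp only [← Category.assoc]
      rw [e])
    have h1 := hy j k Z g₁ g₂ (Over.OverMorphism.ext (by
      show specHom t₁ ≫ specHom (σ j) ≫ W.left.isoSpec.inv = specHom t₂ ≫ specHom (σ k) ≫ W.left.isoSpec.inv
      rw [reassoc_of% e]))
    have key : ∀ (l : ι) (t : D l →+* T), (specHom t).appTop.hom (y l) =
        (Scheme.ΓSpecIso (CommRingCat.of T)).inv.hom (t (z l)) := fun l t => by
      rw [← hz l]
      have e := congr($(Scheme.ΓSpecIso_inv_naturality (CommRingCat.ofHom t)).hom (z l))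
      rw [CommRingCat.hom_comp, CommRingCat.hom_comp, RingHom.comp_apply, RingHom.comp_apply] at e
      exact e.symm
    exact (Scheme.ΓSpecIso (CommRingCat.of T)).symm.commRingCatIsoToRingEquiv.injective
      ((key j t₁).symm.trans (h1.trans (key k t₂)))
  exact ⟨b, fun k => (appTop_algChartHom W (σ k) b).trans (by rw [hb, hz])⟩

theorem bc_adjoinRoot {B : Type u} [CommRing B] (P : R[X]) (φ : R →+* B) (P' : B[X]) (hP' : P' = P.map φ)
    (X : Type u) [CommRing X] (β : B →+* X) :
    (∃ c : AdjoinRoot P →+* X, c.comp (AdjoinRoot.of P) = β.comp φ) ↔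
      ∃ d : AdjoinRoot P' →+* X, d.comp (AdjoinRoot.of P') = β := by
  subst hP'
  constructor
  · rintro ⟨c, hc⟩
    have hr : (P.map φ).eval₂ β (c (AdjoinRoot.root P)) = 0 := by
      rw [eval₂_map, ← hc, ← hom_eval₂, AdjoinRoot.eval₂_root, map_zero]
    exact ⟨AdjoinRoot.lift β _ hr, RingHom.ext fun b => AdjoinRoot.lift_of hr⟩
  · rintro ⟨d, hd⟩
    have hr : P.eval₂ (β.comp φ) (d (AdjoinRoot.root (P.map φ))) = 0 := by
      rw [← eval₂_map, ← hd, ← hom_eval₂, AdjoinRoot.eval₂_root, map_zero]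
    exact ⟨AdjoinRoot.lift _ _ hr, RingHom.ext fun b => AdjoinRoot.lift_of hr⟩

theorem bc_quotient {B : Type u} [CommRing B] (I : Ideal R) (φ : R →+* B) (J : Ideal B) (hJ : J = I.map φ)
    (X : Type u) [CommRing X] (β : B →+* X) :
    (∃ c : R ⧸ I →+* X, c.comp (Ideal.Quotient.mk I) = β.comp φ) ↔
      ∃ d : B ⧸ J →+* X, d.comp (Ideal.Quotient.mk J) = β := by
  subst hJ
  constructor
  · rintro ⟨c, hc⟩
    refine ⟨Ideal.Quotient.lift _ β fun b hb => ?_, RingHom.ext fun b => rfl⟩
    have hle : I.map φ ≤ RingHom.ker β := Ideal.map_le_iff_le_comap.2 fun r hr => by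
      show β (φ r) = 0
      rw [← RingHom.comp_apply, ← hc, RingHom.comp_apply, Ideal.Quotient.eq_zero_iff_mem.2 hr, map_zero]
    exact hle hb
  · rintro ⟨d, hd⟩
    refine ⟨Ideal.Quotient.lift _ (β.comp φ) fun r hr => ?_, RingHom.ext fun b => rfl⟩
    rw [← hd, RingHom.comp_apply, RingHom.comp_apply,
      Ideal.Quotient.eq_zero_iff_mem.2 (Ideal.mem_map_of_mem φ hr), map_zero]

theorem natCast_eq_zero_over {p : ℕ} (hS : (p : Γ(S, ⊤)) = 0) (Y : Over S) : (p : Γ(Y.left, ⊤)) = 0 := by
  have h : Y.hom.appTop.hom (p : Γ(S, ⊤)) = (p : Γ(Y.left, ⊤)) := map_natCast Y.hom.appTop.hom p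
  rw [← h, hS]
  exact map_zero _

/-- Unique glueing along the almost glueing coverings of affine schemes over the base makes the basic coverings
effective. -/
theorem hasBasicCovers_of_almostCover {p : ℕ} [hp : Fact p.Prime]
    (hZ : Presieve.IsSheaf (Scheme.zariskiTopology.over S) F)
    (hF : ∀ (W : Over S) [IsAffine W.left] (ι : Type) [Finite ι] (V : ι → Over S) (f : ∀ k, V k ⟶ W) (M : ℕ),
      (∀ k, IsAffine (V k).left) → AlmostCover W V f (p ^ M) → Presieve.IsSheafFor F (Presieve.ofArrows V f)) :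
    HasBasicCovers (finOver F) := by
  have main : ∀ (R : Type u) [CommRing R] (ι : Type) [Finite ι] (C : ι → Type u) [∀ k, CommRing (C k)]
      (ψ : ∀ k, R →+* C k) (P : Presieve (Spec (CommRingCat.of R)))
      (_ : Sieve.generate P = Sieve.ofArrows _ fun k => specHom (ψ k))
      (_ : ∀ (B : Type u) [CommRing B] (φ : R →+* B), ∃ (D : ι → Type u) (_ : ∀ k, CommRing (D k))
        (σ : ∀ k, B →+* D k) (M : ℕ),
        (∀ k (X : Type u) [CommRing X] (β : B →+* X),
          (∃ c : C k →+* X, c.comp (ψ k) = β.comp φ) ↔ ∃ d : D k →+* X, d.comp (σ k) = β) ∧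
        AlmostGlue σ (p ^ M)), Sieve.generate P ∈ finOver F (Spec (CommRingCat.of R)) := by
    intro R _ ι _ C _ ψ P hP hB
    rw [hP]
    refine mem_finOverZ_of_affine hZ _ fun W _ g => ?_
    obtain ⟨D, _, σ, M, hbc, hg⟩ := hB Γ(W.left, ⊤) (toRingHom g)
    rw [sieve_eq_algCharts W g ψ σ hbc, Sieve.ofArrows, ← Presieve.isSheafFor_iff_generate]
    exact hF W _ _ _ M (fun k => inferInstanceAs (IsAffine (Spec (CommRingCat.of (D k))))) (almostCover_algCharts W σ hg)
  refine ⟨zariski_le_finOverZ hZ, fun R _ _ P hP hd => ?_, fun R _ _ h K hK => ?_, fun R _ _ h a => ?_⟩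
  · refine main R Unit (fun _ => AdjoinRoot P) (fun _ => AdjoinRoot.of P) _ ?_ fun B _ φ => ?_
    · refine le_antisymm ((Sieve.generate_le_iff _ _).2 ?_) ((Sieve.generate_le_iff _ _).2 ?_)
      · rintro _ _ ⟨⟩
        exact Sieve.le_generate _ _ _ (Presieve.ofArrows.mk (f := fun _ : Unit => specHom (AdjoinRoot.of P)) ())
      · rintro _ _ ⟨k⟩
        exact Sieve.le_generate _ _ _ ⟨⟩
    refine ⟨fun _ => AdjoinRoot (P.map φ), fun _ => inferInstance, fun _ => AdjoinRoot.of (P.map φ), 0,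
      fun _ X _ β => bc_adjoinRoot P φ _ rfl X β, ?_⟩
    rw [pow_zero]
    refine almostGlue_monic _ (hP.map φ) ?_
    rcases subsingleton_or_nontrivial B with hB | hB
    · exact .inl hB
    · exact .inr (by rw [hP.natDegree_map]; exact hd)
  · refine main R Bool (fun k => R ⧸ (bif k then Ideal.span {h} else K))
      (fun k => Ideal.Quotient.mk _) _ ?_ fun B _ φ => ?_
    · refine le_antisymm ((Sieve.generate_le_iff _ _).2 ?_) ((Sieve.generate_le_iff _ _).2 ?_)
      · rintro _ _ (⟨⟨⟩⟩ | ⟨⟨⟩⟩)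
        · exact Sieve.le_generate _ _ _ (Presieve.ofArrows.mk
            (f := fun k : Bool => specHom (Ideal.Quotient.mk (bif k then Ideal.span {h} else K))) true)
        · exact Sieve.le_generate _ _ _ (Presieve.ofArrows.mk
            (f := fun k : Bool => specHom (Ideal.Quotient.mk (bif k then Ideal.span {h} else K))) false)
      · rintro _ _ ⟨k⟩
        cases k
        · exact Sieve.le_generate _ _ _ (Or.inr ⟨⟩)
        · exact Sieve.le_generate _ _ _ (Or.inl ⟨⟩)
    obtain ⟨N, hN⟩ : ∃ N : ℕ, ∀ x ∈ K, h ^ N * x = 0 := by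
      obtain ⟨s, hs⟩ := IsNoetherian.noetherian K
      have : ∀ x ∈ s, ∃ n : ℕ, h ^ n * x = 0 := fun x hx => (hK x).1 (hs ▸ Ideal.subset_span hx)
      choose! n hn using this
      refine ⟨s.sup n, fun x hx => ?_⟩
      rw [← hs] at hx
      induction hx using Submodule.span_induction with
      | mem x hx =>
        obtain ⟨j, hj⟩ := Nat.exists_eq_add_of_le (Finset.le_sup (f := n) hx)
        rw [hj, pow_add, mul_comm (h ^ n x), mul_assoc, hn x hx, mul_zero]
      | zero => exact mul_zero _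
      | add x y _ _ hx hy => rw [mul_add, hx, hy, add_zero]
      | smul c x _ hx => rw [smul_eq_mul, mul_left_comm, hx, mul_zero]
    refine ⟨fun k => B ⧸ (bif k then Ideal.span {φ h} else K.map φ), fun _ => inferInstance,
      fun k => Ideal.Quotient.mk _, N + 1, fun k X _ β => bc_quotient _ φ _ ?_ X β,
      almostGlue_pair (φ h) (K.map φ) N ?_ _ (Nat.lt_pow_self hp.out.one_lt).le⟩
    · cases k
      · rfl
      · show Ideal.span {φ h} = (Ideal.span {h}).map φ
        rw [Ideal.map_span, Set.image_singleton]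
    · intro x hx
      induction hx using Submodule.span_induction with
      | mem x hx =>
        obtain ⟨y, hy, rfl⟩ := hx
        rw [← map_pow, ← map_mul, hN y hy, map_zero]
      | zero => exact mul_zero _
      | add x y _ _ hx hy => rw [mul_add, hx, hy, add_zero]
      | smul c x _ hx => rw [smul_eq_mul, mul_left_comm, hx, mul_zero]
  · refine main R Three (TripleRing h a) (tripleMap h a) _ ?_ fun B _ φ => ?_
    · refine le_antisymm ((Sieve.generate_le_iff _ _).2 ?_) ((Sieve.generate_le_iff _ _).2 ?_)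
      · rintro _ _ ((⟨⟨⟩⟩ | ⟨⟨⟩⟩) | ⟨⟨⟩⟩)
        · exact Sieve.le_generate _ _ _ (Presieve.ofArrows.mk (f := fun k => specHom (tripleMap h a k)) Three.centre)
        · exact Sieve.le_generate _ _ _ (Presieve.ofArrows.mk (f := fun k => specHom (tripleMap h a k)) Three.left)
        · exact Sieve.le_generate _ _ _ (Presieve.ofArrows.mk (f := fun k => specHom (tripleMap h a k)) Three.right)
      · rintro _ _ ⟨k⟩
        cases k
        · exact Sieve.le_generate _ _ _ (Or.inl (Or.inl ⟨⟩))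
        · exact Sieve.le_generate _ _ _ (Or.inl (Or.inr ⟨⟩))
        · exact Sieve.le_generate _ _ _ (Or.inr ⟨⟩)
    refine ⟨TripleRing (φ h) (φ a), inferInstance, tripleMap (φ h) (φ a), 1, fun k X _ β => ?_,
      almostGlue_triple _ _ _ (by rw [pow_one]; exact hp.out.two_le)⟩
    cases k
    · exact bc_quotient _ φ _ (by rw [Ideal.map_span, Set.image_pair]) X β
    · exact bc_adjoinRoot _ φ _ (by simp [chartPoly]) X β
    · exact bc_adjoinRoot _ φ _ (by simp [chartPoly]) X β

end Groth.Agent.HTop83
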