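import Groth.Agent.HTop83.FrobCover
import Groth.Prelude.Def_W4stkflatFrob
import Mathlib.AlgebraicGeometry.AffineScheme
import Mathlib.Algebra.Polynomial.AlgebraMap

/-!
# Sequences of compatible `p`-th roots of sections form an h sheaf
-/

set_option autoImplicit false
set_option backward.isDefEq.respectTransparency false
set_option backward.isDefEq.respectTransparency.types false

universe w w' u

noncomputable section

namespace Groth.Agent.HTop83

open CategoryTheory CategoryTheory.Limits AlgebraicGeometry Polynomial Opposite HTop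

variable {S : Scheme.{u}}

theorem toRingHom_toSpecΓ (X : Scheme.{u}) : toRingHom X.toSpecΓ = RingHom.id Γ(X, ⊤) := by
  refine RingHom.ext fun r => ?_
  show ((Scheme.ΓSpecIso _).inv ≫ X.toSpecΓ.appTop).hom r = r
  rw [Scheme.toSpecΓ_appTop, Iso.inv_hom_id]
  rfl

/-- The affine line over the integers. -/
abbrev Line : Scheme.{u} := Spec (CommRingCat.of (Polynomial (ULift.{u} ℤ)))

/-- The morphism to the affine line given by a section. -/
def toLine {T : Scheme.{u}} (s : Γ(T, ⊤)) : T ⟶ Line.{u} :=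
  T.toSpecΓ ≫ specHom (eval₂RingHom ((Int.castRingHom _).comp ULift.ringEquiv.toRingHom) s)

/-- The section given by a morphism to the affine line. -/
def ofLine {T : Scheme.{u}} (g : T ⟶ Line.{u}) : Γ(T, ⊤) := toRingHom g X

theorem ofLine_toLine {T : Scheme.{u}} (s : Γ(T, ⊤)) : ofLine (toLine s) = s := by
  rw [ofLine, toLine, toRingHom_specHom, toRingHom_toSpecΓ, RingHom.id_comp, coe_eval₂RingHom, eval₂_X]

theorem toLine_ofLine {T : Scheme.{u}} (g : T ⟶ Line.{u}) : toLine (ofLine g) = g := by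
  refine Eq.trans ?_ (eq_toSpecΓ g)
  rw [toLine]
  congr 2
  refine Polynomial.ringHom_ext (fun n => ?_) (by rw [coe_eval₂RingHom, eval₂_X]; rfl)
  obtain ⟨n⟩ := n
  simp only [coe_eval₂RingHom, eval₂_C]
  show ((n : ℤ) : Γ(T, ⊤)) = _
  rw [← eq_intCast ((toRingHom g).comp (Polynomial.C.comp ULift.ringEquiv.symm.toRingHom)) n]
  rfl

theorem ofLine_comp {U T : Scheme.{u}} (k : U ⟶ T) (g : T ⟶ Line.{u}) :
    ofLine (k ≫ g) = k.appTop.hom (ofLine g) := toRingHom_comp k g X

/-- Sections glue. -/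
theorem existsUnique_section {T : Scheme.{u}} (C : Scheme.OpenCover.{w'} T) (y : ∀ i, Γ(C.X i, ⊤))
    (hy : ∀ i j, (pullback.fst (C.f i) (C.f j)).appTop.hom (y i) =
      (pullback.snd (C.f i) (C.f j)).appTop.hom (y j)) :
    ∃! b : Γ(T, ⊤), ∀ i, (C.f i).appTop.hom b = y i := by
  have hc : ∀ i j, pullback.fst (C.f i) (C.f j) ≫ toLine (y i) = pullback.snd (C.f i) (C.f j) ≫ toLine (y j) :=
    fun i j => by
      rw [← toLine_ofLine (_ ≫ toLine (y i)), ← toLine_ofLine (_ ≫ toLine (y j)), ofLine_comp, ofLine_comp,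
        ofLine_toLine, ofLine_toLine, hy]
  refine ⟨ofLine (C.glueMorphisms _ hc), fun i => ?_, fun b hb => ?_⟩
  · show (C.f i).appTop.hom (ofLine _) = y i
    rw [← ofLine_comp, Scheme.Cover.ι_glueMorphisms, ofLine_toLine]
  · rw [← ofLine_toLine b]
    congr 1
    refine Scheme.Cover.hom_ext C _ _ fun i => ?_
    rw [Scheme.Cover.ι_glueMorphisms, ← toLine_ofLine (C.f i ≫ toLine b), ofLine_comp, ofLine_toLine, hb i]

theorem almostCover_openCover (W : Over S) (C : Scheme.OpenCover.{w'} W.left) :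
    AlmostCover W (fun i => (Over.mk (C.f i ≫ W.hom) : Over S)) (fun i => Over.homMk (C.f i)) 1 := by
  refine ⟨fun b hb => ?_, fun y hy => ?_⟩
  · rw [pow_one]
    refine (existsUnique_section C (fun _ => 0) fun i j => (map_zero _).trans (map_zero _).symm).unique hb
      fun i => map_zero _
  · obtain ⟨b, hb, -⟩ := existsUnique_section C y fun i j => by
      let Z : Over S := Over.mk (pullback.fst (C.f i) (C.f j) ≫ C.f i ≫ W.hom)
      let g₁ : Z ⟶ (Over.mk (C.f i ≫ W.hom) : Over S) := Over.homMk (pullback.fst (C.f i) (C.f j))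
      let g₂ : Z ⟶ (Over.mk (C.f j ≫ W.hom) : Over S) := Over.homMk (pullback.snd (C.f i) (C.f j)) (by
        show pullback.snd _ _ ≫ C.f j ≫ W.hom = pullback.fst _ _ ≫ C.f i ≫ W.hom
        rw [← pullback.condition_assoc])
      exact hy i j Z g₁ g₂ (Over.OverMorphism.ext pullback.condition)
    exact ⟨b, hb⟩

/-- Unique glueing along almost glueing families gives a Zariski sheaf. -/
theorem isSheaf_zariski_of_almostCover {F : (Over S)ᵒᵖ ⥤ Type w}
    (hF : ∀ (W : Over S) (ι : Type u) (V : ι → Over S) (f : ∀ k, V k ⟶ W),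
      AlmostCover W V f 1 → Presieve.IsSheafFor F (Presieve.ofArrows V f)) :
    Presieve.IsSheaf (Scheme.zariskiTopology.over S) F := by
  intro Y R hR
  rw [GrothendieckTopology.mem_over_iff] at hR
  obtain ⟨C₀, hle⟩ := Scheme.mem_grothendieckTopology_iff.mp hR
  let C := C₀.ulift
  have key : ∀ (W : Over S) (C : Scheme.OpenCover.{u} W.left), Presieve.IsSheafFor F (lift W C.sieve₀).arrows :=
    fun W C => by
      have := hF W C.I₀ _ _ (almostCover_openCover W C)
      rw [Presieve.isSheafFor_iff_generate, ← Sieve.ofArrows, ← lift_generate] at this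
      exact this
  have hR' : R = lift Y (Sieve.overEquiv Y R) := ((Sieve.overEquiv Y).symm_apply_apply R).symm
  rw [hR']
  refine Presieve.isSheafFor_subsieve F (S := lift Y C.sieve₀) ?_ fun {W} f => ?_
  · exact (Sieve.overEquiv Y).symm.monotone ((Sieve.generate_le_iff _ _).mpr
      (Presieve.ofArrows_le_iff.mpr fun i => hle _ _ (Presieve.ofArrows.mk _)))
  · rw [lift_pullback, ← HTopCov.sieve₀_pullback₁]
    exact key W (C.pullback₁ f.left)

variable {p : ℕ} [hp : Fact p.Prime]

theorem isSheafFor_frobLim (hS : (p : Γ(S, ⊤)) = 0) (W : Over S) {ι : Type w'} (V : ι → Over S)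
    (f : ∀ k, V k ⟶ W) (M : ℕ) (h : AlmostCover W V f (p ^ M)) :
    Presieve.IsSheafFor (frobLimPresheaf p S) (Presieve.ofArrows V f) := by
  rw [Presieve.isSheafFor_arrows_iff]
  intro x hx
  have hsub : ∀ b b' : Γ(W.left, ⊤), (∀ k, (f k).left.appTop.hom b = (f k).left.appTop.hom b') →
      b ^ p ^ M = b' ^ p ^ M := fun b b' hb => by
    rw [← sub_eq_zero, ← sub_pow_of_prime (natCast_eq_zero_over hS W)]
    exact h.ker _ fun k => by rw [map_sub, hb, sub_self]
  have hroot : ∀ {T : Scheme.{u}} (a : FrobLimSections p T) (n M : ℕ), a.1 (n + M) ^ p ^ M = a.1 n := by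
    intro T a n M
    induction M with
    | zero => rw [pow_zero, pow_one, add_zero]
    | succ M ih => rw [pow_succ', pow_mul, ← add_assoc, a.2, ih]
  choose b hb using fun n => h.glue (fun k => (x k).1 n) fun j k Z g₁ g₂ he =>
    congrArg (fun a : FrobLimSections p Z.left => a.1 n) (hx j k Z g₁ g₂ he)
  refine ⟨⟨fun n => b (n + M) ^ p ^ M, fun n => ?_⟩, fun k => ?_, fun a ha => ?_⟩
  · show (b (n + 1 + M) ^ p ^ M) ^ p = b (n + M) ^ p ^ M
    rw [← pow_mul, mul_comm, pow_mul]
    refine hsub _ _ fun k => ?_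
    rw [map_pow, hb, hb, show n + 1 + M = n + M + 1 by omega]
    exact (x k).2 (n + M)
  · refine FrobLimSections.ext fun n => ?_
    show (f k).left.appTop.hom (b (n + M) ^ p ^ M) = _
    rw [map_pow, hb]
    exact hroot (x k) n M
  · refine FrobLimSections.ext fun n => ?_
    show (a : FrobLimSections p W.left).1 n = _
    rw [← hroot a n M]
    refine hsub _ _ fun k => ?_
    rw [hb]
    exact congrArg (fun c : FrobLimSections p (V k).left => c.1 (n + M)) (ha k)

theorem isSheaf_Jh_frobLim (hS : (p : Γ(S, ⊤)) = 0) : Presieve.IsSheaf (Jh S) (frobLimPresheaf p S) := by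
  have hZ := isSheaf_zariski_of_almostCover (F := frobLimPresheaf p S) fun W ι V f h =>
    isSheafFor_frobLim hS W V f 0 (by rwa [pow_zero])
  exact isSheaf_Jh_of_basicCovers hZ
    (hasBasicCovers_of_almostCover (p := p) hZ fun W _ ι _ V f M _ h => isSheafFor_frobLim hS W V f M h)

end Groth.Agent.HTop83
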