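import Groth.Agent.HTop83.Ph
import Groth.Agent.S7382
import Groth.Agent.HTop83.Noeth
import Mathlib.AlgebraicGeometry.AffineTransitionLimit

/-!
# Local lifts on an integral scheme over the base descend to a finite one
-/

set_option autoImplicit false
set_option backward.isDefEq.respectTransparency false
set_option backward.isDefEq.respectTransparency.types false

universe v u

noncomputable section

namespace Groth.Agent.HTop83

open CategoryTheory CategoryTheory.Limits AlgebraicGeometry TopologicalSpace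

set_option maxHeartbeats 1000000 in
/-- If a family lifts locally along an integral morphism, it does so along a finite one under it. -/
theorem exists_finite_of_integral_lifts {X X' Y : Scheme.{u}} [CompactSpace X'] [QuasiSeparatedSpace X']
    (q : Y ⟶ X') [IsIntegralHom q] (b : X' ⟶ X) (E : PreZeroHypercover.{v} X)
    [∀ i, LocallyOfFinitePresentation (E.f i)] (hl : ∀ y, LiftsAt E (q ≫ b) y) :
    ∃ (P : Scheme.{u}) (p : P ⟶ X') (π : Y ⟶ P), IsFinite p ∧ π ≫ p = q ∧ Surjective π ∧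
      ∀ x, LiftsAt E (p ≫ b) x := by
  classical
  obtain ⟨I, _, hdir, _, D, c, hc, hD, ⟨e⟩⟩ := S7382.result q
  haveI : IsDirectedOrder I := hdir
  haveI : IsConnected Iᵒᵖ := IsCofiltered.isConnected _
  let F := D ⋙ Over.forget X'
  let cF : Cone F := (Over.forget X').mapCone c
  have hcF : IsLimit cF := isLimitOfPreserves (Over.forget X') hc
  haveI hA : ∀ {i j : Iᵒᵖ} (a : i ⟶ j), IsAffineHom (F.map a) := by
    intro i j a
    haveI := (hD i).1
    haveI := (hD j).1
    haveI : IsAffineHom ((D.map a).left ≫ (D.obj j).hom) := by rw [Over.w]; infer_instance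
    exact IsAffineHom.of_comp (D.map a).left (D.obj j).hom
  have hw : ∀ i, cF.π.app i ≫ (D.obj i).hom = c.pt.hom := fun i => Over.w (c.π.app i)
  haveI : IsIso e.inv.left := inferInstanceAs (IsIso ((Over.forget X').map e.inv))
  have hj : e.inv.left ≫ c.pt.hom = q := Over.w e.inv
  let π : ∀ i, Y ⟶ F.obj i := fun i => e.inv.left ≫ cF.π.app i
  have hπ : ∀ i, π i ≫ (D.obj i).hom = q := fun i => by
    show (e.inv.left ≫ cF.π.app i) ≫ _ = q
    rw [Category.assoc, hw, hj]
  have hstep : ∀ y : Y, ∃ (i : Iᵒᵖ) (Ω : (F.obj i).Opens) (j : E.I₀) (g : (Ω : Scheme) ⟶ E.X j),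
      π i y ∈ Ω ∧ g ≫ E.f j = Ω.ι ≫ (D.obj i).hom ≫ b := by
    intro y
    obtain ⟨O, o, j, h, ho, hyo, hc'⟩ := hl y
    haveI := ho
    obtain ⟨W₀, hW₀, hyW₀, hle⟩ := exists_isAffineOpen_mem_and_subset (show y ∈ o.opensRange from hyo)
    let W : cF.pt.Opens := e.hom.left ⁻¹ᵁ W₀
    haveI : IsIso e.hom.left := inferInstanceAs (IsIso ((Over.forget X').map e.hom))
    have hWc : IsCompact (W : Set cF.pt) := by
      have : IsAffineOpen W := hW₀.preimage _
      exact this.isCompact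
    obtain ⟨i₀, Ω, hΩ, hpre⟩ := exists_preimage_eq F cF hcF W hWc
    haveI : ∀ k : Over i₀, CompactSpace ((opensDiagram F i₀ Ω).obj k) := fun k => by
      show CompactSpace (F.map k.hom ⁻¹ᵁ Ω : Scheme.{u})
      exact isCompact_iff_compactSpace.mp (QuasiCompact.isCompact_preimage _ Ω.2 hΩ)
    haveI : ∀ k : Over i₀, QuasiSeparatedSpace ((opensDiagram F i₀ Ω).obj k) := fun k => by
      haveI := (hD k.left).1
      haveI : QuasiSeparatedSpace ↥(F.obj k.left) := quasiSeparatedSpace_of_quasiSeparated (D.obj k.left).hom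
      exact quasiSeparatedSpace_of_quasiSeparated ((F.map k.hom ⁻¹ᵁ Ω).ι)
    have hWr : Set.range (W.ι ≫ e.hom.left) ⊆ Set.range o := by
      rintro _ ⟨z, rfl⟩
      exact hle z.2
    let a₀ : (W : Scheme) ⟶ E.X j := IsOpenImmersion.lift o (W.ι ≫ e.hom.left) hWr ≫ h
    have ha₀ : a₀ ≫ E.f j = W.ι ≫ c.pt.hom ≫ b := by
      show (_ ≫ h) ≫ E.f j = _
      rw [Category.assoc, hc', IsOpenImmersion.lift_fac_assoc, Category.assoc, ← Category.assoc e.hom.left]
      exact congrArg (fun m => W.ι ≫ m ≫ b) (Over.w e.hom)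
    have hpt : (opensCone F cF i₀ Ω).pt = (W : Scheme) := congrArg Scheme.Opens.toScheme hpre
    let t : opensDiagram F i₀ Ω ⟶ (Functor.const (Over i₀)).obj X :=
      { app := fun k => (F.map k.hom ⁻¹ᵁ Ω).ι ≫ (D.obj k.left).hom ≫ b
        naturality := fun k l f => by
          show (F.map f.left).resLE _ _ _ ≫ _ = _
          rw [Scheme.Hom.resLE_comp_ι_assoc]
          exact (congrArg ((F.map k.hom ⁻¹ᵁ Ω).ι ≫ ·) ((reassoc_of% (Over.w (D.map f.left))) b)).trans
            (Category.comp_id _).symm }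
    have hle' : cF.π.app i₀ ⁻¹ᵁ Ω ≤ W := le_of_eq hpre
    let a : (opensCone F cF i₀ Ω).pt ⟶ E.X j := cF.pt.homOfLE hle' ≫ a₀
    obtain ⟨k, g, hg1, hg2⟩ := Scheme.exists_π_app_comp_eq_of_locallyOfFinitePresentation
      (opensDiagram F i₀ Ω) t (E.f j) (opensCone F cF i₀ Ω) (isLimitOpensCone F cF hcF i₀ Ω) a (by
        ext l
        show (cF.π.app l.left).resLE _ _ _ ≫ (F.map l.hom ⁻¹ᵁ Ω).ι ≫ (D.obj l.left).hom ≫ b = a ≫ E.f j
        rw [Scheme.Hom.resLE_comp_ι_assoc]
        show _ = (cF.pt.homOfLE hle' ≫ a₀) ≫ E.f j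
        rw [Category.assoc, ha₀, Scheme.homOfLE_ι_assoc, ← Category.assoc (cF.π.app l.left), hw])
    refine ⟨k.left, F.map k.hom ⁻¹ᵁ Ω, j, g, ?_, hg2⟩
    show F.map k.hom (cF.π.app k.left (e.inv.left y)) ∈ Ω
    rw [← Scheme.Hom.comp_apply, cF.w]
    have : e.inv.left y ∈ W := by
      show e.hom.left (e.inv.left y) ∈ W₀
      rw [← Scheme.Hom.comp_apply, ← Over.comp_left, e.inv_hom_id]
      exact hyW₀
    rw [← hpre] at this
    exact this
  choose i Ω j g hyΩ hg using hstep
  haveI : CompactSpace ↥Y := QuasiCompact.compactSpace_of_compactSpace q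
  obtain ⟨t, ht⟩ := isCompact_univ.elim_finite_subcover (fun y : Y => (π (i y) ⁻¹ᵁ Ω y : Set Y))
    (fun y => (π (i y) ⁻¹ᵁ Ω y).2) (fun y _ => Set.mem_iUnion.2 ⟨y, hyΩ y⟩)
  obtain ⟨k, hk⟩ := IsCofiltered.inf_objs_exists (t.image i)
  haveI := (hD k).1
  haveI : IsFinite (D.obj k).hom := (hD k).1
  haveI : QuasiSeparatedSpace ↥(F.obj k) := quasiSeparatedSpace_of_quasiSeparated (D.obj k).hom
  haveI : QuasiCompact (π k) := by
    haveI : QuasiCompact (π k ≫ (D.obj k).hom) := by rw [hπ]; infer_instance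
    exact QuasiCompact.of_comp (π k) (D.obj k).hom
  let p : (π k).image ⟶ X' := (π k).imageι ≫ (D.obj k).hom
  have hp : (π k).toImage ≫ p = q := by
    show _ ≫ (π k).imageι ≫ _ = q
    rw [Scheme.Hom.toImage_imageι_assoc, hπ]
  haveI hsurj : Surjective (π k).toImage := by
    haveI : IsIntegralHom ((π k).toImage ≫ p) := by rw [hp]; infer_instance
    haveI : IsIntegralHom (π k).toImage := IsIntegralHom.of_comp (π k).toImage p
    exact ⟨Set.range_eq_univ.1 ((π k).toImage.isClosedMap.isClosed_range.closure_eq ▸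
      (π k).toImage.denseRange.closure_range)⟩
  refine ⟨(π k).image, p, (π k).toImage, inferInstance, hp, hsurj, fun x => ?_⟩
  obtain ⟨y, rfl⟩ := hsurj.surj x
  obtain ⟨z, hz, hyz⟩ := Set.mem_iUnion₂.1 (ht (Set.mem_univ y))
  obtain ⟨f⟩ := hk (Finset.mem_image_of_mem i hz)
  let m : (π k).image ⟶ F.obj (i z) := (π k).imageι ≫ F.map f
  refine ⟨pullback m (Ω z).ι, pullback.fst _ _, j z, pullback.snd _ _ ≫ g z, inferInstance, ?_, ?_⟩
  · rw [Scheme.Pullback.range_fst]
    show m ((π k).toImage y) ∈ Set.range (Ω z).ι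
    rw [Scheme.Opens.range_ι, ← Scheme.Hom.comp_apply]
    show ((π k).toImage ≫ (π k).imageι ≫ F.map f) y ∈ Ω z
    rw [Scheme.Hom.toImage_imageι_assoc]
    show ((e.inv.left ≫ cF.π.app k) ≫ F.map f) y ∈ Ω z
    rw [Category.assoc, cF.w]
    exact hyz
  · rw [Category.assoc, hg, ← pullback.condition_assoc]
    show pullback.fst _ _ ≫ ((π k).imageι ≫ F.map f) ≫ (D.obj (i z)).hom ≫ b = _
    simp only [p, Category.assoc]
    exact congrArg (fun m => pullback.fst _ _ ≫ (π k).imageι ≫ m) ((reassoc_of% (Over.w (D.map f))) b)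

end Groth.Agent.HTop83
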