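import Groth.Agent.ExistEasy.ChowNR.Exists
import Groth.Agent.SGA1Q.SigmaFinite
import Groth.Agent.ModPairLib.CoprodAdm

/-!
Chow's lemma in surjective form for separated finite type schemes over an affine base, and the extension of a
proper surjective morphism over a quasi-compact open of a proper scheme to a proper surjective family.
-/

set_option backward.isDefEq.respectTransparency false

universe u

noncomputable section

namespace Groth.Agent.HTop83

open CategoryTheory CategoryTheory.Limits AlgebraicGeometry TopologicalSpace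
open Groth.Agent Groth.Agent.ExistEasy Groth.Agent.PnCoh.Chow

variable {A : Type u} [CommRing A] {W : Scheme.{u}}

/-- Surjective form of Chow's lemma: finitely many proper morphisms to `W`, jointly surjective, each of whose
sources maps monomorphically to a projective space over `A`. -/
theorem exists_chow_family (g : W ⟶ Spec (CommRingCat.of A)) [IsSeparated g] [LocallyOfFiniteType g]
    [CompactSpace W] :
    ∃ (σ : Type) (_ : Finite σ) (Z : σ → Scheme.{u}) (π : ∀ s, Z s ⟶ W) (N : σ → ℕ)
      (p : ∀ s, Z s ⟶ CohB1.ProjSpace (N s) A),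
      (∀ s, IsProper (π s)) ∧ (∀ s, Mono (p s)) ∧ (∀ s, p s ≫ CohB1.ProjSpace.toSpec (N s) A = π s ≫ g) ∧
      ∀ w : W, ∃ s z, π s z = w := by
  classical
  obtain ⟨T, hT⟩ := isCompact_univ.elim_finite_subcover (fun V : W.affineOpens => (V.1 : Set W))
    (fun V => V.1.2) (fun w _ => by
      obtain ⟨V, hV, hw, -⟩ := exists_isAffineOpen_mem_and_subset (show w ∈ (⊤ : W.Opens) from trivial)
      exact Set.mem_iUnion.2 ⟨⟨V, hV⟩, hw⟩)
  let V : Fin T.card → W.Opens := fun i => (T.equivFin.symm i).1.1
  have hVa : ∀ i, IsAffineOpen (V i) := fun i => (T.equivFin.symm i).1.2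
  have hVc : ∀ w : W, ∃ i, w ∈ V i := fun w => by
    obtain ⟨t, ht, hw⟩ := Set.mem_iUnion₂.1 (hT (Set.mem_univ w))
    refine ⟨T.equivFin ⟨t, ht⟩, ?_⟩
    simpa [V] using hw
  have hQS : QuasiSeparatedSpace W := quasiSeparatedSpace_of_quasiSeparated g
  suffices H : ∀ S : Set (Fin T.card), ∃ (Z : Scheme.{u}) (π : Z ⟶ W) (N : ℕ) (p : Z ⟶ CohB1.ProjSpace N A),
      IsProper π ∧ Mono p ∧ p ≫ CohB1.ProjSpace.toSpec N A = π ≫ g ∧
      ∀ w : W, {i | w ∈ V i} = S → ∃ z, π z = w by
    choose Z π N p hπ hp hc hs using H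
    exact ⟨Set (Fin T.card), inferInstance, Z, π, N, p, hπ, hp, hc, fun w => ⟨_, hs _ w rfl⟩⟩
  intro S
  let C : Closeds W := ⟨(⋃ (i : Fin T.card) (_ : i ∉ S), (V i : Set W))ᶜ,
    (isOpen_iUnion fun i => isOpen_iUnion fun _ => (V i).2).isClosed_compl⟩
  let I := Scheme.IdealSheafData.vanishingIdeal C
  let κ := I.subschemeι
  have hr : Set.range κ = C := by
    rw [Scheme.IdealSheafData.range_subschemeι, Scheme.IdealSheafData.coe_support_vanishingIdeal]
  haveI : CompactSpace I.subscheme := QuasiCompact.compactSpace_of_compactSpace κ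
  haveI : QuasiSeparatedSpace I.subscheme := quasiSeparatedSpace_of_quasiSeparated κ
  let e := (Fintype.equivFin S).symm
  let U : Fin (Fintype.card S) → I.subscheme.Opens := fun i => κ ⁻¹ᵁ V (e i).1
  have hU : ∀ i, IsAffineOpen (U i) := fun i => (hVa _).preimage κ
  let W₀ : I.subscheme.Opens := ⨅ i, U i
  have hW₀ : IsCompact (W₀ : Set I.subscheme) := by
    rcases isEmpty_or_nonempty (Fin (Fintype.card S)) with h | h
    · simp only [W₀, iInf_of_empty]
      exact isCompact_univ
    · haveI : IsAffineHom (pullback.diagonal (terminal.from I.subscheme)) := by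
        haveI : IsSeparated (terminal.from I.subscheme) := by
          rw [← terminal.comp_from (κ ≫ g)]
          infer_instance
        infer_instance
      exact (IsAffineOpen.iInf hU).isCompact
  choose k s hs using fun i => exists_gens (κ ≫ g) (hU i)
  let D : ChowNR.Data (κ ≫ g) :=
    { W₀ := W₀.toScheme
      j := W₀.ι
      openImm := inferInstance
      compact := isCompact_iff_compactSpace.1 hW₀
      m := Fintype.card S
      U := U
      hU := hU
      hcov := fun x _ => by
        obtain ⟨i, hi⟩ := hVc (κ x)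
        have hx : κ x ∈ (C : Set W) := by rw [← hr]; exact ⟨x, rfl⟩
        have hiS : i ∈ S := by
          by_contra hn
          exact hx (Set.mem_iUnion₂.2 ⟨i, hn, hi⟩)
        refine Set.mem_iUnion.2 ⟨e.symm ⟨i, hiS⟩, ?_⟩
        show κ x ∈ V (e (e.symm ⟨i, hiS⟩)).1
        rw [Equiv.apply_symm_apply]
        exact hi
      k := k
      s := s
      hgen := hs
      hle := fun i w _ => iInf_le U i w.2 }
  refine ⟨D.X', D.π ≫ κ, D.N, D.p, inferInstance, D.mono_p, ?_, fun w hw => ?_⟩
  · rw [Category.assoc, D.π_f]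
  · have hwC : w ∈ Set.range κ := by
      rw [hr]
      intro h
      obtain ⟨i, hn, hi⟩ := Set.mem_iUnion₂.1 h
      exact hn (hw ▸ hi : i ∈ S)
    obtain ⟨x, rfl⟩ := hwC
    have hx : x ∈ W₀ := by
      show x ∈ ((⨅ i, U i : I.subscheme.Opens) : Set I.subscheme)
      rw [Opens.coe_iInf]
      exact Set.mem_iInter.2 fun i => (Set.ext_iff.1 hw _).2 (e i).2
    refine ⟨D.γ ⟨x, hx⟩, ?_⟩
    show (D.γ ≫ D.π ≫ κ) ⟨x, hx⟩ = κ x
    rw [← Category.assoc, D.γ_π]
    rfl

/-- A proper surjective morphism over a quasi-compact open of a scheme `U` proper over `Spec A` extends to a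
jointly surjective finite family of proper morphisms to `U`. -/
theorem exists_proper_extension {U Y : Scheme.{u}} (f : U ⟶ Spec (CommRingCat.of A)) [IsProper f]
    (ι : Y ⟶ U) [IsOpenImmersion ι] [CompactSpace Y] (g : W ⟶ Y) [IsProper g] [Surjective g] :
    ∃ (σ : Type) (_ : Finite σ) (C : σ → Scheme.{u}) (q : ∀ k, C k ⟶ U),
      (∀ k, IsProper (q k)) ∧ (∀ u : U, ∃ k c, q k c = u) ∧
      ∀ k (c : C k), q k c ∈ Set.range ι → ∃ (O : Scheme.{u}) (o : O ⟶ C k) (h : O ⟶ W),
        IsOpenImmersion o ∧ c ∈ Set.range o ∧ h ≫ g ≫ ι = o ≫ q k := by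
  classical
  haveI : CompactSpace W := QuasiCompact.compactSpace_of_compactSpace g
  haveI : QuasiSeparatedSpace U := quasiSeparatedSpace_of_quasiSeparated f
  haveI : QuasiCompact ι := quasiCompact_of_compactSpace ι
  obtain ⟨σ, hσ, Z, π, N, p, hπ, hmono, hcomp, hsurj⟩ := exists_chow_family (g ≫ ι ≫ f)
  let K : Closeds U := ⟨(Set.range ι)ᶜ, ι.isOpenEmbedding.isOpen_range.isClosed_compl⟩
  let m : ∀ s, Z s ⟶ pullback f (CohB1.ProjSpace.toSpec (N s) A) := fun s =>
    pullback.lift (π s ≫ g ≫ ι) (p s) (by rw [hcomp s]; simp)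
  suffices H : ∀ s, QuasiCompact (m s) ∧ IsImmersion (m s) ∧
      ∀ c : (m s).image, pullback.fst f _ ((m s).imageι c) ∈ Set.range ι → c ∈ Set.range (m s).toImage by
    refine ⟨Option σ, inferInstance, fun k => k.elim (Scheme.IdealSheafData.vanishingIdeal K).subscheme
      (fun s => (m s).image), fun k => match k with
        | none => (Scheme.IdealSheafData.vanishingIdeal K).subschemeι
        | some s => (m s).imageι ≫ pullback.fst f _, ?_, ?_, ?_⟩
    · rintro (_ | s)
      · infer_instance
      · haveI := PnCoh.Chow.isProper_toSpec (N s) A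
        haveI : IsProper (pullback.fst f (CohB1.ProjSpace.toSpec (N s) A)) :=
          MorphismProperty.pullback_fst _ _ inferInstance
        exact MorphismProperty.comp_mem @IsProper _ _ inferInstance this
    · intro u
      by_cases hu : u ∈ Set.range ι
      · obtain ⟨y, rfl⟩ := hu
        obtain ⟨w, rfl⟩ := g.surjective y
        obtain ⟨s, z, rfl⟩ := hsurj w
        refine ⟨some s, (m s).toImage z, ?_⟩
        show ((m s).toImage ≫ (m s).imageι ≫ pullback.fst f _) z = (π s ≫ g ≫ ι) z
        rw [Scheme.Hom.toImage_imageι_assoc, pullback.lift_fst]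
      · have : u ∈ Set.range (Scheme.IdealSheafData.vanishingIdeal K).subschemeι := by
          rw [Scheme.IdealSheafData.range_subschemeι, Scheme.IdealSheafData.coe_support_vanishingIdeal]
          exact hu
        exact ⟨none, this⟩
    · rintro (_ | s) c hc
      · exfalso
        have h1 : (Scheme.IdealSheafData.vanishingIdeal K).subschemeι c ∈ (K : Set U) := by
          rw [← Scheme.IdealSheafData.coe_support_vanishingIdeal K, ← Scheme.IdealSheafData.range_subschemeι]
          exact ⟨c, rfl⟩
        exact h1 hc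
      · haveI := (H s).1
        haveI := (H s).2.1
        refine ⟨Z s, (m s).toImage, π s, inferInstance, (H s).2.2 c hc, ?_⟩
        show _ = (m s).toImage ≫ (m s).imageι ≫ pullback.fst f _
        rw [Scheme.Hom.toImage_imageι_assoc, pullback.lift_fst]
  intro s
  let P := CohB1.ProjSpace.toSpec (N s) A
  haveI := PnCoh.Chow.isProper_toSpec (N s) A
  haveI : IsProper P := PnCoh.Chow.isProper_toSpec (N s) A
  let b : pullback (ι ≫ f) P ⟶ pullback f P := pullback.map _ _ _ _ ι (𝟙 _) (𝟙 _) (by simp) (by simp)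
  have sq : IsPullback b (pullback.fst (ι ≫ f) P) (pullback.fst f P) ι := by
    refine IsPullback.of_right ?_ (pullback.lift_fst _ _ _) (IsPullback.of_hasPullback f P).flip
    simpa [b] using (IsPullback.of_hasPullback (ι ≫ f) P).flip
  haveI hb : IsOpenImmersion b := MorphismProperty.of_isPullback sq.flip inferInstance
  haveI : QuasiCompact b := MorphismProperty.of_isPullback sq.flip ‹QuasiCompact ι›
  let m' : Z s ⟶ pullback (ι ≫ f) P := pullback.lift (π s ≫ g) (p s) (by rw [hcomp s]; simp)
  have hm : m' ≫ b = m s := by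
    refine pullback.hom_ext ?_ ?_ <;> simp [m', m, b, P]
  haveI : IsProper (pullback.fst (ι ≫ f) P) := MorphismProperty.pullback_fst _ _ inferInstance
  haveI := hπ s
  haveI : IsProper (m' ≫ pullback.fst (ι ≫ f) P) := by
    rw [pullback.lift_fst]
    exact MorphismProperty.comp_mem @IsProper _ _ (hπ s) inferInstance
  haveI : IsProper m' := IsProper.of_comp m' (pullback.fst (ι ≫ f) P)
  haveI := hmono s
  haveI : Mono (m' ≫ pullback.snd (ι ≫ f) P) := by
    rw [pullback.lift_snd]
    exact hmono s
  haveI : Mono m' := mono_of_mono m' (pullback.snd (ι ≫ f) P)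
  haveI : IsClosedImmersion m' := (IsClosedImmersion.iff_isProper_and_mono _).2 ⟨inferInstance, inferInstance⟩
  have hqc : QuasiCompact (m s) := hm ▸ inferInstance
  have himm : IsImmersion (m s) := hm ▸ inferInstance
  refine ⟨hqc, himm, fun c hc => ?_⟩
  obtain ⟨y, hy⟩ := hc
  obtain ⟨x, hx, -⟩ := Scheme.exists_preimage_of_isPullback sq ((m s).imageι c) y hy.symm
  have hcl : (m s).imageι c ∈ closure (Set.range (m s)) := by
    have : (m s).imageι c ∈ Set.range (m s).ker.subschemeι := ⟨c, rfl⟩
    rwa [Scheme.IdealSheafData.range_subschemeι, Scheme.Hom.support_ker] at this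
  have hxm : x ∈ closure (Set.range m') := by
    rw [← hx, ← hm] at hcl
    rw [b.isOpenEmbedding.isInducing.closure_eq_preimage_closure_image, Set.mem_preimage, ← Set.range_comp]
    exact hcl
  rw [m'.isClosedEmbedding.isClosed_range.closure_eq] at hxm
  obtain ⟨z, rfl⟩ := hxm
  refine ⟨z, (m s).imageι.isClosedEmbedding.injective ?_⟩
  show ((m s).toImage ≫ (m s).imageι) z = _
  rw [Scheme.Hom.toImage_imageι, ← hx, ← hm]
  rfl

/-- A morphism out of a finite coproduct of proper morphisms to a common target is proper. -/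
theorem isProper_sigmaDesc {X : Scheme.{u}} {σ : Type u} [Finite σ] {Y : σ → Scheme.{u}} (f : ∀ i, Y i ⟶ X)
    [∀ i, IsProper (f i)] : IsProper (Sigma.desc f) := by
  haveI := ModPairLib.isProper_sigmaMap f
  haveI : IsFinite (Sigma.desc fun _ : σ => 𝟙 X) := SGA1Q.isFinite_sigmaDesc _ fun _ => inferInstance
  have : Sigma.desc f = Limits.Sigma.map f ≫ Sigma.desc fun _ : σ => 𝟙 X := Sigma.hom_ext _ _ fun i => by simp
  rw [this]
  infer_instance

end Groth.Agent.HTop83
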