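import Groth.Agent.S8977
import Groth.Agent.HTop83.PhV
import Groth.Agent.HTop83.PhChow
import Groth.Agent.LocImm10.QFFinite
import Mathlib.AlgebraicGeometry.AlgClosed.Basic
import Mathlib.AlgebraicGeometry.Morphisms.QuasiFinite
import Mathlib.FieldTheory.IsAlgClosed.AlgebraicClosure

/-!
# Finite refinements of qfh coverings

Over the closure of a generic point `η` of a Noetherian scheme, the points of a quasi-finite family with
values in an algebraic closure of the residue field of `η` give, inside finite compactifications of the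
members, a finite cover on which the family lifts locally: a valuation ring of that field lifts to some
member after an extension, and the generic point of the extension is one of these points.
-/

set_option autoImplicit false
set_option backward.isDefEq.respectTransparency false
set_option backward.isDefEq.respectTransparency.types false

universe v u

noncomputable section

namespace Groth.Agent.HTop83

open CategoryTheory CategoryTheory.Limits AlgebraicGeometry TopologicalSpace HTop IsLocalRing

/-- A point of a quasi-finite morphism with values in an extension of an algebraically closed field is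
defined over that field. -/
theorem exists_point_of_ext {X Y : Scheme.{u}} (f : X ⟶ Y) [LocallyOfFiniteType f] [QuasiCompact f]
    [LocallyQuasiFinite f] {L L' : Type u} [Field L] [IsAlgClosed L] [Field L'] (j : L →+* L')
    (g : Spec (CommRingCat.of L) ⟶ Y) (t : Spec (CommRingCat.of L') ⟶ X)
    (ht : t ≫ f = Spec.map (CommRingCat.ofHom j) ≫ g) :
    ∃ s : Spec (CommRingCat.of L) ⟶ X, s ≫ f = g ∧ Spec.map (CommRingCat.ofHom j) ≫ s = t := by
  let P := pullback f g
  let q : P ⟶ Spec (CommRingCat.of L) := pullback.snd f g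
  let t' : Spec (CommRingCat.of L') ⟶ P := pullback.lift t (Spec.map (CommRingCat.ofHom j)) ht
  haveI : LocallyOfFiniteType q := MorphismProperty.pullback_snd _ _ inferInstance
  haveI : IsFinite q := .of_locallyQuasiFinite q
  have hfin : (Set.univ : Set P).Finite := by
    have e : (Set.univ : Set P) = q ⁻¹' {closedPoint L} := by
      ext z
      simp [Subsingleton.elim (q z) (closedPoint L)]
    rw [e]
    exact q.finite_preimage_singleton _
  let p := t' (closedPoint L')
  have hp : IsClosed ({p} : Set P) := by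
    have hd : _root_.IsDiscrete (q ⁻¹' {closedPoint L}) := q.isDiscrete_preimage_singleton _
    have hu : q ⁻¹' {closedPoint L} = (Set.univ : Set P) :=
      Set.eq_univ_of_forall fun z => Subsingleton.elim (q z) (closedPoint L)
    rw [hu, isDiscrete_univ_iff] at hd
    exact isClosed_discrete _
  obtain ⟨⟨x, φ⟩, hxφ⟩ := (Scheme.SpecToEquivOfField L' P).symm.surjective t'
  have hxφ' : Spec.map φ ≫ P.fromSpecResidueField x = t' := hxφ
  have hx : IsClosed ({x} : Set P) := by
    have : p = x := by
      show t' (closedPoint L') = x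
      rw [← hxφ', Scheme.Hom.comp_apply, Scheme.fromSpecResidueField_apply]
    exact this ▸ hp
  let s : Spec (CommRingCat.of L) ⟶ P := pointOfClosedPoint q x hx
  have hj : (residueFieldIsoBase q x hx).inv ≫ φ = CommRingCat.ofHom j := by
    apply Spec.map_injective
    rw [Spec.map_comp, SpecMap_residueFieldIsoBase_inv, ← Category.assoc, hxφ']
    exact pullback.lift_snd _ _ _
  refine ⟨s ≫ pullback.fst f g, ?_, ?_⟩
  · rw [Category.assoc, pullback.condition, ← Category.assoc, pointOfClosedPoint_comp, Category.id_comp]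
  · rw [← Category.assoc]
    have : Spec.map (CommRingCat.ofHom j) ≫ s = t' := by
      show Spec.map (CommRingCat.ofHom j) ≫ Spec.map (residueFieldIsoBase q x hx).hom ≫ P.fromSpecResidueField x = t'
      rw [← Category.assoc, ← Spec.map_comp, ← hj, Iso.hom_inv_id_assoc, hxφ']
    rw [this]
    exact pullback.lift_fst _ _ _

/-- There are only finitely many points of a quasi-finite morphism with values in an algebraically
closed field over a given point. -/
theorem finite_points {X Y : Scheme.{u}} (f : X ⟶ Y) [LocallyOfFiniteType f] [QuasiCompact f]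
    [LocallyQuasiFinite f] {L : Type u} [Field L] [IsAlgClosed L] (g : Spec (CommRingCat.of L) ⟶ Y) :
    Finite {s : Spec (CommRingCat.of L) ⟶ X // s ≫ f = g} := by
  let q : pullback f g ⟶ Spec (CommRingCat.of L) := pullback.snd f g
  haveI : LocallyOfFiniteType q := MorphismProperty.pullback_snd _ _ inferInstance
  haveI : IsFinite q := .of_locallyQuasiFinite q
  have e : (Set.univ : Set ↥(pullback f g)) = q ⁻¹' {closedPoint L} :=
    (Set.eq_univ_of_forall fun z => Subsingleton.elim (q z) (closedPoint L)).symm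
  haveI : Finite ↥(pullback f g) := Set.finite_univ_iff.1 (e ▸ q.finite_preimage_singleton _)
  let l : {s : Spec (CommRingCat.of L) ⟶ X // s ≫ f = g} → (Spec (CommRingCat.of L) ⟶ pullback f g) :=
    fun s => pullback.lift s.1 (𝟙 _) (s.2.trans (Category.id_comp g).symm)
  refine Finite.of_injective (fun s => l s (closedPoint L)) fun a b h => Subtype.ext ?_
  have := ext_of_apply_closedPoint_eq (X := pullback f g) q (f := l a) (g := l b)
    (pullback.lift_snd _ _ _) (pullback.lift_snd _ _ _) h
  simpa [l] using congrArg (· ≫ pullback.fst f g) this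

/-- Finitely many finite schemes with a common point are dominated by one integral finite scheme. -/
theorem exists_finite_common {Y : Scheme.{u}} [QuasiSeparatedSpace Y] {L : Type u} [Field L]
    (g : Spec (CommRingCat.of L) ⟶ Y) (n : ℕ) (W : Fin n → Scheme.{u}) (π : ∀ k, W k ⟶ Y)
    (hπ : ∀ k, IsFinite (π k)) (s : ∀ k, Spec (CommRingCat.of L) ⟶ W k) (hs : ∀ k, s k ≫ π k = g) :
    ∃ (P : Scheme.{u}) (p : P ⟶ Y) (ξ : Spec (CommRingCat.of L) ⟶ P),
      IsFinite p ∧ ξ ≫ p = g ∧ (∀ x, ξ (closedPoint L) ⤳ x) ∧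
      ∀ k, ∃ pr : P ⟶ W k, pr ≫ π k = p ∧ ξ ≫ pr = s k := by
  suffices h : ∃ (P : Scheme.{u}) (p : P ⟶ Y) (ξ : Spec (CommRingCat.of L) ⟶ P),
      IsFinite p ∧ ξ ≫ p = g ∧ ∀ k, ∃ pr : P ⟶ W k, pr ≫ π k = p ∧ ξ ≫ pr = s k by
    obtain ⟨P, p, ξ, hp, hξ, hpr⟩ := h
    haveI := hp
    haveI : QuasiSeparatedSpace ↥P := quasiSeparatedSpace_of_quasiSeparated p
    haveI : QuasiCompact ξ := quasiCompact_of_compactSpace ξ
    refine ⟨ξ.image, ξ.imageι ≫ p, ξ.toImage, inferInstance,
      by rw [Scheme.Hom.toImage_imageι_assoc, hξ], image_specializes ξ, fun k => ?_⟩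
    obtain ⟨pr, h1, h2⟩ := hpr k
    exact ⟨ξ.imageι ≫ pr, by rw [Category.assoc, h1], by rw [Scheme.Hom.toImage_imageι_assoc, h2]⟩
  induction n with
  | zero => exact ⟨Y, 𝟙 Y, g, inferInstance, Category.comp_id g, fun k => k.elim0⟩
  | succ n ih =>
    obtain ⟨P, p, ξ, hp, hξ, hpr⟩ := ih (fun k => W k.castSucc) (fun k => π k.castSucc)
      (fun k => hπ _) (fun k => s k.castSucc) (fun k => hs _)
    haveI := hp
    haveI := hπ (Fin.last n)
    refine ⟨pullback p (π (Fin.last n)), pullback.fst _ _ ≫ p,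
      pullback.lift ξ (s (Fin.last n)) (hξ.trans (hs _).symm), ?_,
      by rw [pullback.lift_fst_assoc, hξ], fun k => ?_⟩
    · haveI : IsFinite (pullback.fst p (π (Fin.last n))) := MorphismProperty.pullback_fst _ _ (hπ _)
      infer_instance
    · refine Fin.lastCases ?_ (fun k => ?_) k
      · exact ⟨pullback.snd _ _, pullback.condition.symm, pullback.lift_snd _ _ _⟩
      · obtain ⟨pr, h1, h2⟩ := hpr k
        exact ⟨pullback.fst _ _ ≫ pr, by rw [Category.assoc, h1], by rw [pullback.lift_fst_assoc, h2]⟩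

/-- Over the closure of a point, a quasi-finite V covering is refined by a finite morphism. -/
theorem exists_finite_liftsAt {Y : Scheme.{u}} [CompactSpace Y] [QuasiSeparatedSpace Y]
    (E : PreZeroHypercover.{v} Y) [Finite E.I₀] [∀ j, LocallyOfFiniteType (E.f j)]
    [∀ j, QuasiCompact (E.f j)] [∀ j, LocallyQuasiFinite (E.f j)] [∀ j, IsSeparated (E.f j)]
    (hE : HasValLift E) (η : Y) :
    ∃ (P : Scheme.{u}) (p : P ⟶ Y), IsFinite p ∧ η ∈ Set.range p ∧ ∀ x, LiftsAt E p x := by
  classical
  let L : Type u := AlgebraicClosure (Y.residueField η)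
  let g : Spec (CommRingCat.of L) ⟶ Y :=
    Spec.map (CommRingCat.ofHom (algebraMap (Y.residueField η) L)) ≫ Y.fromSpecResidueField η
  choose W i π hi hπ hiπ using fun j => LocImm10.exists_finite_factor (E.f j)
  let I := Σ j, {s : Spec (CommRingCat.of L) ⟶ E.X j // s ≫ E.f j = g}
  haveI : ∀ j, Finite {s : Spec (CommRingCat.of L) ⟶ E.X j // s ≫ E.f j = g} := fun j => finite_points (E.f j) g
  haveI : Finite I := inferInstanceAs (Finite (Σ j, _))
  obtain ⟨n, ⟨e⟩⟩ := Finite.exists_equiv_fin I
  obtain ⟨P, p, ξ, hp, hξ, hgen, hpr⟩ := exists_finite_common g n (fun k => W (e.symm k).1)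
    (fun k => π (e.symm k).1) (fun k => hπ _) (fun k => (e.symm k).2.1 ≫ i (e.symm k).1)
    (fun k => by rw [Category.assoc, hiπ]; exact (e.symm k).2.2)
  refine ⟨P, p, hp, ⟨ξ (closedPoint L), ?_⟩, fun x => ?_⟩
  · rw [← Scheme.Hom.comp_apply, hξ]
    exact Scheme.fromSpecResidueField_apply η _
  obtain ⟨V, l, hl, hlx⟩ := exists_valuationSubring_point ξ x (hgen x)
  obtain ⟨A, hA, hA', φ, ⟨hinj, hloc⟩, j, g', hg'⟩ := hE (CommRingCat.of V) (l ≫ p)
  let L' : Type u := FractionRing A
  let ρ : V →+* L' := (algebraMap A L').comp φ.hom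
  have hρ : Function.Injective ρ := (IsFractionRing.injective A L').comp hinj
  let jL : L →+* L' := IsLocalization.lift (M := nonZeroDivisors V) (S := L) (g := ρ) fun v =>
    IsUnit.mk0 _ fun h0 => nonZeroDivisors.ne_zero v.2 (hρ (h0.trans (map_zero ρ).symm))
  have hjL : jL.comp V.subtype = ρ := IsLocalization.lift_comp _
  let t : Spec (CommRingCat.of L') ⟶ E.X j := Spec.map (CommRingCat.ofHom (algebraMap A L')) ≫ g'
  have key : Spec.map (CommRingCat.ofHom (algebraMap A L')) ≫ Spec.map φ =
      Spec.map (CommRingCat.ofHom jL) ≫ Spec.map (CommRingCat.ofHom V.subtype) := by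
    rw [← Spec.map_comp, ← Spec.map_comp]
    exact congrArg Spec.map (CommRingCat.hom_ext hjL.symm)
  have ht : t ≫ E.f j = Spec.map (CommRingCat.ofHom jL) ≫ g := by
    show (_ ≫ g') ≫ E.f j = _
    rw [Category.assoc, hg', ← Category.assoc, key, Category.assoc, ← Category.assoc (Spec.map _) l p, hl, hξ]
  obtain ⟨s, hs, hst⟩ := exists_point_of_ext (E.f j) jL g t ht
  obtain ⟨k, hk⟩ : ∃ k, e.symm k = ⟨j, s, hs⟩ := e.symm.surjective _
  obtain ⟨pr, hpr1, hpr2⟩ : ∃ pr : P ⟶ W j, pr ≫ π j = p ∧ ξ ≫ pr = s ≫ i j := by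
    have := hpr k
    rw [hk] at this
    exact this
  haveI := hπ j
  haveI : IsSeparated (π j) := inferInstance
  haveI : IsDominant (Spec.map (CommRingCat.ofHom (algebraMap A L'))) :=
    ⟨(PrimeSpectrum.denseRange_comap_iff_ker_le_nilRadical _).2 (by
      show RingHom.ker (algebraMap A L') ≤ _
      rw [(RingHom.injective_iff_ker_eq_bot _).1 (IsFractionRing.injective A L')]
      exact bot_le)⟩
  have hcomp : Spec.map φ ≫ l ≫ pr = g' ≫ i j := by
    refine ext_of_isDominant_of_isSeparated (π j) ?_ (Spec.map (CommRingCat.ofHom (algebraMap A L'))) ?_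
    · simp only [Category.assoc, hpr1, hiπ, hg']
    · rw [← Category.assoc (Spec.map _) (Spec.map φ), key, Category.assoc, ← Category.assoc (Spec.map _) l pr,
        hl, hpr2, ← Category.assoc (Spec.map (CommRingCat.ofHom jL)), hst]
      exact Category.assoc _ _ _
  haveI := hi j
  haveI := hloc
  refine ⟨pullback pr (i j), pullback.fst pr (i j), j, pullback.snd pr (i j), inferInstance, ?_, ?_⟩
  · rw [Scheme.Pullback.range_fst]
    refine ⟨g' (closedPoint A), ?_⟩
    rw [← Scheme.Hom.comp_apply, ← hcomp, Scheme.Hom.comp_apply, Scheme.Hom.comp_apply]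
    have : Spec.map φ (closedPoint A) = closedPoint (CommRingCat.of V) := comap_closedPoint φ.hom
    rw [this]
    exact congrArg pr hlx
  · rw [← hiπ j, ← Category.assoc, ← pullback.condition, Category.assoc, hpr1]

/-- A qfh covering of a Noetherian scheme is refined by a finite surjective morphism. -/
theorem exists_finite_surjective_liftsAt {Y : Scheme.{u}} [IsNoetherian Y] (E : PreZeroHypercover.{v} Y)
    [Finite E.I₀] [∀ j, LocallyOfFiniteType (E.f j)] [∀ j, QuasiCompact (E.f j)]
    [∀ j, LocallyQuasiFinite (E.f j)] [∀ j, IsSeparated (E.f j)] (hE : HasValLift E) :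
    ∃ (P : Scheme.{u}) (p : P ⟶ Y), IsFinite p ∧ Surjective p ∧ ∀ x, LiftsAt E p x := by
  classical
  haveI : Finite (irreducibleComponents ↥Y) :=
    TopologicalSpace.NoetherianSpace.finite_irreducibleComponents.to_subtype
  choose P p hp hη hl using fun C : irreducibleComponents ↥Y =>
    exists_finite_liftsAt E hE C.2.1.genericPoint
  haveI : IsFinite (Sigma.desc p) := SGA1Q.isFinite_sigmaDesc p hp
  refine ⟨_, Sigma.desc p, inferInstance, ⟨fun y => ?_⟩, fun z => ?_⟩
  · obtain ⟨C, hC, hyC⟩ : ∃ C ∈ irreducibleComponents ↥Y, y ∈ C :=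
      ⟨irreducibleComponent y, irreducibleComponent_mem_irreducibleComponents y, mem_irreducibleComponent⟩
    have hg : closure {IsIrreducible.genericPoint (S := C) hC.1} = C :=
      (IsIrreducible.isGenericPoint_genericPoint hC.1 (isClosed_of_mem_irreducibleComponents C hC))
    haveI := hp ⟨C, hC⟩
    have hc := (p ⟨C, hC⟩).isClosedMap.isClosed_range
    obtain ⟨x, hx⟩ : y ∈ Set.range (p ⟨C, hC⟩) :=
      closure_minimal (Set.singleton_subset_iff.2 (hη ⟨C, hC⟩)) hc (hg.symm ▸ hyC)
    exact ⟨Sigma.ι P ⟨C, hC⟩ x, by rw [← Scheme.Hom.comp_apply, Sigma.ι_desc]; exact hx⟩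
  · obtain ⟨C, x, rfl⟩ := (sigmaOpenCover P).exists_eq z
    obtain ⟨O, o, i, h, ho, hxo, hc⟩ := hl C x
    refine ⟨O, o ≫ Sigma.ι P C, i, h, inferInstance, ?_, by rw [hc, Category.assoc, Sigma.ι_desc]⟩
    obtain ⟨w, hw⟩ := hxo
    exact ⟨w, by rw [Scheme.Hom.comp_apply, hw]; rfl⟩

/-- Local lifts over a compact scheme give a finite open cover by opens lifting into the family. -/
theorem exists_opens_of_liftsAt {T : Scheme.{u}} (E : PreZeroHypercover.{v} T) {R : Scheme.{u}}
    (r : R ⟶ T) [CompactSpace R] (h : ∀ x, LiftsAt E r x) :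
    ∃ (n : ℕ) (V : Fin n → R.Opens), ⨆ i, V i = ⊤ ∧
      ∀ i, ∃ (j : E.I₀) (h : (↑(V i) : Scheme.{u}) ⟶ E.X j), h ≫ E.f j = (V i).ι ≫ r := by
  classical
  choose O o j l ho hxo hl using h
  obtain ⟨t, ht⟩ := isCompact_univ.elim_finite_subcover (fun x : R => Set.range (o x))
    (fun x => (o x).isOpenEmbedding.isOpen_range) (fun x _ => Set.mem_iUnion.2 ⟨x, hxo x⟩)
  refine ⟨t.card, fun k => (o (t.equivFin.symm k).1).opensRange, eq_top_iff.2 fun x _ => ?_, fun k => ?_⟩
  · obtain ⟨y, hy, hz⟩ := Set.mem_iUnion₂.1 (ht (Set.mem_univ x))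
    refine Opens.mem_iSup.2 ⟨t.equivFin ⟨y, hy⟩, ?_⟩
    show x ∈ (o ((t.equivFin.symm (t.equivFin ⟨y, hy⟩)).1)).opensRange
    rw [Equiv.symm_apply_apply]
    exact hz
  · exact ⟨_, (o (t.equivFin.symm k).1).isoOpensRange.inv ≫ l _, by
      rw [Category.assoc, hl, ← Category.assoc, Scheme.Hom.isoOpensRange_inv_comp]⟩

end Groth.Agent.HTop83
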