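import Groth.Agent.HTop83.BlowUpLift
import Groth.Agent.HTop83.IntegralDescent
import Groth.Agent.HTop83.Qfh
import Groth.Agent.BlowUpX.Basic
import Groth.Agent.BlowUpLib.Glue

/-!
# Refinement of h coverings by a blow-up, a finite surjective morphism and an open cover
-/

set_option autoImplicit false
set_option backward.isDefEq.respectTransparency false
set_option backward.isDefEq.respectTransparency.types false

universe v u

noncomputable section

namespace Groth.Agent.HTop83

open CategoryTheory CategoryTheory.Limits AlgebraicGeometry TopologicalSpace HTop IsLocalRing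

variable {X : Scheme.{u}}

theorem mul_comm_idealSheaf (I J : X.IdealSheafData) : I * J = J * I := by
  refine Scheme.IdealSheafData.ext (funext fun U => ?_)
  rw [Scheme.IdealSheafData.ideal_mul, Scheme.IdealSheafData.ideal_mul, Pi.mul_apply, Pi.mul_apply, mul_comm]

/-- Finitely many ideal sheaves have a product, which is effective Cartier only where all of them are. -/
theorem exists_product (l : List X.IdealSheafData) :
    ∃ J : X.IdealSheafData, (∀ (X' : Scheme.{u}) (g : X' ⟶ X), BlowUp.IsEffCartierIdeal (J.comap g) →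
        ∀ J' ∈ l, BlowUp.IsEffCartierIdeal (J'.comap g)) ∧
      ∀ x, (∀ J' ∈ l, x ∉ J'.support) → x ∉ J.support := by
  induction l with
  | nil =>
    refine ⟨⊤, by simp, fun x _ h => ?_⟩
    exact h
  | cons I l ih =>
    obtain ⟨J, hJ, hJs⟩ := ih
    refine ⟨I * J, fun X' g hg J' hJ' => ?_, fun x hx => ?_⟩
    · rw [ModPairLib.ideal_comap_mul] at hg
      rcases List.mem_cons.1 hJ' with rfl | hJ'
      · exact BlowUpX.isEffCartier_left_of_mul hg
      · exact hJ X' g (BlowUpX.isEffCartier_left_of_mul (mul_comm_idealSheaf _ _ ▸ hg)) J' hJ'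
    · rw [Scheme.IdealSheafData.support_mul]
      rintro (h | h)
      · exact hx I List.mem_cons_self h
      · exact hJs x (fun J' hJ' => hx J' (List.mem_cons_of_mem _ hJ')) h

set_option maxHeartbeats 1000000 in
/-- An h covering of a Noetherian scheme is refined by a finite surjective morphism to a blow-up and an open
cover. -/
theorem exists_blowUp_refinement [IsNoetherian X] (E : PreZeroHypercover.{v} X) [Finite E.I₀]
    [∀ j, QuasiCompact (E.f j)] [∀ j, LocallyOfFiniteType (E.f j)] (hE : HasValLift E) :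
    ∃ (X' P : Scheme.{u}) (I : X.IdealSheafData) (b : X' ⟶ X) (q : P ⟶ X'),
      BlowUp.IsBlowUp b I ∧ IsProper b ∧ Surjective b ∧ IsFinite q ∧ Surjective q ∧
      ∀ x, LiftsAt E (q ≫ b) x := by
  classical
  haveI : ∀ j, LocallyOfFinitePresentation (E.f j) := fun j =>
    locallyOfFinitePresentation_of_locallyOfFiniteType (E.f j)
  let σ : Type u := irreducibleComponents ↥X
  haveI : Finite σ := TopologicalSpace.NoetherianSpace.finite_irreducibleComponents.to_subtype
  haveI := Fintype.ofFinite σ
  let η : σ → X := fun C => C.2.1.genericPoint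
  have hη : ∀ C : σ, closure {η C} = (C.1 : Set X) := fun C =>
    IsIrreducible.isGenericPoint_genericPoint C.2.1 (isClosed_of_mem_irreducibleComponents C.1 C.2)
  have hgen : ∀ x : X, ∃ C : σ, η C ⤳ x := fun x => by
    refine ⟨⟨irreducibleComponent x, irreducibleComponent_mem_irreducibleComponents x⟩,
      specializes_iff_mem_closure.2 ?_⟩
    rw [hη]
    exact mem_irreducibleComponent
  have hmax : ∀ (C : σ) (z : X), z ⤳ η C → η C ⤳ z := fun C z hz => by
    have h2 : (C.1 : Set X) ⊆ closure {z} := hη C ▸ hz.closure_subset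
    have h3 : closure {z} ⊆ C.1 := C.2.2 isIrreducible_singleton.closure h2
    exact specializes_iff_mem_closure.2 ((hη C).symm ▸ h3 (subset_closure rfl))
  choose ls hls hlift using fun C : σ => exists_ideals_lifts E hE (η C)
  obtain ⟨I, hIcart, hIsupp⟩ := exists_product ((Finset.univ : Finset σ).toList.flatMap ls)
  have hηI : ∀ C, η C ∉ I.support := by
    intro C
    refine hIsupp _ fun J hJ => ?_
    obtain ⟨C', -, hJ⟩ := List.mem_flatMap.1 hJ
    exact hls C' J hJ (η C) fun h => (h.antisymm (hmax C _ h)).eq.symm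
  obtain ⟨X', b, hb⟩ := BlowUpLib.exists_blowUp I
  haveI : IsProper b := BlowUpLib.isProper_of_isBlowUp I hb fun U => by
    haveI : IsNoetherianRing Γ(X, U.1) := IsLocallyNoetherian.component_noetherian U
    exact IsNoetherian.noetherian _
  haveI : CompactSpace ↥X' := QuasiCompact.compactSpace_of_compactSpace b
  haveI : QuasiSeparatedSpace ↥X' := quasiSeparatedSpace_of_quasiSeparated b
  have hpt : ∀ C z, geomPt (η C) z ∉ (I.support : Set X) := fun C z => by
    rw [geomPt_apply]; exact hηI C
  choose g' hg' using fun C : σ =>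
    (hb.2 _ (geomPt (η C)) (BlowUpX.isEffCartier_comap_of_avoid I _ (hpt C))).exists
  haveI : ∀ C, QuasiCompact (g' C) := fun C => quasiCompact_of_compactSpace (g' C)
  haveI : ∀ C, QuasiSeparated (g' C) := fun C => inferInstance
  choose P p π hp hπ hπs hPl using fun C : σ => exists_finite_of_integral_lifts (g' C).fromNormalization b E
    (hlift C X' b (g' C) (hg' C) fun J hJ => hIcart X' b hb.1 J (List.mem_flatMap.2 ⟨C, by simp, hJ⟩))
  haveI : IsFinite (Sigma.desc p) := SGA1Q.isFinite_sigmaDesc p hp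
  have hrange : ∀ C, g' C (closedPoint _) ∈ Set.range (Sigma.desc p) := fun C => by
    refine ⟨Sigma.ι P C (π C ((g' C).toNormalization (closedPoint _))), ?_⟩
    rw [← Scheme.Hom.comp_apply, Sigma.ι_desc, ← Scheme.Hom.comp_apply, hπ, ← Scheme.Hom.comp_apply,
      (g' C).toNormalization_fromNormalization]
  have hclosed : IsClosed (Set.range (Sigma.desc p)) := (Sigma.desc p).isClosedMap.isClosed_range
  let U : X.Opens := I.support.compl
  haveI := BlowUpX.isIso_restrict hb
  have hg'b : ∀ C, b (g' C (closedPoint _)) = η C := fun C => by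
    rw [← Scheme.Hom.comp_apply, hg']; exact geomPt_apply _ _
  haveI hqs : Surjective (Sigma.desc p) := ⟨fun x => by
    obtain ⟨ξ, hξx, hξ⟩ := HTopCov.exists_generization_notMem_support _ hb.1 x
    rw [Scheme.IdealSheafData.support_comap] at hξ
    obtain ⟨C, hC⟩ := hgen (b ξ)
    let e : (b ⁻¹ᵁ U : Scheme) ≅ (U : Scheme) := asIso (b ∣_ U)
    have he : ∀ z : (b ⁻¹ᵁ U : Scheme), e.inv ⟨b z.1, z.2⟩ = z := fun z => by
      have : (⟨b z.1, z.2⟩ : (U : Scheme)) = e.hom z := Subtype.ext (morphismRestrict_base_coe b U z).symm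
      rw [this]
      rw [← Scheme.Hom.comp_apply, e.hom_inv_id]
      rfl
    have hsp : (⟨η C, hηI C⟩ : (U : Scheme)) ⤳ ⟨b ξ, hξ⟩ := subtype_specializes_iff _ _ |>.2 hC
    have h1 := (hsp.map e.inv.continuous).map (b ⁻¹ᵁ U).ι.continuous
    have h2 : g' C (closedPoint _) ⤳ ξ := by
      have hmem : g' C (closedPoint _) ∈ b ⁻¹ᵁ U := by
        show b _ ∈ U
        rw [hg'b]; exact hηI C
      have e1 : (⟨η C, hηI C⟩ : (U : Scheme)) = ⟨b (g' C (closedPoint _)), hmem⟩ := Subtype.ext (hg'b C).symm
      rw [e1, he ⟨_, hmem⟩, he ⟨ξ, hξ⟩] at h1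
      exact h1
    exact (h2.trans hξx).mem_closed hclosed (hrange C)⟩
  refine ⟨X', _, I, b, Sigma.desc p, hb, inferInstance, ⟨fun x => ?_⟩, inferInstance, hqs, fun z => ?_⟩
  · obtain ⟨C, hC⟩ := hgen x
    exact hC.mem_closed b.isClosedMap.isClosed_range ⟨_, hg'b C⟩
  · obtain ⟨C, x, rfl⟩ := (sigmaOpenCover P).exists_eq z
    obtain ⟨O, o, i, h, ho, hxo, hc⟩ := hPl C x
    refine ⟨O, o ≫ Sigma.ι P C, i, h, inferInstance, ?_, by rw [hc]; simp⟩
    obtain ⟨w, hw⟩ := hxo
    exact ⟨w, by rw [Scheme.Hom.comp_apply, hw]; rfl⟩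

end Groth.Agent.HTop83
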