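import Groth.Agent.HTop83.VSheafOver
import Groth.Agent.HTop83.PhV
import Groth.Agent.HTopCov.Misc

/-!
# h sheaves through proper surjective morphisms of finite presentation
-/

set_option backward.isDefEq.respectTransparency false
set_option backward.isDefEq.respectTransparency.types false

universe w w' u

noncomputable section

namespace Groth.Agent.HTop83

open CategoryTheory CategoryTheory.Limits AlgebraicGeometry IsLocalRing HTop Opposite Groth.Agent.HTopCov

variable {S : Scheme.{u}} {F : (Over S)ᵒᵖ ⥤ Type w}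

theorem zariski_le_finOverZ (hZ : Presieve.IsSheaf (Scheme.zariskiTopology.over S) F) :
    Scheme.zariskiTopology ≤ finOver F := fun T R hR Y g => by
  refine hZ _ ?_
  rw [GrothendieckTopology.mem_over_iff, OrderIso.apply_symm_apply]
  exact Scheme.zariskiTopology.pullback_stable g hR

theorem isSheafFor_of_openFamily (hZ : Presieve.IsSheaf (Scheme.zariskiTopology.over S) F) (Y : Over S)
    (E : PreZeroHypercover.{u} Y.left) (hE : ∀ i, IsOpenImmersion (E.f i)) (hs : ∀ t, ∃ i x, E.f i x = t) :
    Presieve.IsSheafFor F (Presieve.ofArrows (fun i => Over.mk (E.f i ≫ Y.hom))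
      fun i => (Over.homMk (E.f i) : Over.mk (E.f i ≫ Y.hom) ⟶ Y)) := by
  let C : Y.left.OpenCover := .mkOfCovers E.I₀ E.X E.f (fun t => hs t) hE
  have hmem : E.sieve₀ ∈ Scheme.zariskiTopology Y.left := C.mem_grothendieckTopology
  rw [Presieve.isSheafFor_iff_generate, ← Sieve.ofArrows, ← lift_generate]
  refine hZ _ ?_
  rw [GrothendieckTopology.mem_over_iff, OrderIso.apply_symm_apply]
  exact hmem

theorem separatedZ_of_affine (hZ : Presieve.IsSheaf (Scheme.zariskiTopology.over S) F) (Y : Over S) (R : Sieve Y.left)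
    (h : ∀ (W : Over S) [IsAffine W.left] (g : W ⟶ Y), Presieve.IsSeparatedFor F (lift W (R.pullback g.left)).arrows) :
    Presieve.IsSeparatedFor F (lift Y R).arrows := by
  intro x t₁ t₂ ht₁ ht₂
  let C := Y.left.affineCover.ulift
  refine (isSheafFor_of_openFamily hZ Y C.toPreZeroHypercover
    (fun i => Scheme.Cover.map_prop _ i) (fun t => C.exists_eq t)).isSeparatedFor.ext ?_
  intro W₀ f₀ hf₀
  cases hf₀ with | mk i => ?_
  let m : (Over.mk (C.f i ≫ Y.hom) : Over S) ⟶ Y := Over.homMk (C.f i)
  haveI : IsAffine (Over.mk (C.f i ≫ Y.hom) : Over S).left := inferInstanceAs (IsAffine (Y.left.affineCover.X _))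
  change F.map m.op t₁ = F.map m.op t₂
  refine (h (Over.mk (C.f i ≫ Y.hom)) m).ext fun {V} c hc => ?_
  rw [← Functor.map_comp_apply, ← Functor.map_comp_apply, ← op_comp]
  exact (ht₁ (c ≫ m) hc).trans (ht₂ (c ≫ m) hc).symm

/-- Membership in `finOver` can be tested on affine schemes. -/
theorem mem_finOverZ_of_affine (hZ : Presieve.IsSheaf (Scheme.zariskiTopology.over S) F) {T : Scheme.{u}} (R : Sieve T)
    (h : ∀ (W : Over S) [IsAffine W.left] (g : W.left ⟶ T), Presieve.IsSheafFor F (lift W (R.pullback g)).arrows) :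
    R ∈ finOver F T := fun Y g => by
  have hsep : ∀ (Z : Over S) (g' : Z.left ⟶ T), Presieve.IsSeparatedFor F (lift Z (R.pullback g')).arrows :=
    fun Z g' => separatedZ_of_affine hZ Z _ fun W _ c => by
      rw [← Sieve.pullback_comp]
      exact (h W _).isSeparatedFor
  intro x hx
  let C := Y.left.affineCover.ulift
  let Yi : C.I₀ → Over S := fun i => Over.mk (C.f i ≫ Y.hom)
  let m : ∀ i, Yi i ⟶ Y := fun i => Over.homMk (C.f i)
  have hcov := isSheafFor_of_openFamily hZ Y C.toPreZeroHypercover
    (fun i => Scheme.Cover.map_prop _ i) (fun t => C.exists_eq t)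
  haveI : ∀ i, IsAffine (Yi i).left := fun i => inferInstanceAs (IsAffine (Y.left.affineCover.X _))
  have hmem : ∀ (i : C.I₀) {V : Over S} (c : V ⟶ Yi i), (lift (Yi i) (R.pullback ((m i).left ≫ g))).arrows c →
      (lift Y (R.pullback g)).arrows (c ≫ m i) := fun i V c hc => by
    show R.arrows ((c ≫ m i).left ≫ g)
    rw [Over.comp_left, Category.assoc]
    exact hc
  have ha : ∀ i : C.I₀, ∃ a : F.obj (op (Yi i)), ∀ {V : Over S} (c : V ⟶ Yi i) (hc : _),
      F.map c.op a = x (c ≫ m i) (hmem i c hc) := fun i => by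
    obtain ⟨a, ha, -⟩ := h (Yi i) ((m i).left ≫ g) (fun V c hc => x (c ≫ m i) (hmem i c hc))
      fun V₁ V₂ Z g₁ g₂ c₁ c₂ h₁ h₂ he => hx g₁ g₂ _ _ (by rw [← Category.assoc, ← Category.assoc, he])
    exact ⟨a, fun c hc => ha c hc⟩
  choose a ha using ha
  have hcompat : Presieve.Arrows.Compatible F m a := fun i j Z g₁ g₂ he => by
    refine (hsep Z ((g₁ ≫ m i).left ≫ g)).ext fun {V} c hc => ?_
    have hc₁ : R.arrows (c.left ≫ (g₁ ≫ m i).left ≫ g) := hc
    rw [← Functor.map_comp_apply, ← Functor.map_comp_apply, ← op_comp, ← op_comp,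
      ha i (c ≫ g₁) (by
        show R.arrows ((c ≫ g₁).left ≫ (m i).left ≫ g)
        simpa only [Over.comp_left, Category.assoc] using hc₁),
      ha j (c ≫ g₂) (by
        show R.arrows ((c ≫ g₂).left ≫ (m j).left ≫ g)
        rw [he] at hc₁
        simpa only [Over.comp_left, Category.assoc] using hc₁)]
    congr 1
    rw [Category.assoc, Category.assoc, he]
  obtain ⟨t, ht, -⟩ := (Presieve.isSheafFor_arrows_iff F m).mp hcov a hcompat
  suffices key : Presieve.FamilyOfElements.IsAmalgamation x t from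
    ⟨t, key, fun t' ht' => (hsep Y g).ext fun {V} c hc => (ht' c hc).trans (key c hc).symm⟩
  intro W f hf
  · refine (isSheafFor_of_openFamily hZ W (C.toPreZeroHypercover.pullback₁ f.left)
      (fun i => ?_) (fun w => ?_)).isSeparatedFor.ext ?_
    · haveI : IsOpenImmersion (C.f i) := Scheme.Cover.map_prop C i
      exact inferInstanceAs (IsOpenImmersion (pullback.fst f.left (C.f i)))
    · obtain ⟨i, z, hz⟩ := C.exists_eq (f.left w)
      obtain ⟨p, hp, -⟩ := Scheme.Pullback.exists_preimage_pullback (f := f.left) (g := C.f i) w z hz.symm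
      exact ⟨i, p, hp⟩
    intro W₀ f₀ hf₀
    cases hf₀ with | mk i => ?_
    let q : (Over.mk (pullback.fst f.left (C.f i) ≫ W.hom) : Over S) ⟶ W := Over.homMk (pullback.fst f.left (C.f i))
    let r : (Over.mk (pullback.fst f.left (C.f i) ≫ W.hom) : Over S) ⟶ Yi i :=
      Over.homMk (pullback.snd f.left (C.f i)) (by
        show pullback.snd f.left (C.f i) ≫ C.f i ≫ Y.hom = pullback.fst f.left (C.f i) ≫ W.hom
        rw [← Category.assoc, ← pullback.condition, Category.assoc, Over.w f])
    have hqr : q ≫ f = r ≫ m i := Over.OverMorphism.ext pullback.condition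
    have hc : R.arrows (r.left ≫ (m i).left ≫ g) := by
      rw [← Category.assoc, ← Over.comp_left, ← hqr, Over.comp_left, Category.assoc]
      exact R.downward_closed hf _
    change F.map q.op (F.map f.op t) = F.map q.op (x f hf)
    rw [← Functor.map_comp_apply, ← op_comp, hqr, op_comp, Functor.map_comp_apply, ht i, ha i r hc]
    refine Eq.trans ?_ (hx (𝟙 _) q (hmem i r hc) hf (by rw [Category.id_comp, hqr]))
    rw [op_id, Functor.map_id_apply]

/-- A Zariski sheaf with the sheaf property for proper surjective morphisms of finite presentation to affine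
schemes is an h sheaf. -/
theorem isSheaf_Jh_of_proper (hZ : Presieve.IsSheaf (Scheme.zariskiTopology.over S) F)
    (h : ∀ (U V : Over S) (f : V ⟶ U), IsAffine U.left → IsProper f.left → Surjective f.left →
      LocallyOfFinitePresentation f.left → Presieve.IsSheafFor F (Presieve.singleton f)) :
    Presieve.IsSheaf (Jh S) F := by
  have hsingle : ∀ {T X : Scheme.{u}} (σ : X ⟶ T), IsProper σ → Surjective σ → LocallyOfFinitePresentation σ →
      (PreZeroHypercover.singleton.{u} σ).sieve₀ ∈ finOver F T := fun {T X} σ h1 h2 h3 => by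
    refine mem_finOverZ_of_affine hZ _ fun W _ g => ?_
    let V : Over S := Over.mk (pullback.fst g σ ≫ W.hom)
    let f : V ⟶ W := Over.homMk (pullback.fst g σ)
    have := h W V f inferInstance (MorphismProperty.pullback_fst (P := @IsProper) g σ h1)
      (MorphismProperty.pullback_fst (P := @Surjective) g σ h2)
      (MorphismProperty.pullback_fst (P := @LocallyOfFinitePresentation) g σ h3)
    rw [lift_sieve₀_pullback, Sieve.ofArrows, ← Presieve.isSheafFor_iff_generate]
    exact (Presieve.ofArrows_pUnit.{u} f) ▸ this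
  have hle : hTopology.{u} ≤ finOver F := by
    refine Precoverage.toGrothendieck_le_iff_le_toPrecoverage.2 fun T R hR => ?_
    obtain ⟨E, hE, rfl⟩ := PreZeroHypercoverFamily.mem_precoverage_iff.mp hR
    show Sieve.generate E.presieve₀ ∈ finOver F T
    refine sieve₀_mem_of_refines (zariski_le_finOverZ hZ) E fun U => ?_
    haveI : IsAffine (U.1 : Scheme) := U.2
    obtain ⟨G, hG, href⟩ := hE.2 U
    obtain ⟨R, r, hr, hrs, hrp, hl⟩ := exists_fp_refinement E hE.1 U.1.ι G hG href
    haveI : CompactSpace R := QuasiCompact.compactSpace_of_compactSpace r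
    obtain ⟨H, hH, ⟨ψ⟩⟩ := exists_affine_cover_of_liftsAt (E.pullback₁ U.1.ι) r hl
    refine ⟨⟨H.I₀, H.X, fun j => H.f j ≫ r⟩, ?_, fun j => ⟨ψ.s₀ j, ψ.h₀ j ≫ pullback.snd _ _, ?_⟩⟩
    · refine (finOver F).transitive (hsingle r hr hrs hrp) _ ?_
      rintro Z _ ⟨_, a, _, ⟨⟨⟩⟩, rfl⟩
      rw [Sieve.pullback_comp]
      refine (finOver F).pullback_stable a ?_
      refine (finOver F).superset_covering
        ((Sieve.generate_le_iff _ _).mpr <| Presieve.ofArrows_le_iff.mpr fun j => ?_) (zariski_le_finOverZ hZ _ hH)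
      exact ⟨H.X j, 𝟙 _, H.f j ≫ r, ⟨j⟩, Category.id_comp _⟩
    · rw [Category.assoc, ← pullback.condition, ← Category.assoc]
      exact congrArg (· ≫ U.1.ι) (ψ.w₀ j)
  intro Y R hR
  rw [GrothendieckTopology.mem_over_iff] at hR
  have := hle _ hR Y (𝟙 _)
  rwa [Sieve.pullback_id, lift, OrderIso.symm_apply_apply] at this

end Groth.Agent.HTop83

namespace Groth.Agent.HTop83

open CategoryTheory CategoryTheory.Limits AlgebraicGeometry HTop Opposite Groth.Agent.HTopCov

theorem zariski_le_hTopology : Scheme.zariskiTopology.{u} ≤ hTopology.{u} := fun T R hR => by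
  obtain ⟨𝒰, hle⟩ := Scheme.mem_grothendieckTopology_iff.mp hR
  let C := 𝒰.ulift
  refine GrothendieckTopology.superset_covering _ ((Sieve.generate_le_iff _ _).mpr ?_)
    (Precoverage.generate_mem_toGrothendieck ((presieve₀_mem_hPrecoverage_iff C.toPreZeroHypercover).2
      (isOpenCover_isHCover _ (fun i => Scheme.Cover.map_prop _ i) fun t => C.exists_eq t)))
  exact Presieve.ofArrows_le_iff.mpr fun i => hle _ _ (Presieve.ofArrows.mk _)

variable {S : Scheme.{u}} {F : (Over S)ᵒᵖ ⥤ Type w}

/-- The criterion for h sheaves. -/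
theorem isSheaf_Jh_iff : Presieve.IsSheaf (Jh S) F ↔ (Presieve.IsSheaf (Scheme.zariskiTopology.over S) F ∧
    ∀ (U V : Over S) (f : V ⟶ U), IsAffine U.left → IsProper f.left → Surjective f.left →
      LocallyOfFinitePresentation f.left → Presieve.IsSheafFor F (Presieve.singleton f)) := by
  refine ⟨fun h => ⟨Presieve.isSheaf_of_le F (fun Y R hR => ?_) h, fun U V f _ h1 h2 h3 => ?_⟩,
    fun h => isSheaf_Jh_of_proper h.1 h.2⟩
  · rw [GrothendieckTopology.mem_over_iff] at hR ⊢
    exact zariski_le_hTopology _ hR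
  · rw [Presieve.isSheafFor_iff_generate]
    refine h _ ?_
    rw [GrothendieckTopology.mem_over_iff]
    have hc : IsHCover (PreZeroHypercover.singleton.{u} f.left) := ⟨fun _ => h3, isVCover_of_proper f.left⟩
    refine hTopology.superset_covering ?_ (Precoverage.generate_mem_toGrothendieck ((presieve₀_mem_hPrecoverage_iff _).2 hc))
    rw [PreZeroHypercover.presieve₀_singleton, Sieve.generate_le_iff]
    rintro _ _ ⟨⟩
    exact ⟨V, f, 𝟙 _, ⟨V, 𝟙 _, f, ⟨⟩, Category.id_comp _⟩, (Category.id_comp _).symm⟩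

end Groth.Agent.HTop83
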