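import Groth.Agent.EtBCA.Hpull
import Groth.Agent.EtBCA.Descent
import Groth.Agent.EtBCA.Edge
import Groth.Agent.EtBCA.BCQ.Killed
import Groth.Agent.EtFound.PushLocConst
import Groth.Agent.EtFound.Strata
import Groth.Agent.S0071
import Mathlib.AlgebraicGeometry.Morphisms.QuasiFinite

/-!
# Classes killed by finite etale covers, along finite etale morphisms
-/

set_option autoImplicit false
set_option backward.isDefEq.respectTransparency false
set_option backward.isDefEq.respectTransparency.types false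

universe u

open CategoryTheory CategoryTheory.Limits AlgebraicGeometry Opposite

namespace Groth.Agent.HTop83

theorem finite_connectedComponents_of_openClosed {α β : Type*} [TopologicalSpace α] [TopologicalSpace β]
    (f : α → β) (hc : Continuous f) (ho : IsOpenMap f) (hcl : IsClosedMap f) (hfib : ∀ b, (f ⁻¹' {b}).Finite)
    [Finite (_root_.ConnectedComponents β)] : Finite (_root_.ConnectedComponents α) := by
  choose b hb using fun c : _root_.ConnectedComponents β => ConnectedComponents.surjective_coe c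
  let D : Set α := ⋃ c, f ⁻¹' {b c}
  have hD : D.Finite := Set.finite_iUnion fun c => hfib (b c)
  have hmeet : ∀ T : Set α, IsClopen T → T.Nonempty → (T ∩ D).Nonempty := fun T hT ⟨x, hx⟩ => by
    have hi : IsClopen (f '' T) := ⟨hcl T hT.1, ho T hT.2⟩
    have h1 := hi.connectedComponent_subset ⟨x, hx, rfl⟩
    obtain ⟨y, hy, hyb⟩ := h1 (ConnectedComponents.coe_eq_coe'.1 (hb (f x : _root_.ConnectedComponents β)))
    exact ⟨y, hy, Set.mem_iUnion.2 ⟨_, hyb⟩⟩
  have hinj : ∀ S T : Set α, IsClopen S → IsClopen T → S ∩ D = T ∩ D → S ⊆ T := fun S T hS hT e x hx => by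
    by_contra hxT
    obtain ⟨y, ⟨hy1, hy2⟩, hyD⟩ := hmeet (S ∩ Tᶜ) (hS.inter hT.compl) ⟨x, hx, hxT⟩
    exact hy2 ((Set.ext_iff.1 e y).1 ⟨hy1, hyD⟩).1
  have hfin : {S : Set α | IsClopen S}.Finite :=
    Set.Finite.of_finite_image (f := fun S => S ∩ D) ((hD.finite_subsets).subset (by
      rintro - ⟨S, -, rfl⟩
      exact Set.inter_subset_right)) fun S hS T hT e => (hinj S T hS hT e).antisymm (hinj T S hT hS e.symm)
  have hcomp : ∀ x : α, connectedComponent x = ⋂₀ {S | IsClopen S ∧ x ∈ S} := fun x => by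
    refine (Set.subset_sInter fun S hS => hS.1.connectedComponent_subset hS.2).antisymm ?_
    have hQ : IsClopen (⋂₀ {S | IsClopen S ∧ x ∈ S}) := by
      rw [Set.sInter_eq_biInter]
      exact (hfin.subset fun S hS => hS.1).isClopen_biInter fun S hS => hS.1
    refine IsPreconnected.subset_connectedComponent ?_ (Set.mem_sInter.2 fun S hS => hS.2)
    refine isPreconnected_iff_preconnectedSpace.2 (preconnectedSpace_iff_clopen.2 fun s hs => ?_)
    have himg : IsClopen (((↑) : (⋂₀ {S | IsClopen S ∧ x ∈ S} : Set α) → α) '' s) :=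
      ⟨hQ.1.isClosedMap_subtype_val s hs.1, hQ.2.isOpenMap_subtype_val s hs.2⟩
    have hxQ : x ∈ ⋂₀ {S | IsClopen S ∧ x ∈ S} := Set.mem_sInter.2 fun S hS => hS.2
    by_cases hx : x ∈ ((↑) : (⋂₀ {S | IsClopen S ∧ x ∈ S} : Set α) → α) '' s
    · refine Or.inr (Set.eq_univ_of_forall fun z => ?_)
      obtain ⟨w, hw, hwz⟩ := (Set.mem_sInter.1 z.2 _ ⟨himg, hx⟩)
      exact Subtype.ext hwz ▸ hw
    · refine Or.inl (Set.eq_empty_of_forall_notMem fun z hz => ?_)
      exact (Set.mem_sInter.1 z.2 _ ⟨himg.compl, hx⟩) ⟨z, hz, rfl⟩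
  choose a ha using fun c : _root_.ConnectedComponents α => ConnectedComponents.surjective_coe c
  haveI : Finite {S : Set α | IsClopen S} := hfin.to_subtype
  refine Finite.of_injective (fun c => {S : {S : Set α | IsClopen S} | a c ∈ S.1}) fun c c' e => ?_
  rw [← ha c, ← ha c', ConnectedComponents.coe_eq_coe, hcomp, hcomp]
  congr 1
  ext S
  exact and_congr_right fun hS => (Set.ext_iff.1 e ⟨S, hS⟩)

variable {X Y : Scheme.{u}}

theorem killedBy_push' (f : X ⟶ Y) {n : ℕ} {F : EtCoh.Ab X} (h : EtCoh.KilledBy n F) :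
    EtCoh.KilledBy n ((EtCoh.push f).obj F) := fun U s => h ((EtCoh.bc f).obj U) s

theorem Hpull_eq_zero_of_eq {f f' : X ⟶ Y} (e : f = f') [PreservesFiniteLimits (EtCoh.pull f)]
    [PreservesFiniteLimits (EtCoh.pull f')] {F : EtCoh.Ab Y} {q : ℕ} {x : EtCoh.H Y F q}
    (h : EtCore.Hpull f F q x = 0) : EtCore.Hpull f' F q x = 0 := by
  subst e
  exact h

/-- A composite kills a class iff the first morphism kills its pullback along the second. -/
theorem Hpull_comp_eq_zero_iff {W : Scheme.{u}} (k : W ⟶ X) (t : X ⟶ Y) [PreservesFiniteLimits (EtCoh.pull k)]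
    [PreservesFiniteLimits (EtCoh.pull t)] [PreservesFiniteLimits (EtCoh.pull (k ≫ t))] {F : EtCoh.Ab Y} {q : ℕ}
    (x : EtCoh.H Y F q) :
    EtCore.Hpull (k ≫ t) F q x = 0 ↔ EtCore.Hpull k ((EtCoh.pull t).obj F) q (EtCore.Hpull t F q x) = 0 := by
  rw [← EtBCA.Hpull_comp]
  exact ⟨fun h => by rw [h, map_zero], fun h =>
    (EtBCA.HF_map_bijective ((EtCore.pullComp k t).hom.app F) q).1 (h.trans (map_zero _).symm)⟩

/-- Every class with finite locally constant coefficients killed by `n` with property `R` dies on a finite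
etale cover. -/
def KillsFLC (R : ℕ → Prop) (Z : Scheme.{u}) : Prop :=
  ∀ (F : EtCoh.Ab Z), EtCoh.IsFiniteLocallyConstant F → (∃ n : ℕ, 0 < n ∧ R n ∧ EtCoh.KilledBy n F) →
    ∀ q : ℕ, 0 < q → ∀ ζ : EtCoh.H Z F q,
      ∃ (Z' : Scheme.{u}) (g : Z' ⟶ Z), IsFinite g ∧ Etale g ∧ Surjective g ∧
        ∀ [PreservesFiniteLimits (EtCoh.pull g)], EtCore.Hpull g F q ζ = 0

variable (f : X ⟶ Y) [IsFinite f] [Etale f] [Surjective f] (R : ℕ → Prop)

include f in
theorem killsFLC_iff : KillsFLC R Y ↔ KillsFLC R X := by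
  constructor
  · intro h F hF htor q hq ζ
    haveI := EtBCA.pullExact f
    obtain ⟨n, hn, hR, hk⟩ := htor
    obtain ⟨ξ, rfl⟩ := ((EtBCA.hofPush_edge f F q fun i hi _ => Groth.Agent.S0071.result f F i hi).1 q le_rfl).2 ζ
    obtain ⟨Y', g, hg1, hg2, hg3, hg⟩ := h _ (EtFound.isFiniteLocallyConstant_push f F hF)
      ⟨n, hn, hR, killedBy_push' f hk⟩ q hq ξ
    refine ⟨pullback f g, pullback.fst f g, inferInstance, inferInstance, inferInstance, ?_⟩
    intro inst
    haveI := inst
    haveI := EtBCA.pullExact g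
    haveI := EtBCA.pullExact (pullback.snd f g)
    haveI := EtBCA.pullExact (pullback.snd f g ≫ g)
    haveI := EtBCA.pullExact (pullback.fst f g ≫ f)
    have h0 : EtCore.Hpull (pullback.snd f g ≫ g) ((EtCoh.push f).obj F) q ξ = 0 := by
      rw [Hpull_comp_eq_zero_iff, hg, map_zero]
    have h1 := (Hpull_comp_eq_zero_iff (pullback.fst f g) f ξ).1 (Hpull_eq_zero_of_eq pullback.condition.symm h0)
    rw [EtBCA.HofPush_def]
    exact (EtBCA.Hpull_natural _ _ q _).trans ((congrArg _ h1).trans (map_zero _))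
  · intro h F hF htor q hq ζ
    haveI := EtBCA.pullExact f
    obtain ⟨n, hn, hR, hk⟩ := htor
    obtain ⟨X', g, hg1, hg2, hg3, hg⟩ := h _ (EtFound.isFiniteLocallyConstant_pull f hF)
      ⟨n, hn, hR, EtBCA.BCQ.killedBy_pull f hk⟩ q hq (EtCore.Hpull f F q ζ)
    refine ⟨X', g ≫ f, inferInstance, inferInstance, inferInstance, ?_⟩
    intro inst
    haveI := inst
    haveI := EtBCA.pullExact g
    rw [Hpull_comp_eq_zero_iff]
    exact hg

include f in
theorem finite_connectedComponents_of_finiteEtale [Finite (_root_.ConnectedComponents ↥Y)] :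
    Finite (_root_.ConnectedComponents ↥X) :=
  finite_connectedComponents_of_openClosed f f.continuous f.isOpenMap f.isClosedMap f.finite_preimage_singleton

end Groth.Agent.HTop83
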