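import Mathlib.RingTheory.Spectrum.Prime.Topology
import Mathlib.RingTheory.TensorProduct.Basic
import Mathlib.RingTheory.FiniteType
import Mathlib.RingTheory.Flat.Basic
import Mathlib.RingTheory.LocalRing.ResidueField.Ideal

/-!
Lifting a pair of primes through a base change can be tested on finitely generated subalgebras.
-/

open TensorProduct

universe u

namespace Groth.Agent.HTop83

variable {A : Type u} [CommRing A]

/-- Two ring maps agreeing on `A` give a ring map out of the tensor product. -/
theorem exists_ringHom_lift {B V : Type u} [CommRing B] [Algebra A B] [CommRing V] [Algebra A V]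
    {K : Type u} [CommRing K] (a : B →+* K) (b : V →+* K) (h : ∀ r, a (algebraMap A B r) = b (algebraMap A V r)) :
    ∃ Φ : B ⊗[A] V →+* K, ∀ x y, Φ (x ⊗ₜ y) = a x * b y := by
  letI : Algebra A K := (b.comp (algebraMap A V)).toAlgebra
  let aA : B →ₐ[A] K := { a with commutes' := h }
  let bA : V →ₐ[A] K := { b with commutes' := fun _ => rfl }
  exact ⟨(Algebra.TensorProduct.lift aA bA fun x y => mul_comm (aA x) (bA y)).toRingHom,
    fun x y => Algebra.TensorProduct.lift_tmul aA bA _ x y⟩

/-- A prime of `B ⊗ C` and a prime of `V` over the same prime of `C` come from a prime of `B ⊗ V`. -/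
theorem exists_prime_map {B C V : Type u} [CommRing B] [Algebra A B] [CommRing C] [Algebra A C]
    [CommRing V] [Algebra A V] (j : C →ₐ[A] V) (Q : Ideal (B ⊗[A] C)) [Q.IsPrime] (q : Ideal V) [q.IsPrime]
    (h : Q.comap (Algebra.TensorProduct.includeRight : C →ₐ[A] B ⊗[A] C) = q.comap j) :
    ∃ Q' : Ideal (B ⊗[A] V), Q'.IsPrime ∧ Q'.comap (Algebra.TensorProduct.map (AlgHom.id A B) j) = Q ∧
      Q'.comap (Algebra.TensorProduct.includeRight : V →ₐ[A] B ⊗[A] V) = q := by
  let c : Ideal C := q.comap j
  haveI : c.IsPrime := Ideal.comap_isPrime _ _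
  letI : Algebra c.ResidueField Q.ResidueField :=
    (Ideal.ResidueField.map c Q (Algebra.TensorProduct.includeRight : C →ₐ[A] B ⊗[A] C).toRingHom h.symm).toAlgebra
  letI : Algebra c.ResidueField q.ResidueField := (Ideal.ResidueField.map c q j.toRingHom rfl).toAlgebra
  haveI : Nontrivial (Q.ResidueField ⊗[c.ResidueField] q.ResidueField) :=
    TensorProduct.nontrivial_of_linearMap_injective_of_flat_left c.ResidueField Q.ResidueField q.ResidueField
      (Algebra.linearMap c.ResidueField q.ResidueField) (RingHom.injective _)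
  obtain ⟨M, hM⟩ := Ideal.exists_maximal (Q.ResidueField ⊗[c.ResidueField] q.ResidueField)
  let K := (Q.ResidueField ⊗[c.ResidueField] q.ResidueField) ⧸ M
  letI : Field K := Ideal.Quotient.field M
  let a : B ⊗[A] C →+* K :=
    (Ideal.Quotient.mk M).comp (Algebra.TensorProduct.includeLeftRingHom.comp (algebraMap (B ⊗[A] C) Q.ResidueField))
  let b : V →+* K :=
    (Ideal.Quotient.mk M).comp
      ((Algebra.TensorProduct.includeRight :
        q.ResidueField →ₐ[c.ResidueField] Q.ResidueField ⊗[c.ResidueField] q.ResidueField).toRingHom.comp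
        (algebraMap V q.ResidueField))
  have hab : ∀ x : C, a (1 ⊗ₜ x) = b (j x) := by
    intro x
    have e := (RingHom.congr_fun (Algebra.TensorProduct.includeLeftRingHom_comp_algebraMap
      (R := c.ResidueField) (A := Q.ResidueField) (B := q.ResidueField)) (algebraMap C c.ResidueField x))
    have e1 : algebraMap c.ResidueField Q.ResidueField (algebraMap C c.ResidueField x) =
        algebraMap (B ⊗[A] C) Q.ResidueField (1 ⊗ₜ x) := Ideal.ResidueField.map_algebraMap ..
    have e2 : algebraMap c.ResidueField q.ResidueField (algebraMap C c.ResidueField x) =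
        algebraMap V q.ResidueField (j x) := Ideal.ResidueField.map_algebraMap ..
    rw [RingHom.comp_apply, RingHom.comp_apply, e1, e2] at e
    exact congrArg (Ideal.Quotient.mk M) e
  obtain ⟨Φ, hΦ'⟩ := exists_ringHom_lift (A := A) (a.comp Algebra.TensorProduct.includeLeftRingHom) b fun r => by
    rw [RingHom.comp_apply, ← j.commutes r, ← hab, Algebra.TensorProduct.includeLeftRingHom_apply,
      Algebra.algebraMap_eq_smul_one (R := A) (A := B), TensorProduct.smul_tmul,
      ← Algebra.algebraMap_eq_smul_one]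
  refine ⟨RingHom.ker Φ, RingHom.ker_isPrime _, ?_, ?_⟩
  · have hΦ : ∀ t, Φ (Algebra.TensorProduct.map (AlgHom.id A B) j t) = a t := by
      intro t
      induction t using TensorProduct.induction_on with
      | zero => simp
      | tmul x y =>
        rw [Algebra.TensorProduct.map_tmul, hΦ']
        rw [← hab]
        change a (x ⊗ₜ 1) * a (1 ⊗ₜ y) = _
        rw [← map_mul, Algebra.TensorProduct.tmul_mul_tmul, mul_one, one_mul]
      | add x y hx hy => simp only [map_add, hx, hy]
    ext t
    rw [Ideal.mem_comap, RingHom.mem_ker, hΦ]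
    exact (map_eq_zero ((Ideal.Quotient.mk M).comp
      (Algebra.TensorProduct.includeLeftRingHom :
        Q.ResidueField →+* Q.ResidueField ⊗[c.ResidueField] q.ResidueField))).trans
      Ideal.algebraMap_residueField_eq_zero
  · ext v
    rw [Ideal.mem_comap, RingHom.mem_ker]
    rw [Algebra.TensorProduct.includeRight_apply, hΦ']
    rw [map_one, one_mul]
    exact (map_eq_zero ((Ideal.Quotient.mk M).comp
      (Algebra.TensorProduct.includeRight :
        q.ResidueField →ₐ[c.ResidueField] Q.ResidueField ⊗[c.ResidueField] q.ResidueField).toRingHom)).trans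
      Ideal.algebraMap_residueField_eq_zero

variable {ι : Type*} [Finite ι] (B : ι → Type u) [∀ k, CommRing (B k)] [∀ k, Algebra A (B k)]

/-- If over every finitely generated subalgebra `C ⊆ V` some `B k ⊗ C` has a specialisation over the images of
`q ≤ p`, then so has some `B k ⊗ V`. -/
theorem exists_le_lift {V : Type u} [CommRing V] [Algebra A V] (q p : Ideal V) [q.IsPrime] [p.IsPrime]
    (H : ∀ C : Subalgebra A V, C.FG → ∃ (k : ι) (Q P : Ideal (B k ⊗[A] C)), Q.IsPrime ∧ P.IsPrime ∧ Q ≤ P ∧
      Q.comap (Algebra.TensorProduct.includeRight : C →ₐ[A] B k ⊗[A] C) = q.comap C.val ∧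
      P.comap (Algebra.TensorProduct.includeRight : C →ₐ[A] B k ⊗[A] C) = p.comap C.val) :
    ∃ (k : ι) (Q P : Ideal (B k ⊗[A] V)), Q.IsPrime ∧ P.IsPrime ∧ Q ≤ P ∧
      Q.comap (Algebra.TensorProduct.includeRight : V →ₐ[A] B k ⊗[A] V) = q ∧
      P.comap (Algebra.TensorProduct.includeRight : V →ₐ[A] B k ⊗[A] V) = p := by
  classical
  by_contra hcon
  push Not at hcon
  let T : ι → Type u := fun k => B k ⊗[A] V
  -- an element vanishing on the fibre over `q`, invertible on the fibre over `p`
  have key : ∀ k, ∃ i : B k ⊗[A] V,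
      (∀ Q : Ideal (B k ⊗[A] V), Q.IsPrime →
        Q.comap (Algebra.TensorProduct.includeRight : V →ₐ[A] B k ⊗[A] V) = q → i ∈ Q) ∧
      (∀ P : Ideal (B k ⊗[A] V), P.IsPrime →
        P.comap (Algebra.TensorProduct.includeRight : V →ₐ[A] B k ⊗[A] V) = p → i ∉ P) := by
    intro k
    let f : V →+* B k ⊗[A] V := (Algebra.TensorProduct.includeRight : V →ₐ[A] B k ⊗[A] V).toRingHom
    let I : Ideal (B k ⊗[A] V) := sInf {Q | Q.IsPrime ∧ Q.comap f = q}
    by_cases hmeet : ∃ c ∈ p.primeCompl, f c ∈ I ⊔ p.map f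
    · obtain ⟨c, hc, hcI⟩ := hmeet
      obtain ⟨i, hi, t, ht, hit⟩ := Submodule.mem_sup.mp hcI
      refine ⟨i, fun Q hQ hQq => Submodule.mem_sInf.mp hi Q ⟨hQ, hQq⟩, fun P hP hPp hiP => hc ?_⟩
      rw [← hPp]
      have : t ∈ P := Ideal.map_le_iff_le_comap.mpr hPp.ge ht
      exact (hit ▸ P.add_mem hiP this : f c ∈ P)
    · push Not at hmeet
      exfalso
      obtain ⟨P, hP, hIP, hdisj⟩ := Ideal.exists_le_prime_disjoint (I ⊔ p.map f)
        (p.primeCompl.map f.toMonoidHom) (Set.disjoint_left.mpr fun x hx hx' => by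
          obtain ⟨c, hc, rfl⟩ := hx'
          exact hmeet c hc hx)
      have hPp : P.comap f = p := le_antisymm
        (fun c hc => by_contra fun hcp => Set.disjoint_left.mp hdisj hc ⟨c, hcp, rfl⟩)
        (Ideal.map_le_iff_le_comap.mp (le_sup_right.trans hIP))
      obtain ⟨Q, hQ, hQP⟩ := Ideal.exists_minimalPrimes_le (le_sup_left.trans hIP)
      haveI := hQ.1.1
      by_cases hQq : Q.comap f ≤ q
      · refine hcon k Q P hQ.1.1 hP hQP (le_antisymm hQq ?_) hPp
        intro v hv
        have : f v ∈ I := Submodule.mem_sInf.mpr fun R hR => by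
          have := hR.2.ge hv
          exact this
        exact hQ.1.2 this
      · obtain ⟨v, hv, hvq⟩ := SetLike.not_le_iff_exists.mp hQq
        obtain ⟨y, hy, hn⟩ := Ideal.exists_mul_mem_of_mem_minimalPrimes hQ hv
        refine hy (Submodule.mem_sInf.mpr fun R hR => ?_)
        refine (hR.1.mem_or_mem (Submodule.mem_sInf.mp hn R hR)).resolve_left fun h' => hvq ?_
        rw [← hR.2]
        exact h'
  choose i hiq hip using key
  choose s hs using fun k => TensorProduct.exists_finset (i k)
  haveI := Fintype.ofFinite ι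
  let C : Subalgebra A V := Algebra.adjoin A ((Finset.univ.biUnion fun k => (s k).image Prod.snd : Finset V) : Set V)
  obtain ⟨k, Q, P, hQ, hP, hQP, hQq, hPp⟩ := H C ⟨_, rfl⟩
  have hmem : ∀ x ∈ s k, x.2 ∈ C := fun x hx => Algebra.subset_adjoin
    (Finset.mem_coe.mpr (Finset.mem_biUnion.mpr ⟨k, Finset.mem_univ _, Finset.mem_image_of_mem _ hx⟩))
  let i' : B k ⊗[A] C := ∑ x ∈ (s k).attach, x.1.1 ⊗ₜ[A] (⟨x.1.2, hmem x.1 x.2⟩ : C)
  have hi' : Algebra.TensorProduct.map (AlgHom.id A (B k)) C.val i' = i k := by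
    rw [map_sum, hs k, ← Finset.sum_attach (s k) (fun x => x.1 ⊗ₜ[A] x.2)]
    exact Finset.sum_congr rfl fun x _ => rfl
  obtain ⟨Q', hQ', hQ'Q, hQ'q⟩ := exists_prime_map C.val Q q hQq
  obtain ⟨P', hP', hP'P, hP'p⟩ := exists_prime_map C.val P p hPp
  have h1 : i' ∈ Q := by
    rw [← hQ'Q, Ideal.mem_comap, hi']
    exact hiq k Q' hQ' hQ'q
  refine hip k P' hP' hP'p ?_
  have h2 := hQP h1
  rw [← hP'P, Ideal.mem_comap, hi'] at h2
  exact h2

end Groth.Agent.HTop83
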