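import Groth.Agent.HTopCov.Spec
import Mathlib.AlgebraicGeometry.AffineTransitionLimit
import Mathlib.CategoryTheory.Comma.Over.Pullback
import Mathlib.CategoryTheory.Filtered.Connected
import Mathlib.CategoryTheory.Limits.Constructions.Over.Connected
import Mathlib.RingTheory.Ideal.MinimalPrime.Localization

/-!
The lifting property for valuation rings passes to cofiltered limits of affine schemes.
-/

set_option backward.isDefEq.respectTransparency false
set_option backward.isDefEq.respectTransparency.types false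

universe w u

noncomputable section

namespace Groth.Agent.HTop83

open CategoryTheory CategoryTheory.Limits AlgebraicGeometry IsLocalRing HTop Groth.Agent.HTopCov

theorem exists_specializes_of_ker_le {B C : CommRingCat.{u}} (φ : B ⟶ C) (p : Spec B)
    (h : RingHom.ker φ.hom ≤ p.asIdeal) : ∃ q : Spec C, Spec.map φ q ⤳ p := by
  haveI := p.2
  obtain ⟨m, hm, hmp⟩ := Ideal.exists_minimalPrimes_le h
  obtain ⟨p', hp', -, hc⟩ := Ideal.exists_comap_eq_of_mem_minimalPrimes (I := ⊥) φ.hom m hm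
  refine ⟨⟨p', hp'⟩, (PrimeSpectrum.le_iff_specializes _ p).mp ?_⟩
  show p'.comap φ.hom ≤ p.asIdeal
  rw [hc]
  exact hmp

/-- Two morphisms to an affine scheme `P` whose kernels on global sections are not comaximal have images with a
common specialization. -/
theorem exists_common_specialization {P Q R : Scheme.{u}} [IsAffine P] [IsAffine Q] [IsAffine R] (a : Q ⟶ P) (b : R ⟶ P)
    (h : RingHom.ker a.appTop.hom ⊔ RingHom.ker b.appTop.hom ≠ ⊤) :
    ∃ (q : Q) (r : R) (p : P), a q ⤳ p ∧ b r ⤳ p := by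
  obtain ⟨M, hM, hle⟩ := Ideal.exists_le_maximal _ h
  obtain ⟨q, hq⟩ := exists_specializes_of_ker_le a.appTop ⟨M, hM.isPrime⟩ (le_sup_left.trans hle)
  obtain ⟨r, hr⟩ := exists_specializes_of_ker_le b.appTop ⟨M, hM.isPrime⟩ (le_sup_right.trans hle)
  refine ⟨Q.isoSpec.inv q, R.isoSpec.inv r, P.isoSpec.inv ⟨M, hM.isPrime⟩, ?_, ?_⟩
  · rw [← Scheme.Hom.comp_apply, ← Scheme.isoSpec_inv_naturality, Scheme.Hom.comp_apply]
    exact hq.map P.isoSpec.inv.continuous
  · rw [← Scheme.Hom.comp_apply, ← Scheme.isoSpec_inv_naturality, Scheme.Hom.comp_apply]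
    exact hr.map P.isoSpec.inv.continuous

variable {Y : Scheme.{u}} [IsAffine Y] {I : Type u} [SmallCategory I] [IsCofiltered I]
  (D : I ⥤ Over Y) [∀ i, IsAffine (D.obj i).left] (c : Cone D) (hc : IsLimit ((Over.forget Y).mapCone c))

/-- The base change of the system along `g`. -/
abbrev bcDiag {R : Scheme.{u}} (g : R ⟶ Y) : I ⥤ Scheme.{u} := D ⋙ Over.pullback g ⋙ Over.forget R

/-- The base change of the limit along `g`. -/
abbrev bcCone {R : Scheme.{u}} (g : R ⟶ Y) : Cone (bcDiag D g) :=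
  (Over.forget R).mapCone ((Over.pullback g).mapCone c)

/-- The base change of the limit is a limit. -/
def isLimitBcCone {R : Scheme.{u}} (g : R ⟶ Y) : IsLimit (bcCone D c g) :=
  haveI : IsConnected I := IsCofiltered.isConnected I
  isLimitOfPreserves (Over.forget R) (isLimitOfPreserves (Over.pullback g) (isLimitOfReflects (Over.forget Y) hc))

instance {R : Scheme.{u}} [IsAffine R] (g : R ⟶ Y) (i : I) : IsAffine ((bcDiag D g).obj i) :=
  inferInstanceAs (IsAffine (pullback (D.obj i).hom g))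

/-- Change of the base point. -/
abbrev stageMap {R R' : Scheme.{u}} (e : R' ⟶ R) (g : R ⟶ Y) (i : I) :
    (bcDiag D (e ≫ g)).obj i ⟶ (bcDiag D g).obj i :=
  pullback.map (D.obj i).hom (e ≫ g) (D.obj i).hom g (𝟙 _) e (𝟙 _) (by simp) (by simp)

/-- Change of the base point on the limit. -/
abbrev limMap {R R' : Scheme.{u}} (e : R' ⟶ R) (g : R ⟶ Y) : (bcCone D c (e ≫ g)).pt ⟶ (bcCone D c g).pt :=
  pullback.map c.pt.hom (e ≫ g) c.pt.hom g (𝟙 _) e (𝟙 _) (by simp) (by simp)

include hc in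
theorem exists_stage {R R' : Scheme.{u}} [IsAffine R'] (e : R' ⟶ R) (g : R ⟶ Y) (i : I)
    (t : Γ((bcDiag D g).obj i, ⊤)) (ε : ℤ)
    (h : (limMap D c e g).appTop (((bcCone D c g).π.app i).appTop t) = (ε : Γ((bcCone D c (e ≫ g)).pt, ⊤))) :
    ∃ (i₁ : I) (f : i₁ ⟶ i),
      ((bcDiag D (e ≫ g)).map f ≫ stageMap D e g i).appTop t = (ε : Γ((bcDiag D (e ≫ g)).obj i₁, ⊤)) := by
  have hnat : (bcCone D c (e ≫ g)).π.app i ≫ stageMap D e g i = limMap D c e g ≫ (bcCone D c g).π.app i := by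
    refine pullback.hom_ext ?_ ?_ <;> simp [stageMap, limMap]
  let t' : Γ((bcDiag D (e ≫ g)).obj i, ⊤) := (stageMap D e g i).appTop t
  obtain ⟨i₁, f, hf⟩ := exists_appTop_map_eq_zero_of_isAffine_of_isLimit (bcDiag D (e ≫ g)) (bcCone D c (e ≫ g))
    (isLimitBcCone D c hc (e ≫ g)) i (t' - (ε : Γ((bcDiag D (e ≫ g)).obj i, ⊤))) (by
      rw [map_sub, map_intCast, sub_eq_zero]
      have := congr(Scheme.Hom.appTop $hnat t)
      rw [Scheme.Hom.comp_appTop, Scheme.Hom.comp_appTop] at this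
      exact this.trans h)
  refine ⟨i₁, f, ?_⟩
  rw [map_sub, map_intCast, sub_eq_zero] at hf
  rw [Scheme.Hom.comp_appTop]
  exact hf

theorem eval_stage {V W M N : CommRingCat.{u}} (φ : V ⟶ W) (g : Spec V ⟶ Y) (q : W ⟶ M) (e : V ⟶ N) (s : N ⟶ M)
    (he : e ≫ s = φ ≫ q) {l i i₁ : I} (u : l ⟶ i₁) (f : i₁ ⟶ i) (m : Spec W ⟶ (D.obj l).left)
    (hm : m ≫ (D.obj l).hom = Spec.map φ ≫ g) (mi : Spec W ⟶ (bcDiag D g).obj i)
    (h₁ : mi ≫ pullback.fst _ _ = m ≫ (D.map (u ≫ f)).left) (h₂ : mi ≫ pullback.snd _ _ = Spec.map φ)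
    (t : Γ((bcDiag D g).obj i, ⊤)) (ε : ℤ)
    (h : ((bcDiag D (Spec.map e ≫ g)).map f ≫ stageMap D (Spec.map e) g i).appTop t =
      (ε : Γ((bcDiag D (Spec.map e ≫ g)).obj i₁, ⊤))) :
    (Spec.map q).appTop (mi.appTop t) = (ε : Γ(Spec M, ⊤)) := by
  let x : Spec M ⟶ (bcDiag D (Spec.map e ≫ g)).obj i₁ :=
    pullback.lift (Spec.map q ≫ m ≫ (D.map u).left) (Spec.map s) (by
      rw [Category.assoc, Category.assoc, Over.w, hm, ← Spec.map_comp_assoc, ← Spec.map_comp_assoc, he])
  have hx : x ≫ (bcDiag D (Spec.map e ≫ g)).map f ≫ stageMap D (Spec.map e) g i = Spec.map q ≫ mi := by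
    refine pullback.hom_ext ?_ ?_
    · simp [x, stageMap, h₁]
    · simp [x, stageMap, h₂, ← Spec.map_comp, he]
  rw [← CommRingCat.comp_apply, ← Scheme.Hom.comp_appTop, ← hx, Scheme.Hom.comp_appTop, CommRingCat.comp_apply, h,
    map_intCast]

/-- An extension of valuation rings induces maps of fraction fields and residue fields. -/
theorem exists_field_maps {V W : Type u} [CommRing V] [IsDomain V] [IsLocalRing V] [CommRing W] [IsDomain W]
    [IsLocalRing W] (φ : V →+* W) (hinj : Function.Injective φ) [IsLocalHom φ] :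
    (∃ s : FractionRing V →+* FractionRing W,
      s.comp (algebraMap V (FractionRing V)) = (algebraMap W (FractionRing W)).comp φ) ∧
    ∃ s : ResidueField V →+* ResidueField W, s.comp (residue V) = (residue W).comp φ :=
  ⟨⟨IsLocalization.map (FractionRing W) φ (nonZeroDivisors_le_comap_nonZeroDivisors_of_injective φ hinj),
      IsLocalization.map_comp _⟩,
    ⟨ResidueField.map φ, ResidueField.map_comp_residue φ⟩⟩

include hc in
theorem ker_sup_ne_top (h : ∀ i, HasValLift (PreZeroHypercover.singleton.{w} (D.obj i).hom))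
    (V : CommRingCat.{u}) [IsDomain V] [ValuationRing V] (g : Spec V ⟶ Y) :
    RingHom.ker (limMap D c (Spec.map (CommRingCat.ofHom (algebraMap V (FractionRing V)))) g).appTop.hom ⊔
      RingHom.ker (limMap D c (Spec.map (CommRingCat.ofHom (residue V))) g).appTop.hom ≠ ⊤ := by
  intro htop
  obtain ⟨j, hj, j', hj', hjj⟩ := Submodule.mem_sup.1 ((Ideal.eq_top_iff_one _).1 htop)
  rw [RingHom.mem_ker] at hj hj'
  have hb1 : (limMap D c (Spec.map (CommRingCat.ofHom (residue V))) g).appTop j = 1 := by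
    have := congrArg (limMap D c (Spec.map (CommRingCat.ofHom (residue V))) g).appTop.hom hjj
    rw [map_add, map_one, hj', add_zero] at this
    exact this
  obtain ⟨i, t, ht⟩ := exists_appTop_π_eq_of_isAffine_of_isLimit (bcDiag D g) (bcCone D c g) (isLimitBcCone D c hc g) j
  obtain ⟨i₁, f₁, h₁⟩ := exists_stage D c hc (Spec.map (CommRingCat.ofHom (algebraMap V (FractionRing V)))) g i t 0
    (((congrArg _ ht).trans hj).trans Int.cast_zero.symm)
  obtain ⟨i₂, f₂, h₂⟩ := exists_stage D c hc (Spec.map (CommRingCat.ofHom (residue V))) g i t 1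
    (((congrArg _ ht).trans hb1).trans Int.cast_one.symm)
  obtain ⟨l, u₁, u₂, hu⟩ := IsCofiltered.cospan f₁ f₂
  obtain ⟨W, _, _, φ, hφ, j₀, m, hm⟩ := h l V g
  haveI := hφ.2
  let m' : Spec W ⟶ (D.obj l).left := m
  have hm' : m' ≫ (D.obj l).hom = Spec.map φ ≫ g := hm
  obtain ⟨mi, hmi₁, hmi₂⟩ : ∃ mi : Spec W ⟶ (bcDiag D g).obj i,
      mi ≫ pullback.fst _ _ = m' ≫ (D.map (u₁ ≫ f₁)).left ∧ mi ≫ pullback.snd _ _ = Spec.map φ :=
    ⟨pullback.lift (m' ≫ (D.map (u₁ ≫ f₁)).left) (Spec.map φ) (by rw [Category.assoc, Over.w]; exact hm'),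
      pullback.lift_fst _ _ _, pullback.lift_snd _ _ _⟩
  obtain ⟨⟨sK, hsK'⟩, ⟨sk, hsk'⟩⟩ := exists_field_maps φ.hom hφ.1
  have e₁ := eval_stage D φ g (CommRingCat.ofHom (algebraMap W (FractionRing W)))
    (CommRingCat.ofHom (algebraMap V (FractionRing V))) (CommRingCat.ofHom sK) (CommRingCat.hom_ext hsK')
    u₁ f₁ m' hm' mi hmi₁ hmi₂ t 0 h₁
  have e₂ := eval_stage D φ g (CommRingCat.ofHom (residue W)) (CommRingCat.ofHom (residue V)) (CommRingCat.ofHom sk)
    (CommRingCat.hom_ext hsk') u₂ f₂ m' hm' mi (hmi₁.trans (by rw [hu])) hmi₂ t 1 h₂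
  obtain ⟨z, hz⟩ : ∃ z : W, (Scheme.ΓSpecIso W).inv z = mi.appTop t :=
    ((ConcreteCategory.isIso_iff_bijective _).1 inferInstance).2 _
  have hq : ∀ {M : CommRingCat.{u}} (q : W ⟶ M), (Spec.map q).appTop ((Scheme.ΓSpecIso W).inv z) =
      (Scheme.ΓSpecIso M).inv (q z) := fun q => congr($((Scheme.ΓSpecIso_inv_naturality q).symm) z)
  rw [← hz, hq] at e₁ e₂
  have hinv : ∀ M : CommRingCat.{u}, Function.Injective (Scheme.ΓSpecIso M).inv :=
    fun M => ((ConcreteCategory.isIso_iff_bijective _).1 inferInstance).1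
  rw [Int.cast_zero, ← map_zero (Scheme.ΓSpecIso (CommRingCat.of (FractionRing W))).inv.hom] at e₁
  rw [Int.cast_one, ← map_one (Scheme.ΓSpecIso (CommRingCat.of (ResidueField W))).inv.hom] at e₂
  have hz0 : z = 0 := IsFractionRing.injective W (FractionRing W) ((hinv _ e₁).trans (map_zero _).symm)
  have h10 := hinv _ e₂
  rw [hz0, map_zero] at h10
  exact zero_ne_one (α := ResidueField W) h10

omit [IsCofiltered I] [IsAffine Y] [∀ i, IsAffine (D.obj i).left] in
theorem exists_lift_of_ker_sup_ne_top [IsAffine Y] [IsAffine c.pt.left] (V : CommRingCat.{u}) [IsDomain V] [ValuationRing V]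
    (g : Spec V ⟶ Y)
    (htop : RingHom.ker (limMap D c (Spec.map (CommRingCat.ofHom (algebraMap V (FractionRing V)))) g).appTop.hom ⊔
      RingHom.ker (limMap D c (Spec.map (CommRingCat.ofHom (residue V))) g).appTop.hom ≠ ⊤) :
    ∃ (W : CommRingCat.{u}) (_ : IsDomain W) (_ : ValuationRing W) (φ : V ⟶ W),
      IsExtVal V W φ ∧ ∃ l : Spec W ⟶ c.pt.left, l ≫ c.pt.hom = Spec.map φ ≫ g := by
  let eK : Spec (CommRingCat.of (FractionRing V)) ⟶ Spec V := Spec.map (CommRingCat.ofHom (algebraMap V (FractionRing V)))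
  let ek : Spec (CommRingCat.of (ResidueField V)) ⟶ Spec V := Spec.map (CommRingCat.ofHom (residue V))
  let a : pullback c.pt.hom (eK ≫ g) ⟶ pullback c.pt.hom g := limMap D c eK g
  let b : pullback c.pt.hom (ek ≫ g) ⟶ pullback c.pt.hom g := limMap D c ek g
  obtain ⟨q, r, p, hqp, hrp⟩ := exists_common_specialization a b htop
  have hq : pullback.snd c.pt.hom g (a q) = (⊥ : PrimeSpectrum V) := by
    rw [← Scheme.Hom.comp_apply, show a ≫ pullback.snd _ _ = pullback.snd _ _ ≫ eK from pullback.lift_snd _ _ _,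
      Scheme.Hom.comp_apply]
    haveI : Subsingleton (Spec (CommRingCat.of (FractionRing V))) :=
      inferInstanceAs (Subsingleton (PrimeSpectrum (FractionRing V)))
    rw [Subsingleton.elim (pullback.snd c.pt.hom (eK ≫ g) q) (⊥ : PrimeSpectrum (FractionRing V))]
    exact PrimeSpectrum.ext ((RingHom.injective_iff_ker_eq_bot (algebraMap V (FractionRing V))).1
      (IsFractionRing.injective V (FractionRing V)))
  have hp : pullback.snd c.pt.hom g p = closedPoint V := by
    have h1 : pullback.snd c.pt.hom g (b r) = closedPoint V := by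
      rw [← Scheme.Hom.comp_apply, show b ≫ pullback.snd _ _ = pullback.snd _ _ ≫ ek from pullback.lift_snd _ _ _,
        Scheme.Hom.comp_apply]
      exact PrimeSpectrum.comap_residue V _
    have h2 := hrp.map (pullback.snd c.pt.hom g).continuous
    rw [h1] at h2
    have hclosed : IsClosed ({closedPoint V} : Set (PrimeSpectrum V)) := IsLocalRing.isClosed_singleton_closedPoint V
    exact h2.mem_closed hclosed rfl
  obtain ⟨W, hW, hW', φ, l, hφ, hl, -⟩ := exists_ext_of_points (pullback.snd c.pt.hom g) hqp hq hp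
  refine ⟨W, hW, hW', φ, hφ, l ≫ pullback.fst c.pt.hom g, ?_⟩
  rw [Category.assoc, pullback.condition, ← Category.assoc, hl]

include hc in
theorem hasValLift_of_isLimit [IsAffine c.pt.left]
    (h : ∀ i, HasValLift (PreZeroHypercover.singleton.{w} (D.obj i).hom)) :
    HasValLift (PreZeroHypercover.singleton.{w} c.pt.hom) := fun V _ _ g => by
  obtain ⟨W, hW, hW', φ, hφ, l, hl⟩ := exists_lift_of_ker_sup_ne_top D c V g (ker_sup_ne_top D c hc h V g)
  exact ⟨W, hW, hW', φ, hφ, PUnit.unit, l, hl⟩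

include hc in
theorem isStandardV_of_isLimit_iff :
    IsStandardV (PreZeroHypercover.singleton.{w} c.pt.hom) ↔
      ∀ i, IsStandardV (PreZeroHypercover.singleton.{w} (D.obj i).hom) := by
  haveI : IsConnected I := IsCofiltered.isConnected I
  haveI : ∀ i, IsAffine ((D ⋙ Over.forget Y).obj i) := fun i => inferInstanceAs (IsAffine (D.obj i).left)
  haveI : IsAffine c.pt.left := Scheme.isAffine_of_isLimit _ hc
  refine ⟨fun h i => ⟨inferInstance, inferInstanceAs (Finite PUnit), fun _ => inferInstanceAs (IsAffine (D.obj i).left),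
    fun V _ _ g => ?_⟩, fun h => ⟨inferInstance, inferInstanceAs (Finite PUnit),
    fun _ => inferInstanceAs (IsAffine c.pt.left), hasValLift_of_isLimit D c hc fun i => (h i).lift⟩⟩
  obtain ⟨W, hW, hW', φ, hφ, j₀, m, hm⟩ := h.lift V g
  refine ⟨W, hW, hW', φ, hφ, PUnit.unit, (show Spec W ⟶ c.pt.left from m) ≫ (c.π.app i).left, ?_⟩
  show ((show Spec W ⟶ c.pt.left from m) ≫ (c.π.app i).left) ≫ (D.obj i).hom = _
  rw [Category.assoc, show (c.π.app i).left ≫ (D.obj i).hom = c.pt.hom from Over.w (c.π.app i)]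
  exact hm

end Groth.Agent.HTop83
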