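import Groth.Agent.UnivOpen.UnibranchAlg
import Mathlib.RingTheory.ZariskisMainTheorem
import Mathlib.RingTheory.NoetherNormalization
import Mathlib.RingTheory.Valuation.ValuationRing
import Mathlib.Algebra.GCDMonoid.IntegrallyClosed
import Mathlib.RingTheory.Spectrum.Prime.RingHom

/-!
# Points with values in absolutely integrally closed valuation rings

A finitely generated algebra over a valuation ring `V` in which every monic polynomial has a root has a
`V`-point as soon as some prime over the generic point specialises to a prime over the closed point.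
-/

set_option autoImplicit false

universe u

noncomputable section

namespace Groth.Agent.HTop83

open MvPolynomial IsLocalRing

variable {V : Type u} [CommRing V]

/-- Every monic polynomial of positive degree has a root. -/
def HasMonicRoots (V : Type u) [CommRing V] : Prop :=
  ∀ p : Polynomial V, p.Monic → p.natDegree ≠ 0 → ∃ a, p.IsRoot a

theorem HasMonicRoots.mem_range_of_isIntegral [IsDomain V] (hV : HasMonicRoots V) {D : Type u} [CommRing D]
    [IsDomain D] [Algebra V D] (x : D) (hx : IsIntegral V x) : x ∈ (algebraMap V D).range := by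
  obtain ⟨p, hp, hpx⟩ := hx
  induction h : p.natDegree using Nat.strong_induction_on generalizing p with
  | _ n ih =>
    by_cases hn : p.natDegree = 0
    · rw [hp.natDegree_eq_zero.1 hn, Polynomial.eval₂_one] at hpx
      exact absurd hpx one_ne_zero
    obtain ⟨a, ha⟩ := hV p hp hn
    obtain ⟨q, hq⟩ := Polynomial.dvd_iff_isRoot.2 ha
    rw [hq] at hp hpx
    have hqm : q.Monic := (Polynomial.monic_X_sub_C a).of_mul_monic_left hp
    rw [Polynomial.eval₂_mul] at hpx
    rcases mul_eq_zero.1 hpx with h0 | h0
    · rw [Polynomial.eval₂_sub, Polynomial.eval₂_X, Polynomial.eval₂_C, sub_eq_zero] at h0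
      exact ⟨a, h0.symm⟩
    · refine ih q.natDegree ?_ q hqm h0 rfl
      rw [← h, hq, (Polynomial.monic_X_sub_C a).natDegree_mul hqm, Polynomial.natDegree_X_sub_C]
      omega

variable [IsDomain V] [ValuationRing V]

/-- A nonzero polynomial over a valuation ring is a constant times one which is nonzero modulo the maximal
ideal. -/
theorem exists_eq_C_mul {σ : Type*} (P : MvPolynomial σ V) (hP : P ≠ 0) :
    ∃ (c : V) (P' : MvPolynomial σ V), c ≠ 0 ∧ P = C c * P' ∧ MvPolynomial.map (residue V) P' ≠ 0 := by
  classical
  have key : ∀ T : Finset (σ →₀ ℕ), T.Nonempty → ∃ i ∈ T, ∀ j ∈ T, P.coeff i ∣ P.coeff j := by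
    intro T hT
    induction T using Finset.induction_on with
    | empty => exact absurd hT (by simp)
    | insert a T ha ih =>
      rcases T.eq_empty_or_nonempty with rfl | hT'
      · exact ⟨a, by simp, by simp⟩
      obtain ⟨i, hi, hdiv⟩ := ih hT'
      rcases ValuationRing.dvd_total (P.coeff i) (P.coeff a) with h | h
      · exact ⟨i, Finset.mem_insert_of_mem hi, fun j hj => by
          rcases Finset.mem_insert.1 hj with rfl | hj
          exacts [h, hdiv j hj]⟩
      · exact ⟨a, Finset.mem_insert_self a T, fun j hj => by
          rcases Finset.mem_insert.1 hj with rfl | hj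
          exacts [dvd_rfl, h.trans (hdiv j hj)]⟩
  obtain ⟨i, hi, hdiv⟩ := key P.support (MvPolynomial.support_nonempty.2 hP)
  have hc : P.coeff i ≠ 0 := MvPolynomial.mem_support_iff.1 hi
  obtain ⟨P', hP'⟩ := (MvPolynomial.C_dvd_iff_dvd_coeff (P.coeff i) P).2 fun j => by
    by_cases hj : j ∈ P.support
    · exact hdiv j hj
    · rw [MvPolynomial.notMem_support_iff.1 hj]
      exact dvd_zero _
  refine ⟨_, P', hc, hP', fun h0 => ?_⟩
  have h1 : P'.coeff i = 1 := by
    have := congrArg (coeff i) hP'
    rw [coeff_C_mul] at this
    exact mul_left_cancel₀ hc (by rw [mul_one]; exact this.symm)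
  have := congrArg (coeff i) h0
  rw [coeff_map, h1, map_one, coeff_zero] at this
  exact one_ne_zero this

variable {B : Type u} [CommRing B] [Algebra V B] [Algebra.FiniteType V B]

theorem exists_algHom_of_domain (hV : HasMonicRoots V) [IsDomain B]
    (hinj : Function.Injective (algebraMap V B)) (p : Ideal B) [p.IsPrime]
    (hp : p.comap (algebraMap V B) = maximalIdeal V) : Nonempty (B →ₐ[V] V) := by
  classical
  -- the special fibre and a Noether normalisation of it
  let mB : Ideal B := (maximalIdeal V).map (algebraMap V B)
  have hmB : mB ≤ p := Ideal.map_le_iff_le_comap.2 hp.ge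
  let S := B ⧸ mB
  haveI : Nontrivial S := Ideal.Quotient.nontrivial_iff.2 fun h =>
    ‹p.IsPrime›.ne_top (top_le_iff.1 (h ▸ hmB))
  letI : Algebra (ResidueField V) S :=
    (Ideal.Quotient.lift (maximalIdeal V) ((Ideal.Quotient.mk mB).comp (algebraMap V B)) fun a ha =>
      Ideal.Quotient.eq_zero_iff_mem.2 (Ideal.mem_map_of_mem _ ha)).toAlgebra
  haveI : IsScalarTower V (ResidueField V) S := IsScalarTower.of_algebraMap_eq fun _ => rfl
  haveI : Algebra.FiniteType (ResidueField V) S := .of_restrictScalars_finiteType V _ _
  obtain ⟨s, g, hg, hgf⟩ := exists_finite_inj_algHom_of_fg (ResidueField V) S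
  choose t ht using fun i : Fin s => Ideal.Quotient.mk_surjective (g (X i))
  let R := MvPolynomial (Fin s) V
  letI : Algebra R B := (MvPolynomial.aeval t).toRingHom.toAlgebra
  haveI : IsScalarTower V R B := IsScalarTower.of_algebraMap_eq fun a => by
    show algebraMap V B a = MvPolynomial.aeval t (C a)
    rw [aeval_C]
  have hmk : ∀ P : R, Ideal.Quotient.mk mB (algebraMap R B P) = g (MvPolynomial.map (residue V) P) := by
    intro P
    induction P using MvPolynomial.induction_on with
    | C a =>
      rw [MvPolynomial.map_C, show (C (residue V a) : MvPolynomial (Fin s) (ResidueField V)) = algebraMap _ _ (residue V a) from rfl, g.commutes]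
      show Ideal.Quotient.mk mB (MvPolynomial.aeval t (C a)) = _
      rw [aeval_C]
      rfl
    | add a b ha hb => simp only [map_add, ha, hb]
    | mul_X a i ha =>
      simp only [map_mul, ha, MvPolynomial.map_X]
      congr 1
      show Ideal.Quotient.mk mB (MvPolynomial.aeval t (X i)) = _
      rw [aeval_X, ht]
  -- the polynomial ring embeds
  have hRB : Function.Injective (algebraMap R B) := by
    refine (injective_iff_map_eq_zero _).2 fun P hP => by_contra fun hP0 => ?_
    obtain ⟨c, P', hc, rfl, hP'⟩ := exists_eq_C_mul P hP0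
    rw [map_mul] at hP
    rcases mul_eq_zero.1 hP with h | h
    · refine hc (hinj ?_)
      rw [map_zero, IsScalarTower.algebraMap_apply V R B]
      exact h
    · apply hP'
      apply hg
      rw [← hmk, h, map_zero, map_zero]
  -- a closed point over the origin of the special fibre
  let J : Ideal B := mB ⊔ Ideal.span (Set.range t)
  have hBJ : J ≠ ⊤ ∧ IsArtinianRing (B ⧸ J) := by
    letI : Algebra (MvPolynomial (Fin s) (ResidueField V)) S := g.toRingHom.toAlgebra
    haveI : Module.Finite (MvPolynomial (Fin s) (ResidueField V)) S := hgf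
    let M₀ : Ideal (MvPolynomial (Fin s) (ResidueField V)) := RingHom.ker (MvPolynomial.aeval (R := ResidueField V) (0 : Fin s → ResidueField V))
    haveI : M₀.IsMaximal := RingHom.ker_isMaximal_of_surjective _ fun a => ⟨C a, by simp⟩
    obtain ⟨Q, hQmax, hQ⟩ := Ideal.exists_ideal_over_maximal_of_isIntegral (S := S) M₀
      ((RingHom.injective_iff_ker_eq_bot _).1 hg ▸ bot_le)
    refine ⟨fun htop => ?_, ?_⟩
    · have hle : J ≤ Q.comap (Ideal.Quotient.mk mB) := by
        refine sup_le (fun a ha => ?_) (Ideal.span_le.2 ?_)
        · rw [Ideal.mem_comap, Ideal.Quotient.eq_zero_iff_mem.2 ha]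
          exact zero_mem _
        · rintro _ ⟨i, rfl⟩
          show Ideal.Quotient.mk mB (t i) ∈ Q
          rw [ht]
          have : (X i : MvPolynomial (Fin s) (ResidueField V)) ∈ M₀ := by simp [M₀, RingHom.mem_ker]
          rw [← hQ] at this
          exact this
      rw [htop, top_le_iff, Ideal.comap_eq_top_iff] at hle
      exact hQmax.ne_top hle
    · let π : S →+* B ⧸ J := Ideal.Quotient.factor le_sup_left
      letI : Algebra (ResidueField V) (B ⧸ J) := (π.comp (algebraMap (ResidueField V) S)).toAlgebra
      have hπ : ∀ P : MvPolynomial (Fin s) (ResidueField V),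
          π (g P) = algebraMap (ResidueField V) (B ⧸ J) (constantCoeff P) := by
        intro P
        induction P using MvPolynomial.induction_on with
        | C a => rw [← MvPolynomial.algebraMap_eq, g.commutes, MvPolynomial.algebraMap_eq, constantCoeff_C]; rfl
        | add a b ha hb => simp only [map_add, ha, hb]
        | mul_X a i ha =>
          have : π (g (X i)) = 0 := by
            rw [← ht]
            show Ideal.Quotient.mk J (t i) = 0
            exact Ideal.Quotient.eq_zero_iff_mem.2 (Submodule.mem_sup_right (Ideal.subset_span ⟨i, rfl⟩))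
          simp [this]
      obtain ⟨F, hF⟩ := Module.finite_def.1 hgf
      haveI : Module.Finite (ResidueField V) (B ⧸ J) := by
        refine ⟨⟨F.image π, ?_⟩⟩
        rw [eq_top_iff]
        intro z _
        obtain ⟨w, rfl⟩ := Ideal.Quotient.factor_surjective (S := mB) (T := J) le_sup_left z
        have hw : w ∈ Submodule.span (MvPolynomial (Fin s) (ResidueField V)) (F : Set S) := hF ▸ Submodule.mem_top
        refine Submodule.span_induction (p := fun w _ => π w ∈ _) (fun x hx => ?_) ?_ (fun x y _ _ hx hy => ?_)
          (fun a x _ hx => ?_) hw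
        · exact Submodule.subset_span (by rw [Finset.coe_image]; exact ⟨x, hx, rfl⟩)
        · rw [map_zero]; exact zero_mem _
        · rw [map_add]; exact add_mem hx hy
        · rw [Algebra.smul_def, map_mul, show algebraMap _ S a = g a from rfl, hπ, ← Algebra.smul_def]
          exact Submodule.smul_mem _ _ hx
      exact IsArtinianRing.of_finite (ResidueField V) (B ⧸ J)
  obtain ⟨x, hxmax, hJx⟩ := Ideal.exists_le_maximal J hBJ.1
  haveI := hxmax.isPrime
  have hmx : mB ≤ x := le_sup_left.trans hJx
  have htx : ∀ i, t i ∈ x := fun i => hJx (Submodule.mem_sup_right (Ideal.subset_span ⟨i, rfl⟩))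
  -- it is isolated in its fibre
  haveI : Algebra.FiniteType R B := .of_restrictScalars_finiteType V _ _
  haveI : Algebra.QuasiFiniteAt R x := by
    refine Algebra.QuasiFiniteAt.of_isOpen_singleton_fiber ⟨x, inferInstance⟩ ?_
    let M : PrimeSpectrum R := PrimeSpectrum.comap (algebraMap R B) ⟨x, inferInstance⟩
    have hsub : PrimeSpectrum.comap (algebraMap R B) ⁻¹' {M} ⊆
        Set.range (PrimeSpectrum.comap (Ideal.Quotient.mk J)) := by
      intro P hP
      have hP' : P.asIdeal.comap (algebraMap R B) = x.comap (algebraMap R B) := congrArg PrimeSpectrum.asIdeal hP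
      rw [range_comap_of_surjective _ _ Ideal.Quotient.mk_surjective, Ideal.mk_ker,
        PrimeSpectrum.mem_zeroLocus]
      refine (sup_le (Ideal.map_le_iff_le_comap.2 fun a ha => ?_) (Ideal.span_le.2 ?_) : J ≤ P.asIdeal)
      · have : algebraMap V R a ∈ x.comap (algebraMap R B) := by
          rw [Ideal.mem_comap, ← IsScalarTower.algebraMap_apply]
          exact hmx (Ideal.mem_map_of_mem _ ha)
        rw [← hP', Ideal.mem_comap, ← IsScalarTower.algebraMap_apply] at this
        exact this
      · rintro _ ⟨i, rfl⟩
        have e : algebraMap R B (X i) = t i := MvPolynomial.aeval_X t i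
        have : (X i : R) ∈ x.comap (algebraMap R B) := by
          rw [Ideal.mem_comap, e]
          exact htx i
        rw [← hP', Ideal.mem_comap, e] at this
        exact this
    haveI := hBJ.2
    haveI : Finite ↑(PrimeSpectrum.comap (algebraMap R B) ⁻¹' {M}) :=
      ((Set.finite_range _).subset hsub).to_subtype
    haveI : T1Space ↑(PrimeSpectrum.comap (algebraMap R B) ⁻¹' {M}) := by
      refine ⟨fun P => ?_⟩
      obtain ⟨Q, hQ⟩ := hsub P.2
      have hc : IsClosed ({P.1} : Set (PrimeSpectrum B)) := by
        rw [PrimeSpectrum.isClosed_singleton_iff_isMaximal, ← hQ]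
        haveI := IsArtinianRing.isMaximal_of_isPrime Q.asIdeal
        exact Ideal.comap_isMaximal_of_surjective _ Ideal.Quotient.mk_surjective
      have : ({P} : Set ↑(PrimeSpectrum.comap (algebraMap R B) ⁻¹' {M})) = Subtype.val ⁻¹' {P.1} := by
        ext z
        simp [Subtype.ext_iff]
      rw [this]
      exact hc.preimage continuous_subtype_val
    exact isOpen_discrete _
  obtain ⟨r, hrx, hbij⟩ := Algebra.ZariskisMainProperty.of_finiteType (R := R) x
  -- going down to the section through the origin
  let B' := integralClosure R B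
  haveI : FaithfulSMul R B' := (faithfulSMul_iff_algebraMap_injective R B').2 fun a b e =>
    hRB (congrArg Subtype.val e)
  haveI : IsIntegrallyClosed V := inferInstance
  haveI : IsIntegrallyClosed R :=
    haveI := UnivOpen.isIntegrallyClosed_mvPolynomial V (ULift.{u} (Fin s))
    IsIntegrallyClosed.of_equiv (renameEquiv V Equiv.ulift).toRingEquiv
  let P₀ : Ideal R := RingHom.ker (constantCoeff : R →+* V)
  haveI : P₀.IsPrime := RingHom.ker_isPrime _
  let x' : Ideal B' := x.comap B'.val.toRingHom
  have hP₀ : P₀ ≤ x'.comap (algebraMap R B') := fun a ha => by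
    show algebraMap R B a ∈ x
    rw [RingHom.mem_ker] at ha
    have key : ∀ P : R, algebraMap R B P - algebraMap V B (constantCoeff P) ∈ x := by
      intro P
      induction P using MvPolynomial.induction_on with
      | C b => rw [constantCoeff_C, ← MvPolynomial.algebraMap_eq, ← IsScalarTower.algebraMap_apply, sub_self]; exact zero_mem _
      | add b c hb hc =>
        simp only [map_add]
        rw [add_sub_add_comm]
        exact add_mem hb hc
      | mul_X b i _ =>
        have e : algebraMap R B (X i) = t i := MvPolynomial.aeval_X t i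
        rw [map_mul, map_mul, constantCoeff_X, mul_zero, map_zero, sub_zero, e]
        exact Ideal.mul_mem_left _ _ (htx i)
    simpa [ha] using key a
  haveI : x'.LiesOver (x'.comap (algebraMap R B')) := ⟨rfl⟩
  obtain ⟨q, hqx, hq, hqP⟩ := Ideal.exists_ideal_le_liesOver_of_le (S := B') x' hP₀
  haveI := hq
  -- `B'/q` is `V`
  let D := B' ⧸ q
  have hVD : Function.Injective (algebraMap V D) := by
    refine (injective_iff_map_eq_zero _).2 fun a ha => ?_
    rw [IsScalarTower.algebraMap_apply V R D, IsScalarTower.algebraMap_apply R B' D] at ha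
    have : algebraMap V R a ∈ P₀ := by
      rw [hqP.over]
      show algebraMap R B' (algebraMap V R a) ∈ q
      rw [← Ideal.Quotient.eq_zero_iff_mem]
      exact ha
    rw [RingHom.mem_ker, MvPolynomial.algebraMap_eq, constantCoeff_C] at this
    exact this
  have hRD : ∀ P : R, algebraMap R D P = algebraMap V D (constantCoeff P) := fun P => by
    rw [IsScalarTower.algebraMap_apply V R D, ← sub_eq_zero, ← map_sub,
      IsScalarTower.algebraMap_apply R B' D, Ideal.Quotient.algebraMap_eq, Ideal.Quotient.eq_zero_iff_mem]
    show P - algebraMap V R (constantCoeff P) ∈ q.comap (algebraMap R B')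
    rw [← Ideal.under_def, ← hqP.over, RingHom.mem_ker, map_sub, MvPolynomial.algebraMap_eq, constantCoeff_C, sub_self]
  have hsurj : Function.Surjective (algebraMap V D) := fun z => by
    obtain ⟨z, rfl⟩ := Ideal.Quotient.mk_surjective z
    obtain ⟨P, hP, hPz⟩ := Algebra.IsIntegral.isIntegral (R := R) (Ideal.Quotient.mk q z)
    refine hV.mem_range_of_isIntegral _ ⟨P.map constantCoeff, hP.map _, ?_⟩
    rw [Polynomial.eval₂_map]
    rw [show (algebraMap V D).comp constantCoeff = algebraMap R D from RingHom.ext fun a => (hRD a).symm]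
    exact hPz
  let ι : V ≃+* D := RingEquiv.ofBijective _ ⟨hVD, hsurj⟩
  let ev : B' →+* V := ι.symm.toRingHom.comp (Ideal.Quotient.mk q)
  have hev : ∀ b, algebraMap V D (ev b) = Ideal.Quotient.mk q b := fun b => ι.apply_symm_apply _
  have hru : IsUnit (ev r) := by
    by_contra hu
    have hm : ev r ∈ maximalIdeal V := hu
    refine hrx ?_
    show r ∈ x'
    have h2 : r - algebraMap V B' (ev r) ∈ q := by
      rw [← Ideal.Quotient.eq_zero_iff_mem, map_sub, ← hev, sub_eq_zero]
      rfl
    have h3 : algebraMap V B' (ev r) ∈ x' := by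
      show algebraMap V B (ev r) ∈ x
      exact hmx (Ideal.mem_map_of_mem _ hm)
    simpa using add_mem (hqx h2) h3
  let e := RingEquiv.ofBijective _ hbij
  let φ : B →+* V := ((IsLocalization.Away.lift r hru : Localization.Away r →+* V).comp e.symm.toRingHom).comp
    (algebraMap B (Localization.Away (r : B)))
  refine ⟨{ φ with commutes' := fun a => ?_ }⟩
  have h1 : algebraMap B (Localization.Away (r : B)) (algebraMap V B a) =
      e (algebraMap B' (Localization.Away r) (algebraMap V B' a)) := by
    show _ = Localization.awayMap B'.val.toRingHom r _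
    rw [Localization.awayMap, IsLocalization.Away.map, IsLocalization.map_eq]
    rfl
  show IsLocalization.Away.lift r hru (e.symm _) = a
  refine (congrArg (fun z => IsLocalization.Away.lift r hru (e.symm z)) h1).trans ?_
  rw [RingEquiv.symm_apply_apply, IsLocalization.Away.lift_eq]
  exact hVD ((hev _).trans rfl)

/-- A `V`-point exists as soon as some prime over `0` lies below some prime over the maximal ideal. -/
theorem exists_algHom_of_pair (hV : HasMonicRoots V) (q p : Ideal B) [q.IsPrime] [p.IsPrime] (hqp : q ≤ p)
    (hq : q.comap (algebraMap V B) = ⊥) (hp : p.comap (algebraMap V B) = maximalIdeal V) :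
    Nonempty (B →ₐ[V] V) := by
  haveI : (p.map (Ideal.Quotient.mk q)).IsPrime :=
    Ideal.map_isPrime_of_surjective Ideal.Quotient.mk_surjective (by rwa [Ideal.mk_ker])
  obtain ⟨φ⟩ := exists_algHom_of_domain (B := B ⧸ q) hV
    (by
      refine (injective_iff_map_eq_zero _).2 fun a ha => ?_
      have : a ∈ q.comap (algebraMap V B) := by
        show algebraMap V B a ∈ q
        rw [← Ideal.Quotient.eq_zero_iff_mem]
        exact ha
      rwa [hq] at this)
    (p.map (Ideal.Quotient.mk q)) (by
      rw [show algebraMap V (B ⧸ q) = (Ideal.Quotient.mk q).comp (algebraMap V B) from rfl, ← Ideal.comap_comap,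
        Ideal.comap_map_of_surjective _ Ideal.Quotient.mk_surjective]
      rw [← RingHom.ker_eq_comap_bot, Ideal.mk_ker, sup_eq_left.2 hqp, hp])
  exact ⟨φ.comp (Ideal.Quotient.mkₐ V q)⟩

end Groth.Agent.HTop83
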