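import Groth.Agent.IntBC.UnibranchDescent
import Groth.Agent.MorLib.UnivHomeo
import Mathlib.RingTheory.Valuation.LocalSubring
import Mathlib.AlgebraicGeometry.Normalization
import Mathlib.AlgebraicGeometry.FunctionField
import Mathlib.FieldTheory.PurelyInseparable.Basic

/-!
Normalization in a purely inseparable extension over a geometrically unibranch base is a universal homeomorphism.
-/

set_option backward.isDefEq.respectTransparency false
set_option backward.isDefEq.respectTransparency.types false

universe u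

noncomputable section

namespace Groth.Agent.HTop83

open CategoryTheory AlgebraicGeometry IsLocalRing Groth.Agent.IntBC

theorem pow_injective_of_expChar {A Ω : Type u} [CommRing A] [Field Ω] (φ : A →+* Ω) (q : ℕ) [hq : ExpChar A q]
    (n : ℕ) : Function.Injective fun x : Ω => x ^ q ^ n := by
  cases hq with
  | zero =>
    intro x y h
    simpa using h
  | prime hp =>
    have hΩ : CharP Ω q := (CharP.charP_iff_prime_eq_zero hp).2 (by rw [← map_natCast φ, CharP.cast_eq_zero, map_zero])
    haveI : ExpChar Ω q := ExpChar.prime hp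
    exact iterateFrobenius_inj Ω q n

/-- The key valuative step: elements of the normal branch which vanish at the closed point vanish at every valuation
centred on the closed point. -/
theorem mem_maximalIdeal_of_branch {O D K F L : Type u} [CommRing O] [IsLocalRing O] [CommRing D] [IsLocalRing D]
    [Algebra O D] [Algebra.IsIntegral O D] [Field K] [Field F] [Field L] (V : ValuationSubring L) (j : K →+* L)
    (κ : O →+* K) (i : K →+* F) (ι : D →+* F) (hι : Function.Injective ι) (hi : i.comp κ = ι.comp (algebraMap O D))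
    (β : O →+* V) [IsLocalHom β] (hβ : V.subtype.comp β = j.comp κ) (y : K) (d : D) (hyd : i y = ι d)
    (hd : d ∈ maximalIdeal D) : ∃ hy : j y ∈ V, (⟨j y, hy⟩ : V) ∈ maximalIdeal V := by
  let N : Subring (K × D) := (i.comp (RingHom.fst K D)).eqLocus (ι.comp (RingHom.snd K D))
  let πD : N →+* D := (RingHom.snd K D).comp N.subtype
  let ηO : O →+* N := (κ.prod (algebraMap O D)).codRestrict N fun z => RingHom.congr_fun hi z
  have hNV : ∀ w : N, j w.1.1 ∈ V := fun w => by
    obtain ⟨Q, hQ, hQ0⟩ := Algebra.IsIntegral.isIntegral (R := O) w.1.2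
    have h1 : Q.eval₂ κ w.1.1 = 0 := i.injective (by
      rw [map_zero, Polynomial.hom_eval₂, hi, show i w.1.1 = ι w.1.2 from w.2, ← Polynomial.hom_eval₂, hQ0, map_zero])
    have h2 : IsIntegral V (j w.1.1) := ⟨Q.map β, hQ.map _, by
      rw [Polynomial.eval₂_map, show (algebraMap V L).comp β = j.comp κ from hβ, ← Polynomial.hom_eval₂, h1, map_zero]⟩
    obtain ⟨v, hv⟩ := IsIntegrallyClosed.isIntegral_iff.1 h2
    exact hv ▸ v.2
  let θ : N →+* V := (j.comp ((RingHom.fst K D).comp N.subtype)).codRestrict V hNV
  have hπ : Function.Injective πD := fun w w' hww => Subtype.ext (Prod.ext (i.injective (by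
    rw [show i w.1.1 = ι w.1.2 from w.2, show i w'.1.1 = ι w'.1.2 from w'.2]
    exact congrArg ι hww)) hww)
  letI := πD.toAlgebra
  haveI : Algebra.IsIntegral N D := ⟨fun x => by
    obtain ⟨Q, hQ, hQ0⟩ := Algebra.IsIntegral.isIntegral (R := O) x
    exact ⟨Q.map ηO, hQ.map _, by rw [Polynomial.eval₂_map]; exact hQ0⟩⟩
  obtain ⟨Q, -, hQ, hQc⟩ := Ideal.exists_ideal_over_prime_of_isIntegral (S := D) ((maximalIdeal V).comap θ) ⊥ (by
    intro w hw
    rw [Ideal.mem_comap, Ideal.mem_bot] at hw
    rw [hπ (hw.trans (map_zero πD).symm)]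
    exact zero_mem _)
  haveI := hQ
  have hQO : Q.comap (algebraMap O D) = maximalIdeal O := by
    refine le_antisymm (le_maximalIdeal (Ideal.IsPrime.ne_top inferInstance)) fun z hz => ?_
    show ηO z ∈ Q.comap (algebraMap N D)
    rw [hQc, Ideal.mem_comap, show θ (ηO z) = β z from Subtype.ext (RingHom.congr_fun hβ z).symm]
    exact map_nonunit β z hz
  have hQmax : Q = maximalIdeal D := eq_maximalIdeal
    (Ideal.isMaximal_of_isIntegral_of_isMaximal_comap (R := O) Q (hQO ▸ maximalIdeal.isMaximal O))
  let w : N := ⟨(y, d), hyd⟩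
  refine ⟨hNV w, ?_⟩
  have : w ∈ Q.comap (algebraMap N D) := by
    show d ∈ Q
    rwa [hQmax]
  rw [hQc] at this
  exact this

/-- At every field valued point over `p` an element of the normal branch takes the value of its residue class. -/
theorem eval_eq_of_branch {A B Ω O D K L F : Type u} [CommRing A] [CommRing B] [CommRing O] [IsLocalRing O]
    [CommRing D] [IsLocalRing D] [Algebra A O] [Algebra O D] [Algebra.IsIntegral O D] [Field Ω] [Field K] [Field L]
    [Field F] (p : Ideal A) [p.IsPrime] [IsLocalization.AtPrime O p] (f : A →+* B) (eB : B →+* L)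
    (heB : Function.Injective eB) (j : K →+* L) (κ : O →+* K) (hκ : ∀ z, j (κ (algebraMap A O z)) = eB (f z))
    (ι : D →+* F) (hι : Function.Injective ι) (i : K →+* F) (hi : i.comp κ = ι.comp (algebraMap O D))
    (g : B →+* Ω) (hgp : ∀ z, g (f z) = 0 ↔ z ∈ p) (y : K) (d : D) (hyd : i y = ι d) (b : B) (hb : j y = eB b)
    (o : O) (a' s : A) (hs : s ∉ p) (hos : o * algebraMap A O s = algebraMap A O a')
    (hmem : d - algebraMap O D o ∈ maximalIdeal D) : g (f s) * g b = g (f a') := by
  let P := RingHom.ker g
  haveI : P.IsPrime := RingHom.ker_isPrime g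
  let BP := Localization.AtPrime P
  let l : BP →+* L := IsLocalization.lift (M := P.primeCompl) (g := eB) fun z =>
    isUnit_iff_ne_zero.2 fun h0 => z.2 (by rw [heB (h0.trans (map_zero eB).symm)]; exact P.zero_mem)
  have hl : ∀ z, l (algebraMap B BP z) = eB z := fun z => IsLocalization.lift_eq _ z
  obtain ⟨V, hV, hVloc⟩ := exists_factor_valuationRing l
  let lV : BP →+* V := l.codRestrict V.toSubring hV
  haveI : IsLocalHom lV := hVloc
  let βO : O →+* BP := IsLocalization.lift (M := p.primeCompl) (g := (algebraMap B BP).comp f) fun z =>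
    IsLocalization.map_units BP (⟨f z.1, fun hz => z.2 ((hgp _).1 hz)⟩ : P.primeCompl)
  have hβ' : ∀ z, βO (algebraMap A O z) = algebraMap B BP (f z) := fun z => IsLocalization.lift_eq _ z
  have hβ : l.comp βO = j.comp κ := IsLocalization.ringHom_ext p.primeCompl (RingHom.ext fun z => by
    simp only [RingHom.comp_apply, hβ', hl, hκ])
  haveI : IsLocalHom βO := ⟨fun z hz => by
    obtain ⟨z', t, rfl⟩ := IsLocalization.exists_mk'_eq p.primeCompl z
    refine (IsLocalization.AtPrime.isUnit_mk'_iff O p z' t).2 fun hz' => ?_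
    have h1 : βO (IsLocalization.mk' O z' t) * βO (algebraMap A O t.1) = algebraMap B BP (f z') := by
      rw [← map_mul, IsLocalization.mk'_spec, hβ']
    have h2 : IsUnit (algebraMap B BP (f z')) := h1 ▸ hz.mul ((IsLocalization.map_units O t).map βO)
    exact (IsLocalization.AtPrime.isUnit_to_map_iff BP P _).1 h2 ((hgp z').2 hz')⟩
  haveI : IsLocalHom (lV.comp βO) := RingHom.isLocalHom_comp _ _
  obtain ⟨hwV, hw⟩ := mem_maximalIdeal_of_branch V j κ i ι hι hi
    (lV.comp βO) hβ (y - κ o) (d - algebraMap O D o)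
    (by rw [map_sub, map_sub, hyd, ← RingHom.comp_apply i κ, hi, RingHom.comp_apply]) hmem
  let x : B := f s * b - f a'
  have hx : lV (algebraMap B BP x) ∈ maximalIdeal V := by
    have : lV (algebraMap B BP x) = lV (algebraMap B BP (f s)) * ⟨_, hwV⟩ := Subtype.ext (by
      show l (algebraMap B BP x) = l (algebraMap B BP (f s)) * j (y - κ o)
      rw [hl, hl, map_sub, map_sub, map_mul, hb, mul_sub, ← hκ a', ← hos, map_mul, map_mul, hκ,
        mul_comm (j (κ o))])
    rw [this]
    exact Ideal.mul_mem_left _ _ hw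
  have hxP : x ∈ P := by
    by_contra hxP
    exact hx ((IsLocalization.map_units BP (⟨x, hxP⟩ : P.primeCompl)).map lV)
  have h := RingHom.mem_ker.1 hxP
  rwa [map_sub, map_mul, sub_eq_zero] at h

/-- The residue characteristic exponent of the branch is that of the field valued point. -/
theorem expChar_of_branch {A Ω O D : Type u} [CommRing A] [CommRing O] [IsLocalRing O] [CommRing D] [IsLocalRing D]
    [Algebra A O] [Algebra O D] [Algebra.IsIntegral O D] [Field Ω] (φ : A →+* Ω) (p : Ideal A) [p.IsPrime]
    [IsLocalization.AtPrime O p] (hp : RingHom.ker φ = p) : ExpChar Ω (ringExpChar (ResidueField D)) := by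
  have hu : ∀ z : p.primeCompl, IsUnit (φ z) := fun z => isUnit_iff_ne_zero.2 fun h0 => z.2 (hp.le h0)
  let χ : O →+* Ω := IsLocalization.lift hu
  have hχ : ∀ z, χ (algebraMap A O z) = φ z := fun z => IsLocalization.lift_eq hu z
  haveI : IsLocalHom χ := ⟨fun a ha => by
    obtain ⟨x, s, rfl⟩ := IsLocalization.exists_mk'_eq p.primeCompl a
    refine (IsLocalization.AtPrime.isUnit_mk'_iff O p x s).2 fun hx => ha.ne_zero ?_
    have h1 : χ (IsLocalization.mk' O x s) * φ s.1 = φ x := by
      rw [← hχ, ← hχ, ← map_mul, IsLocalization.mk'_spec]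
    rw [show φ x = 0 from RingHom.mem_ker.1 (hp.ge hx)] at h1
    exact (mul_eq_zero.1 h1).resolve_right (hu s).ne_zero⟩
  have hmax : (maximalIdeal D).comap (algebraMap O D) = maximalIdeal O :=
    eq_maximalIdeal (Ideal.isMaximal_comap_of_isIntegral_of_isMaximal (R := O) (maximalIdeal D))
  haveI : IsLocalHom (algebraMap O D) := ⟨fun a ha => by
    by_contra hna
    exact ((mem_maximalIdeal _).1 (Ideal.mem_comap.1 (hmax.symm ▸ (mem_maximalIdeal a).2 hna))) ha⟩
  haveI hr : ExpChar (ResidueField D) (ringExpChar (ResidueField D)) := ringExpChar.expChar _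
  haveI : ExpChar (ResidueField O) (ringExpChar (ResidueField D)) :=
    (ResidueField.map (algebraMap O D)).expChar (ResidueField.map (algebraMap O D)).injective _
  exact expChar_of_injective_ringHom (ResidueField.lift χ).injective _

/-- Over a domain with geometrically unibranch local rings, an integral domain extension with purely inseparable
fraction field extension has at most one point over each field valued point. -/
theorem eq_of_branch {A B Ω : Type u} [CommRing A] [IsDomain A] [CommRing B] [IsDomain B] [Algebra A B] [Field Ω]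
    (hinj : Function.Injective (algebraMap A B)) (hint : ∀ b : B, IsIntegral A b) (q : ℕ) [ExpChar A q]
    (hB : ∀ b : B, ∃ (n : ℕ) (a c : A), c ≠ 0 ∧ algebraMap A B c * b ^ q ^ n = algebraMap A B a)
    (hbr : ∀ (p : Ideal A) [p.IsPrime], Branch (Localization.AtPrime p))
    (g₁ g₂ : B →+* Ω) (h : g₁.comp (algebraMap A B) = g₂.comp (algebraMap A B)) : g₁ = g₂ := by
  obtain ⟨φ, hφ⟩ : ∃ φ, g₁.comp (algebraMap A B) = φ := ⟨_, rfl⟩
  rw [hφ] at h
  haveI := RingHom.ker_isPrime φ
  obtain ⟨D, _, _, _, _, hD, hker, hintD, hins⟩ := hbr (RingHom.ker φ)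
  haveI := hD
  haveI := hintD
  let O := Localization.AtPrime (RingHom.ker φ)
  let K := FractionRing A
  let L := FractionRing B
  let F := FractionRing D
  let jK : K →+* L := IsFractionRing.lift (g := (algebraMap B L).comp (algebraMap A B))
    ((IsFractionRing.injective B L).comp hinj)
  have hjK : ∀ a, jK (algebraMap A K a) = algebraMap B L (algebraMap A B a) := fun a => IsFractionRing.lift_algebraMap _ a
  let κ : O →+* K := IsLocalization.lift (M := (RingHom.ker φ).primeCompl) (g := algebraMap A K) fun y =>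
    (isUnit_iff_ne_zero.2 fun h0 => y.2 (by
      rw [IsFractionRing.injective A K (h0.trans (map_zero _).symm)]; exact (RingHom.ker φ).zero_mem))
  have hκ : ∀ a, κ (algebraMap A O a) = algebraMap A K a := fun a => IsLocalization.lift_eq _ a
  haveI : IsDomain O := IsLocalization.isDomain_localization (RingHom.ker φ).primeCompl_le_nonZeroDivisors
  have hOD : Function.Injective (algebraMap O D) := (injective_iff_map_eq_zero _).2 fun a ha => (hker a ha).eq_zero
  have hAD : Function.Injective ((algebraMap D F).comp ((algebraMap O D).comp (algebraMap A O))) :=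
    (IsFractionRing.injective D F).comp (hOD.comp (IsLocalization.injective O (RingHom.ker φ).primeCompl_le_nonZeroDivisors))
  let i : K →+* F := IsFractionRing.lift hAD
  have hiA : ∀ a, i (algebraMap A K a) = algebraMap D F (algebraMap O D (algebraMap A O a)) :=
    fun a => IsFractionRing.lift_algebraMap hAD a
  have hi : i.comp κ = (algebraMap D F).comp (algebraMap O D) :=
    IsLocalization.ringHom_ext (RingHom.ker φ).primeCompl (RingHom.ext fun a => by
      simp only [RingHom.comp_apply, hκ, hiA])
  haveI := expChar_of_branch (O := O) (D := D) φ (RingHom.ker φ) rfl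
  refine RingHom.ext fun b => ?_
  obtain ⟨n, a, c, hc, hbc⟩ := hB b
  have hcK : algebraMap A K c ≠ 0 := fun h0 => hc (IsFractionRing.injective A K (h0.trans (map_zero _).symm))
  obtain ⟨y, hydef⟩ : ∃ y : K, algebraMap A K a / algebraMap A K c = y := ⟨_, rfl⟩
  have hy : jK y = algebraMap B L (b ^ q ^ n) := by
    rw [← hydef, map_div₀, div_eq_iff ((map_ne_zero jK).2 hcK), hjK, hjK, ← map_mul, mul_comm, hbc]
  obtain ⟨d, hd⟩ : ∃ d : D, algebraMap D F d = i y := by
    obtain ⟨P, hP, hP0⟩ := (hint b).pow (q ^ n)
    have h1 : P.eval₂ (algebraMap A K) y = 0 := jK.injective (by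
      rw [map_zero, Polynomial.hom_eval₂, hy, show jK.comp (algebraMap A K) = (algebraMap B L).comp (algebraMap A B) from
        RingHom.ext hjK, ← Polynomial.hom_eval₂, hP0, map_zero])
    refine IsIntegrallyClosed.isIntegral_iff.1 ⟨P.map ((algebraMap O D).comp (algebraMap A O)), hP.map _, ?_⟩
    rw [Polynomial.eval₂_map, show (algebraMap D F).comp ((algebraMap O D).comp (algebraMap A O)) = i.comp (algebraMap A K) from
      RingHom.ext fun z => (hiA z).symm, ← Polynomial.hom_eval₂, h1, map_zero]
  obtain ⟨k, o, hko⟩ := hins d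
  obtain ⟨⟨a', s⟩, hos⟩ := IsLocalization.surj (RingHom.ker φ).primeCompl o
  have key : ∀ g : B →+* Ω, g.comp (algebraMap A B) = φ →
      φ s.1 * g b ^ (q ^ n * ringExpChar (ResidueField D) ^ k) = φ a' := fun g hg => by
    have := eval_eq_of_branch (O := O) (D := D) (RingHom.ker φ) (algebraMap A B) (algebraMap B L)
      (IsFractionRing.injective B L) jK κ (fun z => by rw [hκ, hjK]) (algebraMap D F) (IsFractionRing.injective D F)
      i hi g (fun z => by rw [RingHom.mem_ker, ← hg]; rfl) (y ^ ringExpChar (ResidueField D) ^ k)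
      (d ^ ringExpChar (ResidueField D) ^ k) (by rw [map_pow, map_pow, hd])
      (b ^ (q ^ n * ringExpChar (ResidueField D) ^ k)) (by rw [map_pow, hy, ← map_pow, ← pow_mul])
      o a' s.1 s.2 hos hko
    rwa [map_pow, ← RingHom.comp_apply g, ← RingHom.comp_apply g, hg] at this
  have hs : φ s.1 ≠ 0 := s.2
  have h3 := mul_left_cancel₀ hs ((key g₁ hφ).trans (key g₂ h.symm).symm)
  rw [pow_mul, pow_mul] at h3
  exact pow_injective_of_expChar φ q n (iterateFrobenius_inj Ω (ringExpChar (ResidueField D)) k h3)

/-- Normalization in a purely inseparable extension of the function field of a geometrically unibranch integral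
scheme is a universal homeomorphism. -/
theorem isUnivHomeo_fromNormalization (Y : Scheme.{u}) [IsIntegral Y]
    (hY : ∀ y : Y, CAlg2.IsGeomUnibranch (Y.presheaf.stalk y))
    (L : Type u) [Field L] [Algebra Y.functionField L] [IsPurelyInseparable Y.functionField L]
    [QuasiCompact (Spec.map (CommRingCat.ofHom (algebraMap Y.functionField L)) ≫ Y.fromSpecStalk (genericPoint Y))]
    [QuasiSeparated (Spec.map (CommRingCat.ofHom (algebraMap Y.functionField L)) ≫ Y.fromSpecStalk (genericPoint Y))] :
    FlatMor.IsUnivHomeo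
      (Spec.map (CommRingCat.ofHom (algebraMap Y.functionField L)) ≫ Y.fromSpecStalk (genericPoint Y)).fromNormalization := by
  let f : Spec (CommRingCat.of L) ⟶ Y :=
    Spec.map (CommRingCat.ofHom (algebraMap Y.functionField L)) ≫ Y.fromSpecStalk (genericPoint Y)
  have hfapp : ∀ z, f z = genericPoint Y := fun z => by
    change Y.fromSpecStalk (genericPoint Y) (Spec.map (CommRingCat.ofHom (algebraMap Y.functionField L)) z) = genericPoint Y
    haveI : Subsingleton (Spec (Y.presheaf.stalk (genericPoint Y))) :=
      inferInstanceAs (Subsingleton (PrimeSpectrum Y.functionField))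
    rw [Subsingleton.elim (Spec.map (CommRingCat.ofHom (algebraMap Y.functionField L)) z) (closedPoint _)]
    exact Scheme.fromSpecStalk_closedPoint
  haveI : IsDominant f := ⟨by
    rw [denseRange_iff_closure_range, Set.eq_univ_iff_forall]
    intro y
    refine (genericPoint_specializes y).mem_closed isClosed_closure (subset_closure ⟨closedPoint L, hfapp _⟩)⟩
  haveI : IsDominant f.fromNormalization := by
    haveI : IsDominant (f.toNormalization ≫ f.fromNormalization) := by
      rw [Scheme.Hom.toNormalization_fromNormalization]; infer_instance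
    exact IsDominant.of_comp f.toNormalization f.fromNormalization
  haveI : Surjective f.fromNormalization := ⟨fun y => by
    have h := f.fromNormalization.denseRange
    rw [denseRange_iff_closure_range, f.fromNormalization.isClosedMap.isClosed_range.closure_eq] at h
    show y ∈ Set.range f.fromNormalization
    rw [h]; trivial⟩
  suffices UniversallyInjective f.fromNormalization from
    MorLib.isUnivHomeo_of_universallyClosed f.fromNormalization
  refine ((tfae_universallyInjective f.fromNormalization).out 0 1 rfl rfl).mpr fun Ω _ l₁ l₂ hl => ?_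
  change l₁ ≫ f.fromNormalization = l₂ ≫ f.fromNormalization at hl
  obtain ⟨U, hU, hyU, -⟩ := exists_isAffineOpen_mem_and_subset (U := ⊤)
    (x := (l₁ ≫ f.fromNormalization) (closedPoint Ω)) trivial
  have hfac : ∀ l : Spec (CommRingCat.of Ω) ⟶ f.normalization, l ≫ f.fromNormalization = l₁ ≫ f.fromNormalization →
      ∃ l' : Spec (CommRingCat.of Ω) ⟶ f.normalizationOpenCover.X ⟨U, hU⟩,
        l' ≫ f.normalizationOpenCover.f ⟨U, hU⟩ = l := fun l hl' => by
    refine ⟨IsOpenImmersion.lift (f.normalizationOpenCover.f ⟨U, hU⟩) l ?_, IsOpenImmersion.lift_fac _ _ _⟩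
    rintro _ ⟨z, rfl⟩
    haveI : Subsingleton (Spec (CommRingCat.of Ω)) := inferInstanceAs (Subsingleton (PrimeSpectrum Ω))
    rw [Subsingleton.elim z (closedPoint Ω), ← Scheme.Hom.coe_opensRange, ← f.fromNormalization_preimage ⟨U, hU⟩]
    show (l ≫ f.fromNormalization) (closedPoint Ω) ∈ U
    rw [hl']
    exact hyU
  obtain ⟨m₁, rfl⟩ := hfac l₁ rfl
  obtain ⟨m₂, rfl⟩ := hfac l₂ hl.symm
  obtain ⟨χ₁, rfl⟩ := Spec.map_surjective m₁
  obtain ⟨χ₂, rfl⟩ := Spec.map_surjective m₂
  congr 1
  congr 1
  simp only [Category.assoc, f.ι_fromNormalization ⟨U, hU⟩, ← Spec.map_comp_assoc, cancel_mono] at hl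
  have hχ := congrArg CommRingCat.Hom.hom (Spec.map_injective hl)
  -- the algebra
  haveI : Nonempty U := ⟨⟨_, hyU⟩⟩
  have hη : genericPoint Y ∈ U := (genericPoint_specializes _).mem_open U.2 hyU
  letI : Algebra Γ(Y, U) Γ(Spec (CommRingCat.of L), f ⁻¹ᵁ U) := (f.app U).hom.toAlgebra
  haveI := functionField_isFractionRing_of_isAffineOpen Y U hU
  haveI : IsDomain Γ(Y, U) := IsIntegral.component_integral U
  have htop : f ⁻¹ᵁ U = ⊤ := top_le_iff.1 fun z _ => show f z ∈ U by rw [hfapp]; exact hη
  let e : Γ(Spec (CommRingCat.of L), f ⁻¹ᵁ U) →+* L :=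
    ((Spec (CommRingCat.of L)).presheaf.map (eqToHom htop.symm).op ≫ (Scheme.ΓSpecIso (CommRingCat.of L)).hom).hom
  have he : Function.Bijective e :=
    ((ConcreteCategory.isIso_iff_bijective _).1 inferInstance :
      Function.Bijective ((Spec (CommRingCat.of L)).presheaf.map (eqToHom htop.symm).op ≫
        (Scheme.ΓSpecIso (CommRingCat.of L)).hom))
  have hcomp : ∀ z, e (algebraMap Γ(Y, U) Γ(Spec (CommRingCat.of L), f ⁻¹ᵁ U) z) =
      algebraMap Y.functionField L (algebraMap Γ(Y, U) Y.functionField z) := by
    have h : f.app U ≫ (Spec (CommRingCat.of L)).presheaf.map (eqToHom htop.symm).op ≫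
        (Scheme.ΓSpecIso (CommRingCat.of L)).hom =
        Y.presheaf.germ U (genericPoint Y) hη ≫ CommRingCat.ofHom (algebraMap Y.functionField L) := by
      have h1 : f.app U ≫ (Spec (CommRingCat.of L)).presheaf.map (eqToHom htop.symm).op = f.appLE U ⊤ htop.ge := rfl
      have h2 : (Spec.map (CommRingCat.ofHom (algebraMap Y.functionField L))).appLE ⊤ ⊤ le_top =
          (Spec.map (CommRingCat.ofHom (algebraMap Y.functionField L))).appTop :=
        (Scheme.Hom.app_eq_appLE _).symm
      have hle : (⊤ : (Spec (Y.presheaf.stalk (genericPoint Y))).Opens) ≤ Y.fromSpecStalk (genericPoint Y) ⁻¹ᵁ U :=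
        fun z _ => by
          haveI : Subsingleton (Spec (Y.presheaf.stalk (genericPoint Y))) :=
            inferInstanceAs (Subsingleton (PrimeSpectrum Y.functionField))
          show Y.fromSpecStalk (genericPoint Y) z ∈ U
          rw [Subsingleton.elim z (closedPoint _), Scheme.fromSpecStalk_closedPoint]
          exact hη
      have h3 : (Y.fromSpecStalk (genericPoint Y)).appLE U ⊤ hle =
          Y.presheaf.germ U (genericPoint Y) hη ≫ (Scheme.ΓSpecIso (Y.presheaf.stalk (genericPoint Y))).inv := by
        rw [Scheme.Hom.appLE, Scheme.fromSpecStalk_app hη]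
        simp only [Category.assoc, ← Functor.map_comp]
        rw [Subsingleton.elim (_ ≫ _) (𝟙 (Opposite.op (⊤ : (Spec (Y.presheaf.stalk (genericPoint Y))).Opens))),
          CategoryTheory.Functor.map_id, Category.comp_id]
      rw [reassoc_of% h1, ← Scheme.Hom.appLE_comp_appLE (Spec.map (CommRingCat.ofHom (algebraMap Y.functionField L)))
        (Y.fromSpecStalk (genericPoint Y)) U ⊤ ⊤ hle le_top, h2, h3, Category.assoc, Category.assoc]
      erw [Scheme.ΓSpecIso_naturality (CommRingCat.ofHom (algebraMap Y.functionField L))]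
      erw [Iso.inv_hom_id_assoc]
    exact fun z => congr($h z)
  haveI : IsDomain Γ(Spec (CommRingCat.of L), f ⁻¹ᵁ U) := he.1.isDomain e
  let B := integralClosure Γ(Y, U) Γ(Spec (CommRingCat.of L), f ⁻¹ᵁ U)
  have hinj : Function.Injective (algebraMap Γ(Y, U) B) := fun a a' h => IsFractionRing.injective Γ(Y, U) Y.functionField
    ((algebraMap Y.functionField L).injective (by rw [← hcomp, ← hcomp]; exact congrArg e (congrArg Subtype.val h)))
  let q := ringExpChar Y.functionField
  haveI : ExpChar Y.functionField q := ringExpChar.expChar _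
  haveI : ExpChar Γ(Y, U) q :=
    (algebraMap Γ(Y, U) Y.functionField).expChar (IsFractionRing.injective Γ(Y, U) Y.functionField) q
  refine CommRingCat.hom_ext (eq_of_branch (B := B) hinj (fun b => Algebra.IsIntegral.isIntegral b) q (fun b => ?_)
    (fun p _ => ?_) χ₁.hom χ₂.hom hχ)
  · obtain ⟨n, z, hz⟩ := IsPurelyInseparable.pow_mem Y.functionField q (e b.1)
    obtain ⟨a, c, hc, rfl⟩ := IsFractionRing.div_surjective (A := Γ(Y, U)) z
    have hcK : algebraMap Γ(Y, U) Y.functionField c ≠ 0 := IsFractionRing.to_map_ne_zero_of_mem_nonZeroDivisors hc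
    refine ⟨n, a, c, nonZeroDivisors.ne_zero hc, Subtype.ext (he.1 ?_)⟩
    show e (algebraMap Γ(Y, U) _ c * b.1 ^ q ^ n) = e (algebraMap Γ(Y, U) _ a)
    rw [map_mul, map_pow, hcomp, hcomp, ← hz, ← map_mul, mul_div_cancel₀ _ hcK]
  · let y : Y := hU.fromSpec ⟨p, inferInstance⟩
    have hy : y ∈ U := hU.range_fromSpec.le ⟨_, rfl⟩
    letI := TopCat.Presheaf.algebra_section_stalk Y.presheaf (U := U) ⟨y, hy⟩
    have := hU.isLocalization_stalk' ⟨p, inferInstance⟩ hy
    exact Branch.of_ringEquiv
      (IsLocalization.algEquiv p.primeCompl (Y.presheaf.stalk y) (Localization.AtPrime p)).toRingEquiv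
      (branch_of_isGeomUnibranch (hY y))

end Groth.Agent.HTop83
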