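import Groth.Agent.S0103
import Groth.Agent.HTop83.FlcTriv
import Mathlib.Algebra.Category.Grp.Abelian
import Mathlib.GroupTheory.QuotientGroup.Finite

/-!
# Cohomology of constant p-groups on affine schemes of characteristic p
-/

set_option autoImplicit false
set_option backward.isDefEq.respectTransparency false
set_option backward.isDefEq.respectTransparency.types false

universe u

open CategoryTheory CategoryTheory.Limits AlgebraicGeometry Opposite

namespace Groth.Agent.HTop83

variable (S : Scheme.{u}) [IsAffine S] (p : ℕ) [Fact p.Prime] [CharP Γ(S, ⊤) p]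

theorem subsingleton_H_constP (h q : ℕ) (hq : 2 ≤ q) (N : ℕ) (M : AddCommGrpCat.{u + 1}) [Finite M]
    (hN : Nat.card M ≤ N) (hM : ∀ m : M, p ^ h • m = 0) :
    Subsingleton (EtCoh.H S ((constantSheaf S.smallEtaleTopology AddCommGrpCat.{u + 1}).obj M) q) := by
  induction N generalizing M with
  | zero => exact absurd hN (Nat.not_le.2 Nat.card_pos)
  | succ N ih =>
    by_cases htriv : Subsingleton M
    · have hz : IsZero M := AddCommGrpCat.isZero_of_subsingleton M
      have hz' := (constantSheaf S.smallEtaleTopology AddCommGrpCat.{u + 1}).map_isZero hz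
      refine subsingleton_of_forall_eq 0 fun x => ?_
      rw [← Abelian.Ext.comp_mk₀_id x, hz'.eq_of_src (𝟙 _) 0, Abelian.Ext.mk₀_zero, Abelian.Ext.comp_zero]
    rw [not_subsingleton_iff_nontrivial] at htriv
    have hp := (Fact.out : p.Prime)
    obtain ⟨m, hm, hmp⟩ : ∃ m : M, m ≠ 0 ∧ p • m = 0 := by
      obtain ⟨x, hx⟩ := exists_ne (0 : M)
      classical
      have hex : ∃ k, p ^ k • x = 0 := ⟨h, hM x⟩
      obtain ⟨k, hk⟩ : ∃ k, Nat.find hex = k + 1 := Nat.exists_eq_succ_of_ne_zero fun e => hx (by
        have := Nat.find_spec hex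
        rwa [e, pow_zero, one_smul] at this)
      refine ⟨p ^ k • x, Nat.find_min hex (by omega), ?_⟩
      rw [← mul_smul, ← pow_succ', ← hk]
      exact Nat.find_spec hex
    let i₀ : ZMod p →+ M := ZMod.lift p ⟨zmultiplesHom M m, by simpa using hmp⟩
    let i : ULift.{u + 1} (ZMod p) →+ M := i₀.comp AddEquiv.ulift.toAddMonoidHom
    have hinj : Function.Injective i := by
      show Function.Injective (i₀ ∘ (AddEquiv.ulift : ULift.{u + 1} (ZMod p) ≃+ ZMod p))
      refine Function.Injective.comp ((injective_iff_map_eq_zero i₀).2 fun a ha => ?_) (AddEquiv.injective _)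
      by_contra hne
      obtain ⟨b, hb⟩ : ∃ b : ZMod p, b * a = 1 := ⟨a⁻¹, inv_mul_cancel₀ hne⟩
      have h1 : i₀ (b * a) = 0 := by
        rw [← ZMod.natCast_zmod_val b, ← nsmul_eq_mul, map_nsmul, ha, smul_zero]
      rw [hb] at h1
      have h2 : i₀ ((1 : ℤ) : ZMod p) = 0 := by rw [Int.cast_one]; exact h1
      rw [ZMod.lift_coe] at h2
      exact hm ((one_zsmul m).symm.trans h2)
    let T := ShortComplex.mk (AddCommGrpCat.ofHom i) (AddCommGrpCat.ofHom (QuotientAddGroup.mk' i.range))
      (AddCommGrpCat.hom_ext (AddMonoidHom.ext fun a => (QuotientAddGroup.eq_zero_iff _).2 ⟨a, rfl⟩))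
    have hT : T.ShortExact :=
      { exact := (ShortComplex.ab_exact_iff _).2 fun x hx => (QuotientAddGroup.eq_zero_iff _).1 hx
        mono_f := (AddCommGrpCat.mono_iff_injective _).2 hinj
        epi_g := (AddCommGrpCat.epi_iff_surjective _).2 (QuotientAddGroup.mk'_surjective _) }
    haveI : PreservesFiniteLimits (Functor.const S.Etaleᵒᵖ : AddCommGrpCat.{u + 1} ⥤ _) :=
      ⟨fun J _ _ => preservesLimitsOfShape_of_evaluation _ J fun k =>
        haveI : PreservesLimitsOfShape J (𝟭 AddCommGrpCat.{u + 1}) := inferInstance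
        preservesLimitsOfShape_of_natIso (F := 𝟭 AddCommGrpCat.{u + 1}) (NatIso.ofComponents (fun _ => Iso.refl _))⟩
    haveI : PreservesFiniteLimits (constantSheaf S.smallEtaleTopology AddCommGrpCat.{u + 1}) :=
      comp_preservesFiniteLimits _ _
    haveI : PreservesFiniteColimits (constantSheaf S.smallEtaleTopology AddCommGrpCat.{u + 1}) := by
      haveI : PreservesColimitsOfSize.{0, 0} (constantSheaf S.smallEtaleTopology AddCommGrpCat.{u + 1}) :=
        (EtCore.constAdj S).leftAdjoint_preservesColimits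
      exact PreservesColimitsOfSize.preservesFiniteColimits _
    have hT' := hT.map_of_exact (constantSheaf S.smallEtaleTopology AddCommGrpCat.{u + 1})
    haveI h1 : Subsingleton (EtCoh.H S (EtCoh.const S (ZMod p)) q) := Groth.Agent.S0103.result S p q hq
    haveI : Finite T.X₃ := inferInstanceAs (Finite (M ⧸ i.range))
    have hcard : Nat.card T.X₃ ≤ N := by
      have e := AddSubgroup.card_eq_card_quotient_mul_card_addSubgroup i.range
      have hr : 1 < Nat.card i.range :=
        Finite.one_lt_card_iff_nontrivial.2 ⟨⟨_, i.mem_range.2 ⟨ULift.up 1, rfl⟩⟩, 0, fun he => hm (by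
          have h3 : i₀ 1 = 0 := congrArg Subtype.val he
          rw [← Int.cast_one, ZMod.lift_coe] at h3
          exact (one_zsmul m).symm.trans h3)⟩
      show Nat.card (M ⧸ i.range) ≤ N
      have hpos : 0 < Nat.card (M ⧸ i.range) := Nat.card_pos
      nlinarith [Nat.card_eq_fintype_card (α := Fin 1)]
    haveI h3 : Subsingleton (EtCoh.H S ((constantSheaf S.smallEtaleTopology AddCommGrpCat.{u + 1}).obj T.X₃) q) :=
      ih T.X₃ hcard fun x => by
        obtain ⟨y, rfl⟩ := QuotientAddGroup.mk'_surjective _ x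
        rw [← map_nsmul, hM, map_zero]
    refine subsingleton_of_forall_eq 0 fun x => ?_
    obtain ⟨y, hy⟩ := Abelian.Ext.covariant_sequence_exact₂ _ hT' x
      (@Subsingleton.elim _ h3 _ _)
    rw [← hy, show y = 0 from @Subsingleton.elim _ h1 _ _]
    exact Abelian.Ext.zero_comp _ _ (Abelian.Ext.mk₀ (T.map (constantSheaf S.smallEtaleTopology AddCommGrpCat.{u + 1})).f) _ _

end Groth.Agent.HTop83
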