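import Groth.Agent.HTop83.PhChow
import Groth.Agent.HTopCov.V
import Mathlib.AlgebraicGeometry.Morphisms.FiniteType

/-!
Standard ph coverings refine open coverings and compositions of standard ph coverings; ph coverings are stable
under base change and composition.
-/

set_option backward.isDefEq.respectTransparency false

universe w w' u

noncomputable section

namespace Groth.Agent.HTop83

open CategoryTheory CategoryTheory.Limits AlgebraicGeometry TopologicalSpace HTop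

variable {T : Scheme.{u}}

/-- Near `x`, the morphism `r` factors through a member of `G`. -/
def LiftsAt (G : PreZeroHypercover.{w} T) {R : Scheme.{u}} (r : R ⟶ T) (x : R) : Prop :=
  ∃ (O : Scheme.{u}) (o : O ⟶ R) (i : G.I₀) (h : O ⟶ G.X i),
    IsOpenImmersion o ∧ x ∈ Set.range o ∧ h ≫ G.f i = o ≫ r

theorem liftsAt_comp {G : PreZeroHypercover.{w} T} {R R' : Scheme.{u}} {r : R ⟶ T} (φ : R' ⟶ R) {x : R'}
    (hx : LiftsAt G r (φ x)) : LiftsAt G (φ ≫ r) x := by
  obtain ⟨O, o, i, h, ho, hxo, hc⟩ := hx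
  refine ⟨pullback φ o, pullback.fst φ o, i, pullback.snd φ o ≫ h, inferInstance, ?_, ?_⟩
  · rw [Scheme.Pullback.range_fst]
    exact hxo
  · rw [Category.assoc, hc, ← Category.assoc, ← pullback.condition, Category.assoc]

/-- A proper surjective morphism to an affine scheme which locally factors through the members of `G` gives a
standard ph covering refining `G`. -/
theorem exists_standardPh_of_liftsAt [IsAffine T] (G : PreZeroHypercover.{w} T) {R : Scheme.{u}} (r : R ⟶ T)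
    [IsProper r] [Surjective r] (h : ∀ x, LiftsAt G r x) :
    ∃ F : PreZeroHypercover.{0} T, IsStandardPh F ∧ Nonempty (F.Hom G) := by
  classical
  choose O o i l ho hxo hl using h
  have hV : ∀ x, ∃ V : R.Opens, IsAffineOpen V ∧ x ∈ V ∧ V ≤ (o x).opensRange := fun x => by
    haveI := ho x
    exact exists_isAffineOpen_mem_and_subset (show x ∈ (o x).opensRange from hxo x)
  choose V hVa hxV hVo using hV
  haveI : CompactSpace R := QuasiCompact.compactSpace_of_compactSpace r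
  obtain ⟨t, ht⟩ := isCompact_univ.elim_finite_subcover (fun x : R => (V x : Set R)) (fun x => (V x).2)
    (fun x _ => Set.mem_iUnion.2 ⟨x, hxV x⟩)
  let idx : Fin t.card → R := fun k => (t.equivFin.symm k).1
  let F : PreZeroHypercover.{0} T := ⟨Fin t.card, fun k => (V (idx k)).toScheme, fun k => (V (idx k)).ι ≫ r⟩
  haveI := ho
  let m : ∀ x, (V x).toScheme ⟶ O x := fun x => IsOpenImmersion.lift (o x) (V x).ι (by
    rw [Scheme.Opens.range_ι]
    exact hVo x)
  refine ⟨F, ⟨inferInstance, inferInstanceAs (Finite (Fin _)), fun k => hVa (idx k),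
    R, r, fun k => (V (idx k)).ι, inferInstance, inferInstance, fun k => inferInstanceAs (IsOpenImmersion (V (idx k)).ι),
    fun k => rfl, fun x => ?_⟩, ⟨{ s₀ := fun k => i (idx k), h₀ := fun k => m (idx k) ≫ l (idx k), w₀ := fun k => ?_ }⟩⟩
  · obtain ⟨y, hy, hxy⟩ := Set.mem_iUnion₂.1 (ht (Set.mem_univ x))
    refine ⟨t.equivFin ⟨y, hy⟩, ?_⟩
    show x ∈ Set.range (V (idx (t.equivFin ⟨y, hy⟩))).ι
    rw [Scheme.Opens.range_ι]
    simpa [idx] using hxy
  · show (m (idx k) ≫ l (idx k)) ≫ G.f (i (idx k)) = (V (idx k)).ι ≫ r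
    rw [Category.assoc, hl, ← Category.assoc, IsOpenImmersion.lift_fac]

/-- Every open covering of an affine scheme is refined by a standard ph covering. -/
theorem exists_standardPh_openCover [IsAffine T] (𝒰 : T.OpenCover) :
    ∃ F : PreZeroHypercover.{0} T, IsStandardPh F ∧ Nonempty (F.Hom 𝒰.toPreZeroHypercover) :=
  exists_standardPh_of_liftsAt _ (𝟙 T) fun x => by
    obtain ⟨i, hi⟩ := 𝒰.exists_eq x
    exact ⟨𝒰.X i, 𝒰.f i, i, 𝟙 _, 𝒰.map_prop i, hi, by rw [Category.id_comp, Category.comp_id]⟩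

variable {U : Scheme.{u}}

theorem exists_family_aux [IsAffine T] (f : U ⟶ T) [IsProper f] (E : PreZeroHypercover.{w} T)
    (ι : ∀ j, E.X j ⟶ U) (hι : ∀ j, IsOpenImmersion (ι j)) (hιf : ∀ j, ι j ≫ f = E.f j)
    (F : ∀ j, PreZeroHypercover.{w'} (E.X j)) (hF : ∀ j, IsStandardPh (F j)) (L : List E.I₀) :
    ∃ (σ : Type) (_ : Finite σ) (R : σ → Scheme.{u}) (r : ∀ k, R k ⟶ U),
      (∀ k, IsProper (r k)) ∧ (∀ u : U, ∃ k x, r k x = u) ∧
      ∀ k x, (∃ j ∈ L, r k x ∈ Set.range (ι j)) → LiftsAt (E.bind F) (r k ≫ f) x := by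
  induction L with
  | nil =>
    exact ⟨PUnit, inferInstance, fun _ => U, fun _ => 𝟙 U, fun _ => inferInstance, fun u => ⟨⟨⟩, u, rfl⟩,
      fun k x ⟨j, hj, _⟩ => absurd hj (List.not_mem_nil)⟩
  | cons j L ih =>
    obtain ⟨σ, hσ, R, r, hr, hsurj, hlift⟩ := ih
    obtain ⟨W, g, κ, hg, hgs, hκ, hκg, hκc⟩ := (hF j).exists_proper
    haveI := hι j
    haveI := (hF j).isAffine
    haveI : IsProper (f ≫ T.isoSpec.hom) := inferInstance
    obtain ⟨τ, hτ, C, q, hq, hqs, hql⟩ := exists_proper_extension (A := Γ(T, ⊤)) (f ≫ T.isoSpec.hom) (ι j) g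
    refine ⟨σ × τ, inferInstance, fun k => pullback (r k.1) (q k.2), fun k => pullback.fst _ _ ≫ r k.1,
      fun k => ?_, fun u => ?_, fun k x => ?_⟩
    · haveI := hr k.1
      haveI : IsProper (pullback.fst (r k.1) (q k.2)) := MorphismProperty.pullback_fst _ _ (hq k.2)
      exact MorphismProperty.comp_mem @IsProper _ _ this (hr k.1)
    · obtain ⟨a, x, hx⟩ := hsurj u
      obtain ⟨b, y, hy⟩ := hqs u
      obtain ⟨z, hz, -⟩ := Scheme.Pullback.exists_preimage_pullback (f := r a) (g := q b) x y (hx.trans hy.symm)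
      refine ⟨(a, b), z, ?_⟩
      show r a (pullback.fst (r a) (q b) z) = u
      rw [hz, hx]
    · rintro ⟨j', hj', hx⟩
      rcases List.mem_cons.1 hj' with rfl | hj'L
      · have hx' : q k.2 (pullback.snd (r k.1) (q k.2) x) ∈ Set.range (ι j') := by
          rw [← Scheme.Hom.comp_apply, ← pullback.condition]
          exact hx
        obtain ⟨O, o, h, ho, hxo, hc⟩ := hql k.2 _ hx'
        show LiftsAt _ ((pullback.fst (r k.1) (q k.2) ≫ r k.1) ≫ f) x
        rw [pullback.condition, Category.assoc]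
        refine liftsAt_comp _ ?_
        obtain ⟨z, hz⟩ := hxo
        obtain ⟨i, hi⟩ := hκc (h z)
        haveI := hκ i
        refine ⟨pullback h (κ i), pullback.fst h (κ i) ≫ o, ⟨j', i⟩, pullback.snd h (κ i), inferInstance, ?_, ?_⟩
        · obtain ⟨z', hz'⟩ : z ∈ Set.range (pullback.fst h (κ i)) := by
            rw [Scheme.Pullback.range_fst]
            exact hi
          exact ⟨z', by rw [Scheme.Hom.comp_apply, hz', hz]⟩
        · show pullback.snd h (κ i) ≫ (F j').f i ≫ E.f j' = _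
          rw [← hκg i, ← hιf j']
          simp only [Category.assoc]
          rw [← pullback.condition_assoc, reassoc_of% hc]
      · show LiftsAt _ ((pullback.fst (r k.1) (q k.2) ≫ r k.1) ≫ f) x
        rw [Category.assoc]
        exact liftsAt_comp _ (hlift k.1 _ ⟨j', hj'L, hx⟩)

/-- Composites of standard ph coverings are refined by standard ph coverings. -/
theorem exists_standardPh_bind [IsAffine T] (E : PreZeroHypercover.{w} T) (hE : IsStandardPh E)
    (F : ∀ j, PreZeroHypercover.{w'} (E.X j)) (hF : ∀ j, IsStandardPh (F j)) :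
    ∃ F' : PreZeroHypercover.{0} T, IsStandardPh F' ∧ Nonempty (F'.Hom (E.bind F)) := by
  obtain ⟨U, f, ι, hf, hfs, hι, hιf, hc⟩ := hE.exists_proper
  haveI := hE.finite_index
  haveI := Fintype.ofFinite E.I₀
  obtain ⟨σ, hσ, R, r, hr, hs, hlift⟩ :=
    exists_family_aux f E ι hι hιf F hF (Finset.univ : Finset E.I₀).toList
  let Y : ULift.{u} σ → Scheme.{u} := fun k => R k.down
  let φ : ∀ k, Y k ⟶ T := fun k => r k.down ≫ f
  haveI : ∀ k, IsProper (φ k) := fun k => MorphismProperty.comp_mem @IsProper _ _ (hr k.down) hf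
  haveI := isProper_sigmaDesc φ
  haveI : Surjective (Sigma.desc φ) := ⟨fun t => by
    obtain ⟨u, rfl⟩ := f.surjective t
    obtain ⟨k, x, rfl⟩ := hs u
    exact ⟨Sigma.ι Y ⟨k⟩ x, by rw [← Scheme.Hom.comp_apply, Sigma.ι_desc]; rfl⟩⟩
  refine exists_standardPh_of_liftsAt _ (Sigma.desc φ) fun z => ?_
  obtain ⟨k, y, rfl⟩ := (sigmaOpenCover Y).exists_eq z
  obtain ⟨j, hj⟩ := hc (r k.down y)
  obtain ⟨O, o, i, h, ho, hyo, he⟩ := hlift k.down y ⟨j, by simp, hj⟩
  refine ⟨O, o ≫ Sigma.ι Y k, i, h, inferInstance, ?_, ?_⟩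
  · obtain ⟨a, ha⟩ := hyo
    exact ⟨a, by rw [Scheme.Hom.comp_apply, ha]; rfl⟩
  · rw [Category.assoc, Sigma.ι_desc]
    exact he

/-- Base change of a ph covering along a morphism from an affine scheme is refined by a standard ph covering. -/
theorem IsPhCover.exists_refine {E : PreZeroHypercover.{w} T} (hE : IsPhCover E) {S : Scheme.{u}} [IsAffine S]
    (h : S ⟶ T) : ∃ F : PreZeroHypercover.{0} S, IsStandardPh F ∧ RefinesOver h F E := by
  have hcov : ∀ x : S, ∃ (V : S.Opens) (W : T.affineOpens), x ∈ V ∧ V ≤ h ⁻¹ᵁ W.1 := fun x => by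
    obtain ⟨W, hW, hxW, -⟩ := exists_isAffineOpen_mem_and_subset (show h x ∈ (⊤ : T.Opens) from trivial)
    exact ⟨h ⁻¹ᵁ W, ⟨W, hW⟩, hxW, le_rfl⟩
  choose V W hxV hVW using hcov
  obtain ⟨G, hG, ⟨φ⟩⟩ := exists_standardPh_openCover (S.openCoverOfIsOpenCover V (top_le_iff.1 fun x _ =>
    Opens.mem_iSup.2 ⟨x, hxV x⟩))
  choose F hF href using fun x => hE.2 (W x)
  let a : ∀ k, G.X k ⟶ ((W (φ.s₀ k)).1 : Scheme.{u}) := fun k => φ.h₀ k ≫ h.resLE _ (V (φ.s₀ k)) (hVW (φ.s₀ k))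
  have ha : ∀ k, a k ≫ (W (φ.s₀ k)).1.ι = G.f k ≫ h := fun k => by
    simp only [a, Category.assoc, Scheme.Hom.resLE_comp_ι]
    rw [← φ.w₀ k, Category.assoc]
    rfl
  clear_value a
  haveI := fun k => hG.isAffine_obj k
  obtain ⟨F', hF', ⟨ψ⟩⟩ := exists_standardPh_bind G hG (fun k => (F (φ.s₀ k)).pullback₁ (a k))
    (fun k => HTopCov.standardPh_pullback₁ _ _ (hF _))
  refine ⟨F', hF', fun j => ?_⟩
  have key : ∀ p : (G.bind fun k => (F (φ.s₀ k)).pullback₁ (a k)).I₀,
      ∃ (i : E.I₀) (m : (G.bind fun k => (F (φ.s₀ k)).pullback₁ (a k)).X p ⟶ E.X i),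
        m ≫ E.f i = (G.bind fun k => (F (φ.s₀ k)).pullback₁ (a k)).f p ≫ h := by
    rintro ⟨k, l⟩
    obtain ⟨i, m, hm⟩ := href _ l
    refine ⟨i, pullback.snd (a k) ((F (φ.s₀ k)).f l) ≫ m, ?_⟩
    show _ = (pullback.fst (a k) ((F (φ.s₀ k)).f l) ≫ G.f k) ≫ h
    rw [Category.assoc, hm, ← Category.assoc, ← pullback.condition, Category.assoc, Category.assoc, ha]
  obtain ⟨i, m, hm⟩ := key (ψ.s₀ j)
  exact ⟨i, ψ.h₀ j ≫ m, by rw [Category.assoc, hm, ← Category.assoc, ψ.w₀]⟩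

theorem isPhCover_pullback₁ {S : Scheme.{u}} (g : S ⟶ T) (E : PreZeroHypercover.{w} T) (hE : IsPhCover E) :
    IsPhCover (E.pullback₁ g) := by
  refine ⟨fun i => MorphismProperty.pullback_fst _ _ (hE.1 i), fun U => ?_⟩
  haveI : IsAffine (U.1 : Scheme) := U.2
  obtain ⟨F, hF, href⟩ := IsPhCover.exists_refine hE (U.1.ι ≫ g)
  refine ⟨F, hF, fun j => ?_⟩
  obtain ⟨i, h, hh⟩ := href j
  exact ⟨i, pullback.lift (F.f j ≫ U.1.ι) h (by rw [hh, Category.assoc]), pullback.lift_fst _ _ _⟩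

theorem isPhCover_bind (E : PreZeroHypercover.{w} T) (hE : IsPhCover E)
    (F : ∀ i, PreZeroHypercover.{w'} (E.X i)) (hF : ∀ i, IsPhCover (F i)) : IsPhCover (E.bind F) := by
  refine ⟨fun p => MorphismProperty.comp_mem @LocallyOfFiniteType _ _ ((hF p.1).1 p.2) (hE.1 p.1), fun U => ?_⟩
  obtain ⟨G, hG, href⟩ := hE.2 U
  choose i h hh using href
  haveI := fun j => hG.isAffine_obj j
  haveI : IsAffine (U.1 : Scheme) := U.2
  choose H hH hHref using fun j => IsPhCover.exists_refine (hF (i j)) (h j)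
  obtain ⟨F', hF', ⟨ψ⟩⟩ := exists_standardPh_bind G hG H hH
  refine ⟨F', hF', fun k => ?_⟩
  have key : ∀ p : (G.bind H).I₀, ∃ (q : (E.bind F).I₀) (m : (G.bind H).X p ⟶ (E.bind F).X q),
      m ≫ (E.bind F).f q = (G.bind H).f p ≫ U.1.ι := by
    rintro ⟨j, l⟩
    obtain ⟨a, m, hm⟩ := hHref j l
    refine ⟨⟨i j, a⟩, m, ?_⟩
    show m ≫ (F (i j)).f a ≫ E.f (i j) = ((H j).f l ≫ G.f j) ≫ U.1.ι
    rw [← Category.assoc, hm, Category.assoc, hh, Category.assoc]
  obtain ⟨q, m, hm⟩ := key (ψ.s₀ k)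
  exact ⟨q, ψ.h₀ k ≫ m, by rw [Category.assoc, hm, ← Category.assoc, ψ.w₀]⟩

end Groth.Agent.HTop83
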