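import Groth.Agent.HTop83.Multisection
import Groth.Agent.MorLib.UltraRing
import Mathlib.RingTheory.FinitePresentation
import Mathlib.FieldTheory.IsAlgClosed.Basic

/-!
# The valuative test with algebraically closed fields

A finite family of algebras `C j` over `A` passes the test when every map from `A` to a valuation subring of an
algebraically closed field extends to some `C j`.  The test descends to a finitely generated subring, and only
finitely many extensions are needed for the valuation subrings of one field.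
-/

set_option autoImplicit false

universe u

noncomputable section

namespace Groth.Agent.HTop83

open Filter MvPolynomial

/-- Every map to a valuation subring of an algebraically closed field extends to some member. -/
def ValPoints {A : Type u} [CommRing A] {J : Type} (C : J → Type u) [∀ j, CommRing (C j)]
    [∀ j, Algebra A (C j)] : Prop :=
  ∀ (K : Type u) [Field K] [IsAlgClosed K] (V : ValuationSubring K) (φ : A →+* K), (∀ a, φ a ∈ V) →
    ∃ (j : J) (c : C j →+* K), (∀ z, c z ∈ V) ∧ c.comp (algebraMap A (C j)) = φ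

theorem hasMonicRoots_valuationSubring {K : Type u} [Field K] [IsAlgClosed K] (V : ValuationSubring K) :
    HasMonicRoots V := by
  intro p hp hd
  obtain ⟨x, hx⟩ := IsAlgClosed.exists_root (p.map (algebraMap V K)) (by
    rw [hp.degree_map, Polynomial.degree_eq_natDegree hp.ne_zero]
    exact_mod_cast hd)
  have hint : IsIntegral V x := ⟨p, hp, by rw [← Polynomial.eval_map]; exact hx⟩
  obtain ⟨a, ha⟩ := (IsIntegrallyClosed.isIntegral_iff (R := V) (K := K)).1 hint
  refine ⟨a, ?_⟩
  rw [Polynomial.IsRoot.def, ← ha, Polynomial.eval_map, Polynomial.eval₂_hom] at hx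
  exact (map_eq_zero_iff _ (IsFractionRing.injective V K)).1 hx

variable {A : Type u} [CommRing A]

/-- Finitely many extensions suffice for all valuation subrings of one field. -/
theorem exists_finset_points {J : Type} (C : J → Type u) [∀ j, CommRing (C j)] [∀ j, Algebra A (C j)]
    [∀ j, Algebra.FiniteType A (C j)] (hC : ValPoints (A := A) C) {K : Type u} [Field K] [IsAlgClosed K]
    (φ : A →+* K) :
    ∃ S : Finset (Σ j, C j →+* K), (∀ e ∈ S, e.2.comp (algebraMap A (C e.1)) = φ) ∧
      ∀ V : ValuationSubring K, (∀ a, φ a ∈ V) → ∃ e ∈ S, ∀ z, e.2 z ∈ V := by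
  classical
  by_contra hcon
  push Not at hcon
  let E := {e : Σ j, C j →+* K // e.2.comp (algebraMap A (C e.1)) = φ}
  have hbad : ∀ s : Finset E, ∃ V : ValuationSubring K, (∀ a, φ a ∈ V) ∧ ∀ e ∈ s, ∃ z, e.1.2 z ∉ V := fun s => by
    obtain ⟨V, hV, hz⟩ := hcon (s.image Subtype.val) fun e he => by
      obtain ⟨e', -, rfl⟩ := Finset.mem_image.1 he
      exact e'.2
    exact ⟨V, hV, fun e he => hz e.1 (Finset.mem_image_of_mem _ he)⟩
  choose W hW hWz using hbad
  let U : Ultrafilter (Finset E) := Ultrafilter.of atTop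
  let V₀ : Subring K :=
    { carrier := {x | ∀ᶠ s in (U : Filter (Finset E)), x ∈ W s}
      one_mem' := Eventually.of_forall fun s => one_mem _
      mul_mem' := fun ha hb => (Eventually.and ha hb).mono fun s h => mul_mem h.1 h.2
      zero_mem' := Eventually.of_forall fun s => zero_mem _
      add_mem' := fun ha hb => (Eventually.and ha hb).mono fun s h => add_mem h.1 h.2
      neg_mem' := fun ha => Eventually.mono ha fun s h => neg_mem h }
  let V : ValuationSubring K := ⟨V₀, fun x => by
    show (∀ᶠ s in (U : Filter (Finset E)), x ∈ W s) ∨ ∀ᶠ s in (U : Filter (Finset E)), x⁻¹ ∈ W s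
    exact Ultrafilter.eventually_or.1 (Eventually.of_forall fun s => (W s).mem_or_inv_mem x)⟩
  obtain ⟨j, c, hcV, hc⟩ := hC K V φ fun a => Eventually.of_forall fun s => hW s a
  obtain ⟨T, hT⟩ := Algebra.FiniteType.out (R := A) (A := C j)
  have hgen : ∀ᶠ s in (U : Filter (Finset E)), ∀ z ∈ T, c z ∈ W s :=
    (eventually_all_finset T).2 fun z _ => hcV z
  have he : ∀ᶠ s in (U : Filter (Finset E)), (⟨⟨j, c⟩, hc⟩ : E) ∈ s :=
    (Ultrafilter.of_le atTop) ((eventually_ge_atTop {(⟨⟨j, c⟩, hc⟩ : E)}).mono fun s hs =>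
      Finset.singleton_subset_iff.1 hs)
  obtain ⟨s, hs, hes⟩ := (hgen.and he).exists
  obtain ⟨z, hz⟩ := hWz s _ hes
  apply hz
  clear hz
  have hz' : z ∈ Algebra.adjoin A (T : Set (C j)) := hT ▸ Algebra.mem_top
  induction hz' using Algebra.adjoin_induction with
  | mem x hx => exact hs x hx
  | algebraMap r =>
    rw [show c (algebraMap A (C j) r) = φ r from RingHom.congr_fun hc r]
    exact hW s r
  | add x y _ _ hx hy => rw [map_add]; exact add_mem hx hy
  | mul x y _ _ hx hy => rw [map_mul]; exact mul_mem hx hy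

/-- An ultraproduct of valuation subrings of algebraically closed fields has roots of monic polynomials. -/
theorem hasMonicRoots_ultra {I : Type u} (U : Ultrafilter I) (K : I → Type u) [∀ T, Field (K T)]
    [∀ T, IsAlgClosed (K T)] (V : ∀ T, ValuationSubring (K T)) :
    HasMonicRoots (MorLib.Ultra.subring U (K := K) fun T => (V T : Type u)) := by
  let L := fun T : I => (V T : Type u)
  let W : ValuationSubring (MorLib.Ultra.Field' U K) := MorLib.Ultra.subring U L
  change HasMonicRoots W
  intro p hp hd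
  have hsurj : ∀ w : W, ∃ x : ∀ T, V T,
      MorLib.Ultra.mk U K (MorLib.Ultra.incl (K := K) L x) = (w : MorLib.Ultra.Field' U K) := fun w => w.2
  choose x hx using hsurj
  let P : ∀ T, Polynomial (V T) := fun T =>
    Polynomial.X ^ p.natDegree + ∑ i ∈ Finset.range p.natDegree, Polynomial.C (x (p.coeff i) T) * Polynomial.X ^ i
  have hPm : ∀ T, (P T).Monic := fun T => Polynomial.monic_X_pow_add (by
    refine (Polynomial.degree_sum_le _ _).trans_lt ?_
    rw [Finset.sup_lt_iff (by exact WithBot.bot_lt_coe _)]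
    exact fun i hi => (Polynomial.degree_C_mul_X_pow_le _ _).trans_lt (by exact_mod_cast Finset.mem_range.1 hi))
  have hPd : ∀ T, (P T).natDegree ≠ 0 := fun T h0 => by
    have h1 := Polynomial.natDegree_eq_zero.1 h0
    obtain ⟨c, hc⟩ := h1
    have := congrArg (fun q => q.coeff p.natDegree) hc
    simp only [P, Polynomial.coeff_C, if_neg hd, Polynomial.coeff_add, Polynomial.coeff_X_pow_self,
      Polynomial.finset_sum_coeff, Polynomial.coeff_C_mul_X_pow] at this
    rw [Finset.sum_eq_zero (fun i hi => if_neg (Finset.mem_range.1 hi).ne')] at this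
    simp at this
  choose y hy using fun T => hasMonicRoots_valuationSubring (V T) (P T) (hPm T) (hPd T)
  refine ⟨⟨MorLib.Ultra.mk U K (MorLib.Ultra.incl (K := K) L y), ⟨y, rfl⟩⟩, ?_⟩
  apply Subtype.ext
  show W.subtype (p.eval _) = 0
  rw [← Polynomial.eval₂_at_apply, hp.as_sum]
  simp only [Polynomial.eval₂_add, Polynomial.eval₂_pow, Polynomial.eval₂_X, Polynomial.eval₂_finset_sum,
    Polynomial.eval₂_mul, Polynomial.eval₂_C]
  show MorLib.Ultra.mk U K (MorLib.Ultra.incl L y) ^ p.natDegree +
    ∑ i ∈ Finset.range p.natDegree, ((p.coeff i : W) : MorLib.Ultra.Field' U K) *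
      MorLib.Ultra.mk U K (MorLib.Ultra.incl L y) ^ i = 0
  simp only [← hx, ← map_pow, ← map_mul, ← map_sum, ← map_add]
  rw [← map_zero ((MorLib.Ultra.mk U K).comp (MorLib.Ultra.incl (K := K) L))]
  show MorLib.Ultra.mk U K (MorLib.Ultra.incl L _) = MorLib.Ultra.mk U K (MorLib.Ultra.incl L 0)
  congr 2
  funext T
  have := hy T
  simp only [P, Polynomial.IsRoot.def, Polynomial.eval_add, Polynomial.eval_pow, Polynomial.eval_X,
    Polynomial.eval_finset_sum, Polynomial.eval_mul, Polynomial.eval_C] at this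
  simpa only [Pi.add_apply, Pi.pow_apply, Finset.sum_apply, Pi.mul_apply, Pi.zero_apply] using this

/-- The algebra cut out by finitely many polynomials. -/
abbrev Pres {n : ℕ} {r : ℕ} (f : Fin r → MvPolynomial (Fin n) A) : Type u :=
  MvPolynomial (Fin n) A ⧸ Ideal.span (Set.range f)

theorem pres_hom_iff {n r : ℕ} (f : Fin r → MvPolynomial (Fin n) A) {B : Type u} [CommRing B] (α : A →+* B)
    (x : Fin n → B) : (∀ k, eval₂ α x (f k) = 0) ↔
      ∃ c : Pres f →+* B, c.comp (algebraMap A (Pres f)) = α ∧
        ∀ i, c (Ideal.Quotient.mk _ (X i)) = x i := by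
  constructor
  · intro h
    refine ⟨Ideal.Quotient.lift _ (eval₂Hom α x) fun z hz => ?_, RingHom.ext fun a => ?_, fun i => ?_⟩
    · have : Ideal.span (Set.range f) ≤ RingHom.ker (eval₂Hom α x) :=
        Ideal.span_le.2 (by rintro _ ⟨k, rfl⟩; exact h k)
      exact this hz
    · show eval₂Hom α x (algebraMap A (MvPolynomial (Fin n) A) a) = α a
      rw [MvPolynomial.algebraMap_eq, eval₂Hom_C]
    · show eval₂Hom α x (X i) = x i
      rw [eval₂Hom_X']
  · rintro ⟨c, hc, hx⟩ k
    have e : eval₂Hom α x = c.comp (Ideal.Quotient.mk _) :=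
      MvPolynomial.ringHom_ext (fun a => by rw [eval₂Hom_C]; exact (RingHom.congr_fun hc a).symm)
        fun i => by rw [eval₂Hom_X', RingHom.comp_apply, hx]
    show eval₂Hom α x (f k) = 0
    rw [e, RingHom.comp_apply, Ideal.Quotient.eq_zero_iff_mem.2 (Ideal.subset_span (Set.mem_range_self k)), map_zero]

/-- The test descends to a finitely generated subring. -/
theorem exists_fg_subring_valPoints {J : Type} [Finite J] (n r : J → ℕ)
    (f : ∀ j, Fin (r j) → MvPolynomial (Fin (n j)) A)
    (hA : ∀ (V : Type u) [CommRing V] [IsDomain V] [ValuationRing V], HasMonicRoots V → ∀ α : A →+* V,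
      ∃ (j : J) (c : Pres (f j) →+* V), c.comp (algebraMap A (Pres (f j))) = α) :
    ∃ (B : Subalgebra ℤ A) (_ : B.FG) (g : ∀ j, Fin (r j) → MvPolynomial (Fin (n j)) B),
      (∀ j k, MvPolynomial.map B.val.toRingHom (g j k) = f j k) ∧ ValPoints (A := B) fun j => Pres (g j) := by
  classical
  haveI := Fintype.ofFinite J
  let T₀ : Finset A := Finset.univ.biUnion fun j => Finset.univ.biUnion fun k => (f j k).coeffs
  let I := {T : Finset A // T₀ ⊆ T}
  let B : I → Subalgebra ℤ A := fun T => Algebra.adjoin ℤ (T.1 : Set A)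
  have hg : ∀ (T : I) (j : J) (k : Fin (r j)), ∃ g : MvPolynomial (Fin (n j)) (B T),
      MvPolynomial.map (B T).val.toRingHom g = f j k := fun T j k => by
    refine MvPolynomial.mem_range_map_iff_coeffs_subset.2 fun a ha => ?_
    refine ⟨(⟨a, Algebra.subset_adjoin (T.2 ?_)⟩ : B T), rfl⟩
    exact Finset.mem_biUnion.2 ⟨j, Finset.mem_univ j, Finset.mem_biUnion.2 ⟨k, Finset.mem_univ k, ha⟩⟩
  choose g hgf using hg
  by_contra hcon
  have hbad : ∀ T : I, ¬ ValPoints (A := B T) fun j => Pres (g T j) := fun T h =>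
    hcon ⟨B T, ⟨T.1, rfl⟩, g T, hgf T, h⟩
  simp only [ValPoints] at hbad
  push Not at hbad
  choose K iF iA V φ hφ hno using hbad
  haveI : Nonempty I := ⟨⟨T₀, subset_rfl⟩⟩
  letI : SemilatticeSup I := Subtype.semilatticeSup fun {x y} hx hy => Finset.Subset.trans hx Finset.subset_union_left
  let U : Ultrafilter I := Ultrafilter.of atTop
  let L := fun T : I => (V T : Type u)
  let W : ValuationSubring (MorLib.Ultra.Field' U K) := MorLib.Ultra.subring U L
  have hP : ∀ a : A, ∀ᶠ T in (U : Filter I), a ∈ B T := fun a =>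
    (Ultrafilter.of_le atTop) ((eventually_ge_atTop (⟨insert a T₀, Finset.subset_insert _ _⟩ : I)).mono
      fun T hT => Algebra.subset_adjoin (hT (Finset.mem_insert_self a T₀)))
  let val : A → ∀ T, K T := fun a T => if h : a ∈ B T then φ T ⟨a, h⟩ else 0
  have hval : ∀ a, ∀ᶠ T in (U : Filter I), ∃ h : a ∈ B T, val a T = φ T ⟨a, h⟩ := fun a =>
    (hP a).mono fun T h => ⟨h, dif_pos h⟩
  let α₀ : A →+* MorLib.Ultra.Field' U K :=
    { toFun := fun a => MorLib.Ultra.mk U K (val a)
      map_one' := by
        rw [← map_one (MorLib.Ultra.mk U K), MorLib.Ultra.mk_eq_mk]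
        exact (hval 1).mono fun T ⟨h, e⟩ => by rw [e, Pi.one_apply]; exact map_one (φ T)
      map_mul' := fun a b => by
        rw [← map_mul, MorLib.Ultra.mk_eq_mk]
        exact ((hval a).and ((hval b).and (hval (a * b)))).mono fun T ⟨⟨h1, e1⟩, ⟨h2, e2⟩, h3, e3⟩ => by
          rw [Pi.mul_apply, e1, e2, e3, ← map_mul]; rfl
      map_zero' := by
        rw [← map_zero (MorLib.Ultra.mk U K), MorLib.Ultra.mk_eq_mk]
        exact (hval 0).mono fun T ⟨h, e⟩ => by rw [e, Pi.zero_apply]; exact map_zero (φ T)
      map_add' := fun a b => by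
        rw [← map_add, MorLib.Ultra.mk_eq_mk]
        exact ((hval a).and ((hval b).and (hval (a + b)))).mono fun T ⟨⟨h1, e1⟩, ⟨h2, e2⟩, h3, e3⟩ => by
          rw [Pi.add_apply, e1, e2, e3, ← map_add]; rfl }
  have hα : ∀ a, α₀ a ∈ W := fun a => by
    refine (MorLib.Ultra.mk_mem_subring_iff (U := U) L).2 ((hval a).mono fun T ⟨h, e⟩ => ?_)
    rw [e]
    exact ⟨⟨_, hφ T ⟨a, h⟩⟩, rfl⟩
  let α : A →+* W := α₀.codRestrict W.toSubring hα
  have hroots : HasMonicRoots W := hasMonicRoots_ultra U K V
  obtain ⟨j, c, hc⟩ := hA W hroots α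
  choose x hx using fun i => (c (Ideal.Quotient.mk _ (X i))).2
  -- the point at the members of the family
  have hzero : ∀ k, ∀ᶠ T in (U : Filter I), eval₂ (φ T) (fun i => (x i T : K T)) (g T j k) = 0 := by
    intro k
    have h0 := ((pres_hom_iff (f j) α _).2 ⟨c, hc, fun i => rfl⟩) k
    have h1 : eval₂ α₀ (fun i => MorLib.Ultra.mk U K (MorLib.Ultra.incl (K := K) L (x i))) (f j k) = 0 := by
      have := congrArg (fun z : W => (z : MorLib.Ultra.Field' U K)) h0
      simp only [ZeroMemClass.coe_zero] at this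
      rw [← this]
      rw [show ((eval₂ α (fun i => c (Ideal.Quotient.mk _ (X i))) (f j k) : W) : MorLib.Ultra.Field' U K) =
        W.subtype (eval₂ α (fun i => c (Ideal.Quotient.mk _ (X i))) (f j k)) from rfl, eval₂_comp_left]
      congr 1
      funext i
      exact (hx i)
    let u : A → ∀ T, K T := val
    have h2 : eval₂ α₀ (fun i => MorLib.Ultra.mk U K (MorLib.Ultra.incl (K := K) L (x i))) (f j k) =
        MorLib.Ultra.mk U K (fun T => ∑ d ∈ (f j k).support,
          u ((MvPolynomial.coeff d (f j k))) T * ∏ i ∈ d.support, (x i T : K T) ^ d i) := by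
      rw [MvPolynomial.eval₂_eq', show (fun T => ∑ d ∈ (f j k).support,
          u ((MvPolynomial.coeff d (f j k))) T * ∏ i ∈ d.support, (x i T : K T) ^ d i) =
        ∑ d ∈ (f j k).support, (fun T => u ((MvPolynomial.coeff d (f j k))) T * ∏ i ∈ d.support, (x i T : K T) ^ d i) from
          funext fun T => by rw [Finset.sum_apply], map_sum]
      refine Finset.sum_congr rfl fun d _ => ?_
      show MorLib.Ultra.mk U K (u _) * ∏ i, MorLib.Ultra.mk U K _ ^ d i = _
      rw [Finset.prod_congr rfl (fun i _ => (map_pow (MorLib.Ultra.mk U K) _ (d i)).symm), ← map_prod,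
        ← map_mul]
      congr 1
      funext T
      simp only [Pi.mul_apply, Finset.prod_apply, Pi.pow_apply]
      congr 1
      symm
      refine Finset.prod_subset (Finset.subset_univ _) fun i _ hi => ?_
      rw [Finsupp.notMem_support_iff.1 hi, pow_zero]
    rw [h1, ← map_zero (MorLib.Ultra.mk U K), MorLib.Ultra.mk_eq_mk] at h2
    refine (h2.and ((eventually_all_finset (f j k).support).2 fun d _ => hval ((MvPolynomial.coeff d (f j k))))).mono
      fun T ⟨h, hv⟩ => ?_
    rw [show (0 : K T) = _ from h, MvPolynomial.eval₂_eq]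
    have hco : ∀ d, (((MvPolynomial.coeff d (g T j k)) : B T) : A) = (MvPolynomial.coeff d (f j k)) := fun d => by
      rw [← hgf T j k, coeff_map]; rfl
    have hsupp : (g T j k).support = (f j k).support := by
      ext d
      simp only [MvPolynomial.mem_support_iff, ne_eq]
      rw [← hco d]
      exact not_congr ⟨fun h => by rw [h]; rfl, fun h => Subtype.ext h⟩
    rw [hsupp]
    refine Finset.sum_congr rfl fun d hd => ?_
    obtain ⟨hm, e⟩ := hv d hd
    show _ = u ((MvPolynomial.coeff d (f j k))) T * _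
    rw [show u ((MvPolynomial.coeff d (f j k))) T = φ T ⟨_, hm⟩ from e]
    congr 2
    exact Subtype.ext (hco d)
  obtain ⟨T, hT⟩ := (eventually_all.2 hzero).exists
  obtain ⟨cT, hcT, hcx⟩ := (pres_hom_iff (g T j) (φ T) fun i => (x i T : K T)).1 hT
  obtain ⟨z, hz⟩ : ∃ z, cT z ∉ V T := by
    by_contra h
    push Not at h
    exact hno T j cT h hcT
  apply hz
  clear hz
  obtain ⟨q, rfl⟩ := Ideal.Quotient.mk_surjective z
  induction q using MvPolynomial.induction_on with
  | C a =>
    rw [show cT (Ideal.Quotient.mk _ (C a)) = φ T a from RingHom.congr_fun hcT a]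
    exact hφ T a
  | add p q hp hq => rw [map_add, map_add]; exact add_mem hp hq
  | mul_X p i hp =>
    rw [map_mul, map_mul, hcx]
    exact mul_mem hp (x i T).2

end Groth.Agent.HTop83
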