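import Groth.Agent.HTop83.Ph
import Groth.Agent.HTop83.ValTest
import Groth.Agent.HTop83.Compactify
import Mathlib.AlgebraicGeometry.Stalk
import Mathlib.FieldTheory.IsAlgClosed.AlgebraicClosure

/-!
# Proper refinements of families passing the valuative test
-/

set_option autoImplicit false
set_option backward.isDefEq.respectTransparency false
set_option backward.isDefEq.respectTransparency.types false

universe u

noncomputable section

namespace Groth.Agent.HTop83

open CategoryTheory CategoryTheory.Limits AlgebraicGeometry TopologicalSpace IsLocalRing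

variable {A : Type u} [CommRing A] {J : Type} (C : J → Type u) [∀ j, CommRing (C j)] [∀ j, Algebra A (C j)]

/-- A finite family of algebras as a family of affine schemes over `Spec A`. -/
def affFam : PreZeroHypercover.{0} (Spec (CommRingCat.of A)) :=
  ⟨J, fun j => Spec (CommRingCat.of (C j)), fun j => Spec.map (CommRingCat.ofHom (algebraMap A (C j)))⟩

/-- A point of a scheme with values in a field specialises along valuation subrings of that field. -/
theorem exists_valuationSubring_point {R : Scheme.{u}} {K : Type u} [Field K]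
    (ξ : Spec (CommRingCat.of K) ⟶ R) (x : R) (h : ξ (closedPoint K) ⤳ x) :
    ∃ (V : ValuationSubring K) (l : Spec (CommRingCat.of V) ⟶ R),
      Spec.map (CommRingCat.ofHom V.subtype) ≫ l = ξ ∧ l (closedPoint V) = x := by
  let f : R.presheaf.stalk x ⟶ CommRingCat.of K :=
    R.presheaf.stalkSpecializes h ≫ Scheme.stalkClosedPointTo ξ
  obtain ⟨V, hV, hloc⟩ := exists_factor_valuationRing f.hom
  let f' : R.presheaf.stalk x ⟶ CommRingCat.of V := CommRingCat.ofHom (f.hom.codRestrict V.toSubring hV)
  refine ⟨V, Spec.map f' ≫ R.fromSpecStalk x, ?_, ?_⟩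
  · have e : f' ≫ CommRingCat.ofHom V.subtype = f := rfl
    rw [← Category.assoc, ← Spec.map_comp, e, Spec.map_comp, Category.assoc,
      Scheme.SpecMap_stalkSpecializes_fromSpecStalk, Scheme.Spec_stalkClosedPointTo_fromSpecStalk]
  · rw [Scheme.Hom.comp_apply]
    have : Spec.map f' (closedPoint V) = closedPoint (R.presheaf.stalk x) :=
      comap_closedPoint (S := V) (f.hom.codRestrict V.toSubring hV)
    rw [this, R.fromSpecStalk_closedPoint]

theorem image_specializes {K : Type u} [Field K] {R : Scheme.{u}} (m : Spec (CommRingCat.of K) ⟶ R)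
    [QuasiCompact m] (x : m.image) : m.toImage (closedPoint K) ⤳ x := by
  rw [← m.imageι.isClosedEmbedding.isInducing.specializes_iff, ← Scheme.Hom.comp_apply,
    Scheme.Hom.toImage_imageι, specializes_iff_mem_closure]
  have h : m.imageι x ∈ closure (Set.range m) := by
    have : m.imageι x ∈ Set.range m.ker.subschemeι := ⟨x, rfl⟩
    rwa [Scheme.IdealSheafData.range_subschemeι, Scheme.Hom.support_ker] at this
  refine closure_mono ?_ h
  rintro _ ⟨y, rfl⟩
  exact congrArg m (Subsingleton.elim (α := PrimeSpectrum K) y (closedPoint K))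

variable [∀ j, Algebra.FiniteType A (C j)]

/-- Over the closure of a point, a family passing the valuative test is refined by a proper morphism. -/
theorem exists_proper_liftsAt (hC : ValPoints (A := A) C) (p : PrimeSpectrum A) :
    ∃ (R : Scheme.{u}) (r : R ⟶ Spec (CommRingCat.of A)),
      IsProper r ∧ p ∈ Set.range r ∧ ∀ x, LiftsAt (affFam C) r x := by
  classical
  let K := AlgebraicClosure p.asIdeal.ResidueField
  let φ : A →+* K := (algebraMap p.asIdeal.ResidueField K).comp (algebraMap A p.asIdeal.ResidueField)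
  obtain ⟨S, hS, hcov⟩ := exists_finset_points C hC φ
  choose Q q ι hq hι hιq using fun j => exists_compactification A (C j)
  have key : ∀ L : List (Σ j, C j →+* K), (∀ e ∈ L, e.2.comp (algebraMap A (C e.1)) = φ) →
      ∃ (R : Scheme.{u}) (r : R ⟶ Spec (CommRingCat.of A)) (ξ : Spec (CommRingCat.of K) ⟶ R),
        IsProper r ∧ ξ ≫ r = Spec.map (CommRingCat.ofHom φ) ∧ (∀ x, ξ (closedPoint K) ⤳ x) ∧
        ∀ e ∈ L, ∃ π : R ⟶ Q e.1, π ≫ q e.1 = r ∧ ξ ≫ π = Spec.map (CommRingCat.ofHom e.2) ≫ ι e.1 := by
    intro L hL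
    induction L with
    | nil =>
      let m := Spec.map (CommRingCat.ofHom φ)
      refine ⟨m.image, m.imageι, m.toImage, inferInstance, m.toImage_imageι, image_specializes m, ?_⟩
      simp
    | cons e L ih =>
      obtain ⟨R, r, ξ, hr, hξr, -, hπ⟩ := ih fun e' he' => hL e' (List.mem_cons_of_mem _ he')
      haveI := hq e.1
      let m : Spec (CommRingCat.of K) ⟶ pullback r (q e.1) :=
        pullback.lift ξ (Spec.map (CommRingCat.ofHom e.2) ≫ ι e.1) (by
          rw [hξr, Category.assoc, hιq, ← Spec.map_comp, ← CommRingCat.ofHom_comp, hL e List.mem_cons_self])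
      haveI : IsProper (pullback.fst r (q e.1) ≫ r) :=
        MorphismProperty.comp_mem @IsProper _ _ (MorphismProperty.pullback_fst _ _ (hq e.1)) hr
      haveI : QuasiSeparatedSpace ↥(pullback r (q e.1)) :=
        quasiSeparatedSpace_of_quasiSeparated (pullback.fst r (q e.1) ≫ r)
      haveI : QuasiCompact m := quasiCompact_of_compactSpace m
      refine ⟨m.image, m.imageι ≫ pullback.fst r (q e.1) ≫ r, m.toImage, inferInstance,
        by rw [Scheme.Hom.toImage_imageι_assoc, pullback.lift_fst_assoc, hξr], image_specializes m,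
        fun e' he' => ?_⟩
      rcases List.mem_cons.1 he' with rfl | he'
      · exact ⟨m.imageι ≫ pullback.snd r (q e'.1), by rw [Category.assoc, pullback.condition],
          by rw [Scheme.Hom.toImage_imageι_assoc, pullback.lift_snd]⟩
      · obtain ⟨π, h1, h2⟩ := hπ e' he'
        exact ⟨m.imageι ≫ pullback.fst r (q e.1) ≫ π, by simp only [Category.assoc, h1],
          by rw [Scheme.Hom.toImage_imageι_assoc, pullback.lift_fst_assoc, h2]⟩
  obtain ⟨R, r, ξ, hr, hξr, hdense, hπ⟩ := key S.toList fun e he => hS e (Finset.mem_toList.1 he)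
  refine ⟨R, r, hr, ⟨ξ (closedPoint K), ?_⟩, fun x => ?_⟩
  · rw [← Scheme.Hom.comp_apply, hξr]
    refine PrimeSpectrum.ext ?_
    refine Ideal.ext fun a => ?_
    show φ a ∈ (closedPoint K).asIdeal ↔ a ∈ p.asIdeal
    refine Iff.trans ⟨fun h => ?_, fun h => (show φ a = 0 from h) ▸ zero_mem _⟩
      ((map_eq_zero (algebraMap p.asIdeal.ResidueField K)).trans Ideal.algebraMap_residueField_eq_zero)
    by_contra h0
    exact (closedPoint K).isPrime.ne_top (Ideal.eq_top_of_isUnit_mem _ h (Ne.isUnit h0))
  obtain ⟨V, l, hl, hlx⟩ := exists_valuationSubring_point ξ x (hdense x)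
  obtain ⟨ψ, hψ⟩ := Spec.map_surjective (l ≫ r)
  have hψφ : V.subtype.comp ψ.hom = φ := by
    have : Spec.map (ψ ≫ CommRingCat.ofHom V.subtype) = Spec.map (CommRingCat.ofHom φ) := by
      rw [Spec.map_comp, hψ, ← Category.assoc, hl, hξr]
    exact congrArg CommRingCat.Hom.hom (Spec.map_injective this)
  obtain ⟨⟨j, c⟩, hjS, hcV⟩ := hcov V fun a => by rw [← hψφ]; exact (ψ.hom a).2
  obtain ⟨π, hπ1, hπ2⟩ := hπ ⟨j, c⟩ (Finset.mem_toList.2 hjS)
  let c' : C j →+* V := c.codRestrict V.toSubring hcV
  haveI := hq j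
  haveI : IsDominant (Spec.map (CommRingCat.ofHom V.subtype)) := by
    refine ⟨dense_iff_closure_eq.2 (Set.eq_univ_of_forall fun y => ?_)⟩
    have hb : (⊥ : PrimeSpectrum V) ∈ Set.range (Spec.map (CommRingCat.ofHom V.subtype)) := by
      refine ⟨closedPoint K, PrimeSpectrum.ext ?_⟩
      show Ideal.comap V.subtype (closedPoint K).asIdeal = ⊥
      rw [show (closedPoint K).asIdeal = (⊥ : Ideal K) from (Ideal.eq_bot_or_top _).resolve_right (closedPoint K).isPrime.ne_top]
      exact (RingHom.injective_iff_ker_eq_bot V.subtype).1 Subtype.val_injective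
    exact closure_mono (Set.singleton_subset_iff.2 hb)
      ((PrimeSpectrum.le_iff_specializes _ _).1 (bot_le : (⊥ : PrimeSpectrum V) ≤ y)).mem_closure
  have hcomp : l ≫ π = Spec.map (CommRingCat.ofHom c') ≫ ι j := by
    refine ext_of_isDominant_of_isSeparated (q j) ?_ (Spec.map (CommRingCat.ofHom V.subtype)) ?_
    · rw [Category.assoc, hπ1, ← hψ, Category.assoc, hιq, ← Spec.map_comp, ← CommRingCat.ofHom_comp]
      congr 1
      refine CommRingCat.hom_ext (RingHom.ext fun a => Subtype.ext ?_)
      exact (RingHom.congr_fun hψφ a).trans (RingHom.congr_fun (hS _ hjS) a).symm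
    · rw [← Category.assoc, hl, hπ2, ← Category.assoc, ← Spec.map_comp, ← CommRingCat.ofHom_comp]
      rfl
  haveI := hι j
  refine ⟨pullback π (ι j), pullback.fst π (ι j), j, pullback.snd π (ι j), inferInstance, ?_, ?_⟩
  · rw [Scheme.Pullback.range_fst]
    show π x ∈ Set.range (ι j)
    rw [← hlx, ← Scheme.Hom.comp_apply, hcomp]
    exact ⟨_, rfl⟩
  · show pullback.snd π (ι j) ≫ Spec.map (CommRingCat.ofHom (algebraMap A (C j))) = _
    rw [← hιq, ← Category.assoc, ← pullback.condition, Category.assoc, hπ1]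

end Groth.Agent.HTop83
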