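import Groth.Agent.HTop83.Ph
import Groth.Agent.HTopCov.Square
import Groth.Agent.BlowUpLib.Glue

/-!
Finite jointly surjective families of proper morphisms are ph coverings; ph sheaves and blow up squares.
-/

set_option backward.isDefEq.respectTransparency false
set_option backward.isDefEq.respectTransparency.types false

universe w u

noncomputable section

namespace Groth.Agent.HTop83

open CategoryTheory CategoryTheory.Limits AlgebraicGeometry IsLocalRing HTop Opposite Groth.Agent.HTopCov

variable {S T : Scheme.{u}}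

/-- A finite jointly surjective family of proper morphisms is a ph covering. -/
theorem isPhCover_of_proper_family (E : PreZeroHypercover.{u} T) [Finite E.I₀] (hp : ∀ i, IsProper (E.f i))
    (hs : ∀ t, ∃ i x, E.f i x = t) : IsPhCover E := by
  refine ⟨fun i => haveI := hp i; inferInstance, fun U => ?_⟩
  haveI : IsAffine (U.1 : Scheme) := U.2
  let Y : E.I₀ → Scheme.{u} := fun i => pullback U.1.ι (E.f i)
  let φ : ∀ i, Y i ⟶ (U.1 : Scheme) := fun i => pullback.fst _ _
  haveI : ∀ i, IsProper (φ i) := fun i => MorphismProperty.pullback_fst _ _ (hp i)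
  haveI := isProper_sigmaDesc φ
  haveI : Surjective (Sigma.desc φ) := ⟨fun t => by
    obtain ⟨i, x, hx⟩ := hs (U.1.ι t)
    obtain ⟨z, hz, -⟩ := Scheme.Pullback.exists_preimage_pullback (f := U.1.ι) (g := E.f i) t x hx.symm
    exact ⟨Sigma.ι Y i z, by rw [← Scheme.Hom.comp_apply, Sigma.ι_desc]; exact hz⟩⟩
  obtain ⟨F, hF, ⟨ψ⟩⟩ := exists_standardPh_of_liftsAt (E.pullback₁ U.1.ι) (Sigma.desc φ) fun z => by
    obtain ⟨i, y, rfl⟩ := (sigmaOpenCover Y).exists_eq z
    exact ⟨Y i, Sigma.ι Y i, i, 𝟙 _, inferInstance, ⟨y, rfl⟩, by rw [Category.id_comp, Sigma.ι_desc]; rfl⟩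
  refine ⟨F, hF, fun j => ⟨ψ.s₀ j, ψ.h₀ j ≫ pullback.snd _ _, ?_⟩⟩
  rw [Category.assoc, ← pullback.condition, ← Category.assoc]
  exact congr($(ψ.w₀ j) ≫ U.1.ι)

variable {E Z X' X : Over S}

theorem isSheafFor_of_proper_family (F : ShPh S) {X : Over S} {ι : Type u} [Finite ι] (Z : ι → Over S) (g : ∀ i, Z i ⟶ X)
    (hp : ∀ i, IsProper (g i).left)     (hs : ∀ t : X.left, ∃ i x, (g i).left x = t) : Presieve.IsSheafFor F.obj (Presieve.ofArrows Z g) := by
  let E : PreZeroHypercover.{u} X.left := ⟨ι, fun i => (Z i).left, fun i => (g i).left⟩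
  haveI : Finite E.I₀ := ‹Finite ι›
  have hE : IsPhCover E := isPhCover_of_proper_family E hp hs
  rw [Presieve.isSheafFor_iff_generate]
  refine (isSheaf_iff_isSheaf_of_type _ _).mp F.property _ ?_
  rw [GrothendieckTopology.mem_over_iff]
  refine phPrecoverage.toGrothendieck.superset_covering (le_of_eq (Sieve.overEquiv_ofArrows Z g).symm) ?_
  exact Precoverage.generate_mem_toGrothendieck ((presieve₀_mem_phPrecoverage_iff E).mpr hE)

variable {E Z X' X : Over S}

/-- The descent statement behind the two square theorems. -/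
theorem existsUnique_glue (F : ShPh S) (e : E ⟶ X') (π : E ⟶ Z) (b : X' ⟶ X) (i : Z ⟶ X)
    [IsClosedImmersion i.left] [IsProper b.left]
    (hsq : IsPullback e.left π.left b.left i.left)
    (hsurj : ∀ x : X.left, x ∉ Set.range i.left → ∃ y, b.left y = x)
    (hinj : ∀ ⦃K : Type u⦄ [Field K] (l₁ l₂ : Spec (CommRingCat.of K) ⟶ X'.left),
      l₁ ≫ b.left = l₂ ≫ b.left → (∀ k, (l₁ ≫ b.left) k ∉ Set.range i.left) → l₁ = l₂)
    (t : F.obj.obj (op Z)) (s' : F.obj.obj (op X')) (hts : F.obj.map π.op t = F.obj.map e.op s') :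
    ∃! s : F.obj.obj (op X), F.obj.map i.op s = t ∧ F.obj.map b.op s = s' := by
  have hb : b.left ≫ X.hom = X'.hom := Over.w b
  have hi : i.left ≫ X.hom = Z.hom := Over.w i
  have hfac : ∀ {W : Over S} (g : W ⟶ X') (a : W ⟶ Z), g ≫ b = a ≫ i → F.obj.map g.op s' = F.obj.map a.op t := by
    intro W g a h
    let m : W ⟶ E := Over.homMk (hsq.lift g.left a.left congr(($h).left))
      (by rw [← Over.w e, ← Category.assoc, hsq.lift_fst]; exact Over.w g)
    have hm₁ : m ≫ e = g := Over.OverMorphism.ext (hsq.lift_fst _ _ _)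
    have hm₂ : m ≫ π = a := Over.OverMorphism.ext (hsq.lift_snd _ _ _)
    rw [← hm₁, ← hm₂, op_comp, op_comp, Functor.map_comp, Functor.map_comp]
    exact congrArg (F.obj.map m.op) hts.symm
  have hsep : ∀ {W : Over S} (g₁ g₂ : W ⟶ X'), g₁ ≫ b = g₂ ≫ b → F.obj.map g₁.op s' = F.obj.map g₂.op s' := by
    intro W g₁ g₂ h
    have h' : g₁.left ≫ b.left = g₂.left ≫ b.left := congr(($h).left)
    let d := pullback.fst (pullback.lift g₁.left g₂.left h') (pullback.diagonal b.left)
    let q := pullback.fst (g₁.left ≫ b.left) i.left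
    let Zf : ULift.{u} Bool → Over S := fun k => bif k.down then Over.mk (d ≫ W.hom) else Over.mk (q ≫ W.hom)
    let gf : ∀ k, Zf k ⟶ W := fun k => match k with
      | ⟨true⟩ => Over.homMk d rfl
      | ⟨false⟩ => Over.homMk q rfl
    haveI : IsClosedImmersion d := MorphismProperty.pullback_fst _ _ inferInstance
    haveI : IsClosedImmersion q := MorphismProperty.pullback_fst _ _ inferInstance
    have hsh := isSheafFor_of_proper_family F Zf gf
      (by
        rintro ⟨_ | _⟩
        · change IsProper q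
          infer_instance
        · change IsProper d
          infer_instance)
      (fun w => by
        by_cases hw : b.left (g₁.left w) ∈ Set.range i.left
        · obtain ⟨z, hz⟩ := hw
          obtain ⟨p, hp, -⟩ := Scheme.Pullback.exists_preimage_pullback (f := g₁.left ≫ b.left) (g := i.left) w z hz.symm
          exact ⟨⟨false⟩, p, hp⟩
        · let k := W.left.fromSpecResidueField w
          have e : k ≫ g₁.left = k ≫ g₂.left := hinj _ _ (by rw [Category.assoc, Category.assoc, h']) fun c => by
            have hc : k c = w := Scheme.fromSpecResidueField_apply w c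
            change b.left (g₁.left (k c)) ∉ _
            exact (congrArg (fun z => b.left (g₁.left z)) hc) ▸ hw
          let m := pullback.lift (f := pullback.lift g₁.left g₂.left h') (g := pullback.diagonal b.left) k (k ≫ g₁.left)
            (pullback.hom_ext (by simp) (by simp [e]))
          refine ⟨⟨true⟩, m (closedPoint (W.left.residueField w)), ?_⟩
          change (m ≫ d) _ = w
          rw [show m ≫ d = k from pullback.lift_fst _ _ _]
          exact Scheme.fromSpecResidueField_apply _ _)
    refine hsh.isSeparatedFor.ext ?_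
    rintro _ _ ⟨k⟩
    rcases k with ⟨_ | _⟩
    · let a₁ : Over.mk (q ≫ W.hom) ⟶ Z := Over.homMk (pullback.snd (g₁.left ≫ b.left) i.left) (by
        change pullback.snd _ _ ≫ Z.hom = q ≫ W.hom
        rw [← hi, ← Category.assoc, ← pullback.condition, Category.assoc, Category.assoc, hb, Over.w g₁])
      let q' : Over.mk (q ≫ W.hom) ⟶ W := Over.homMk q rfl
      change F.obj.map q'.op (F.obj.map g₁.op s') = F.obj.map q'.op (F.obj.map g₂.op s')
      have c₁ : (q' ≫ g₁) ≫ b = a₁ ≫ i := Over.OverMorphism.ext (by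
        change (q ≫ g₁.left) ≫ b.left = pullback.snd _ _ ≫ i.left
        rw [Category.assoc, ← pullback.condition])
      have c₂ : (q' ≫ g₂) ≫ b = a₁ ≫ i := by rw [Category.assoc, ← h, ← Category.assoc, c₁]
      rw [← ConcreteCategory.comp_apply, ← ConcreteCategory.comp_apply, ← Functor.map_comp, ← Functor.map_comp,
        ← op_comp, ← op_comp, hfac _ _ c₁, hfac _ _ c₂]
    · let d' : Over.mk (d ≫ W.hom) ⟶ W := Over.homMk d rfl
      change F.obj.map d'.op (F.obj.map g₁.op s') = F.obj.map d'.op (F.obj.map g₂.op s')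
      have c : d' ≫ g₁ = d' ≫ g₂ := Over.OverMorphism.ext (by
        change d ≫ g₁.left = d ≫ g₂.left
        have hc := pullback.condition (f := pullback.lift g₁.left g₂.left h') (g := pullback.diagonal b.left)
        have h1 := congr($hc ≫ pullback.fst _ _)
        have h2 := congr($hc ≫ pullback.snd _ _)
        simp only [Category.assoc, pullback.lift_fst, pullback.lift_snd, pullback.diagonal_fst, pullback.diagonal_snd,
          Category.comp_id] at h1 h2
        exact h1.trans h2.symm)
      rw [← ConcreteCategory.comp_apply, ← ConcreteCategory.comp_apply, ← Functor.map_comp, ← Functor.map_comp,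
        ← op_comp, ← op_comp, c]
  let Zf : ULift.{u} Bool → Over S := fun k => bif k.down then X' else Z
  let gf : ∀ k, Zf k ⟶ X := fun k => match k with
    | ⟨true⟩ => b
    | ⟨false⟩ => i
  have hsh := isSheafFor_of_proper_family F Zf gf
    (by
        rintro ⟨_ | _⟩
        · change IsProper i.left
          infer_instance
        · change IsProper b.left
          infer_instance)
    (fun x => by
      by_cases hx : x ∈ Set.range i.left
      · obtain ⟨z, hz⟩ := hx
        exact ⟨⟨false⟩, z, hz⟩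
      · obtain ⟨y, hy⟩ := hsurj x hx
        exact ⟨⟨true⟩, y, hy⟩)
  rw [Presieve.isSheafFor_arrows_iff] at hsh
  let xf : ∀ k, F.obj.obj (op (Zf k)) := fun k => match k with
    | ⟨true⟩ => s'
    | ⟨false⟩ => t
  obtain ⟨s, hs, huniq⟩ := hsh xf (by
    rintro ⟨_ | _⟩ ⟨_ | _⟩ W g₁ g₂ h
    · haveI : Mono i := Over.mono_of_mono_left i
      rw [show g₁ = g₂ from (cancel_mono i).mp h]
    · exact (hfac g₂ g₁ h.symm).symm
    · exact hfac g₁ g₂ h
    · exact hsep g₁ g₂ h)
  exact ⟨s, ⟨hs ⟨false⟩, hs ⟨true⟩⟩, fun y hy => huniq y (by rintro ⟨_ | _⟩; exacts [hy.1, hy.2])⟩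


/-- The ideal of a finitely presented closed immersion is of finite type. -/
theorem isFiniteTypeIdeal_ker {W Y : Scheme.{u}} (i : W ⟶ Y) [IsClosedImmersion i]
    [LocallyOfFinitePresentation i] : BlowUp.IsFiniteTypeIdeal i.ker := fun U => by
  have hfp : (i.app U.1).hom.FinitePresentation := by
    rw [Scheme.Hom.app_eq_appLE]
    exact i.finitePresentation_appLE U.2 (U.2.preimage i) le_rfl
  rw [Scheme.Hom.ker_apply]
  letI := (i.app U.1).hom.toAlgebra
  haveI : Algebra.FinitePresentation Γ(Y, U.1) Γ(W, i ⁻¹ᵁ U.1) := hfp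
  exact Algebra.FinitePresentation.ker_fG_of_surjective (Algebra.ofId Γ(Y, U.1) Γ(W, i ⁻¹ᵁ U.1))
    (i.app_surjective U.1 U.2)

theorem existsUnique_glue_blowUp (F : ShPh S) (e : E ⟶ X') (π : E ⟶ Z) (b : X' ⟶ X) (i : Z ⟶ X)
    [IsClosedImmersion i.left] [LocallyOfFinitePresentation i.left]
    (hb : BlowUp.IsBlowUp b.left i.left.ker) (hsq : IsPullback e.left π.left b.left i.left)
    (t : F.obj.obj (op Z)) (s' : F.obj.obj (op X')) (hts : F.obj.map π.op t = F.obj.map e.op s') :
    ∃! s : F.obj.obj (op X), F.obj.map i.op s = t ∧ F.obj.map b.op s = s' := by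
  haveI : IsProper b.left := BlowUpLib.isProper_of_isBlowUp _ hb (isFiniteTypeIdeal_ker i.left)
  have hsupp : ∀ x, x ∈ i.left.ker.support ↔ x ∈ Set.range i.left := fun x => by
    rw [← SetLike.mem_coe, Scheme.Hom.support_ker, i.left.isClosedEmbedding.isClosed_range.closure_eq]
  refine existsUnique_glue F e π b i hsq (fun x hx => ?_) (fun K _ l₁ l₂ hl hav => ?_) t s' hts
  · obtain ⟨l, hl, -⟩ := hb.2 _ (X.left.fromSpecResidueField x) (isEffCartier_comap_of_avoid _ _ fun c => by
      rw [Scheme.fromSpecResidueField_apply, hsupp]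
      exact hx)
    refine ⟨l (closedPoint (X.left.residueField x)), ?_⟩
    change (l ≫ b.left) _ = x
    rw [hl, Scheme.fromSpecResidueField_apply]
  · obtain ⟨m, -, hm⟩ := hb.2 _ (l₁ ≫ b.left) (isEffCartier_comap_of_avoid _ _ fun c => by
      rw [hsupp]
      exact hav c)
    rw [hm l₁ rfl, hm l₂ hl.symm]

end Groth.Agent.HTop83
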