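import Groth.Agent.HTop83.PushInd

/-!
# Degree zero proper base change
-/

set_option autoImplicit false
set_option backward.isDefEq.respectTransparency false
set_option backward.isDefEq.respectTransparency.types false

universe u

noncomputable section

namespace Groth.Agent.HTop83

open CategoryTheory CategoryTheory.Limits AlgebraicGeometry Opposite Groth.Agent.BigSiteLib

variable {X Y Y' X' : Scheme.{u}} (f : X ⟶ Y) [IsProper f] (F : EtCoh.Ab X) {g : Y' ⟶ Y} {g' : X' ⟶ X}
  {f' : X' ⟶ Y'}

theorem isIso_smallComp (hsq : IsPullback g' f' f g) : IsIso (smallComp f F hsq) := by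
  haveI := isIso_theta f F
  unfold smallComp
  infer_instance

/-- The base change map of direct images along a proper morphism is an isomorphism. -/
theorem isIso_baseChange0 (hsq : IsPullback g' f' f g) : IsIso (EtCoh.baseChange0 f g f' g' hsq.w F) := by
  have e : EtCoh.baseChange0 f g f' g' hsq.w F = smallComp f F hsq := by
    refine ((EtCoh.pullPushAdj g).homEquiv _ _).injective ?_
    rw [Adjunction.homEquiv_unit, Adjunction.homEquiv_unit]
    ext1; ext1; funext V
    exact (EtFound.baseChange0_unit f g f' g' hsq.w F V.unop).trans (smallComp_unit f F hsq V.unop).symm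
  rw [e]
  exact isIso_smallComp f F hsq

end Groth.Agent.HTop83
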