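import Groth.Agent.HTop83.PushSec
import Groth.Agent.GeomConn5.Irred
import Groth.Agent.CAlgOdd.GeomIrrField

/-!
# Sections over base changes of a proper scheme form an etale-induced presheaf

Degree zero proper base change: sections over base changes are insensitive to extensions of separably closed
fields and to passing from a strict localisation to its closed point, hence are induced from the small etale site.
-/

set_option autoImplicit false
set_option backward.isDefEq.respectTransparency false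
set_option backward.isDefEq.respectTransparency.types false

universe u

noncomputable section

namespace Groth.Agent.HTop83.PPush

open CategoryTheory CategoryTheory.Limits AlgebraicGeometry Opposite Groth.Agent.BigSiteLib
open Groth.Agent.EtLimCore

open Groth.Agent.EtLC12.StrictStalk (ev)
open Groth.Agent.CdLib.EtaleStrictHens (toX)

variable {P : Scheme.{u}} (F : EtCoh.Ab P) {S : Scheme.{u}} (f : P ⟶ S)

/-- Base changes along open morphisms with geometrically irreducible fibres do not change sections. -/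
theorem map_bijective_of_geomIrred {T T' : Scheme.{u}} (σ : T ⟶ S) (m : T' ⟶ T) [UniversallyOpen m]
    [GeometricallyIrreducible m] :
    Function.Bijective ((pushP F f).map (Over.homMk m : Over.mk (m ≫ σ) ⟶ Over.mk σ).op) := by
  let q : pullback σ f ⟶ P := pullback.snd σ f
  let mm : Over.mk (m ≫ σ) ⟶ Over.mk σ := Over.homMk m
  let mP : pullback (m ≫ σ) f ⟶ pullback σ f := ((Over.pullback f).map mm).left
  have hl1 : mP ≫ pullback.fst σ f = pullback.fst (m ≫ σ) f ≫ m := pullback.lift_fst _ _ _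
  have hl2 : mP ≫ pullback.snd σ f = pullback.snd (m ≫ σ) f := pullback.lift_snd _ _ _
  have hsq : IsPullback mP (pullback.fst (m ≫ σ) f) (pullback.fst σ f) m := by
    refine IsPullback.of_right ?_ hl1 (IsPullback.of_hasPullback σ f).flip
    rw [hl2]
    exact (IsPullback.of_hasPullback (m ≫ σ) f).flip
  haveI : UniversallyOpen mP := MorphismProperty.of_isPullback hsq.flip ‹UniversallyOpen m›
  haveI : GeometricallyIrreducible mP := MorphismProperty.of_isPullback hsq.flip ‹GeometricallyIrreducible m›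
  haveI : IsIso (Over.mk (𝟙 (pullback σ f))).hom := inferInstanceAs (IsIso (𝟙 _))
  have h1 := piP_bijective_of_base F q _
    (piP_map_bijective mP ((EtCoh.pull q).obj F)
      (fun S' g => (Scheme.Hom.isOpenMap _).isQuotientMap (pullback.snd mP g).continuous (pullback.snd mP g).surjective)
      (fun Ω _ _ t => inferInstance) (Over.homMk mP (Category.comp_id mP) : Over.mk mP ⟶ Over.mk (𝟙 (pullback σ f))))
  let eX : (Over.map q).obj (Over.mk (𝟙 _)) ≅ (Over.pullback f).obj (Over.mk σ) :=
    Over.isoMk (Iso.refl (pullback σ f)) rfl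
  let eZ : (Over.map q).obj (Over.mk mP) ≅ (Over.pullback f).obj (Over.mk (m ≫ σ)) :=
    Over.isoMk (Iso.refl _) ((Category.id_comp _).trans hl2.symm)
  have hcomm : eZ.hom ≫ (Over.pullback f).map mm =
      (Over.map q).map (Over.homMk mP (Category.comp_id mP) : Over.mk mP ⟶ Over.mk (𝟙 _)) ≫ eX.hom :=
    Over.OverMorphism.ext ((Category.id_comp _).trans (Category.comp_id _).symm)
  have h3 : (piP F).map eZ.hom.op ∘ (pushP F f).map mm.op =
      (piP F).map ((Over.map q).map (Over.homMk mP (Category.comp_id mP) : Over.mk mP ⟶ Over.mk (𝟙 _))).op ∘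
        (piP F).map eX.hom.op := funext fun x => by
    show (piP F).map eZ.hom.op ((piP F).map ((Over.pullback f).map mm).op x) = _
    rw [Function.comp_apply, EtInd.mapP, EtInd.mapP, hcomm]
  refine (Function.Bijective.of_comp_iff' (((piP F).mapIso eZ.op).toEquiv.bijective) _).1 ?_
  show Function.Bijective ((piP F).map eZ.hom.op ∘ (pushP F f).map mm.op)
  rw [h3]
  exact h1.comp (((piP F).mapIso eX.op).toEquiv.bijective)

/-- Sections over the spectrum of a separably closed field do not change under field extensions. -/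
theorem fieldExt_bijective {k Ω : Type u} [Field k] [IsSepClosed k] [Field Ω] (l : k →+* Ω)
    (ξk : Spec (CommRingCat.of k) ⟶ S) :
    Function.Bijective ((pushP F f).map (Over.homMk (Spec.map (CommRingCat.ofHom l)) :
      Over.mk (Spec.map (CommRingCat.ofHom l) ≫ ξk) ⟶ Over.mk ξk).op) := by
  letI := l.toAlgebra
  haveI : GeometricallyIrreducible (Spec.map (CommRingCat.ofHom l)) :=
    GeomConn5.geometricallyIrreducible_spec_field k Ω (CAlgOdd.GeomIrrField.separable_mem_range k Ω)
  haveI : Subsingleton (Spec (CommRingCat.of k)) := inferInstanceAs (Subsingleton (PrimeSpectrum k))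
  exact map_bijective_of_geomIrred F f ξk _

/-- Base changing the whole situation. -/
def trIso {S' : Scheme.{u}} (g : S' ⟶ S) (W : Over S') :
    (Over.map (pullback.snd g f)).obj ((Over.pullback (pullback.fst g f)).obj W) ≅
      (Over.pullback f).obj ((Over.map g).obj W) :=
  Over.isoMk (pullbackRightPullbackFstIso g f W.hom) (pullbackRightPullbackFstIso_hom_snd g f W.hom)

theorem trIso_naturality {S' : Scheme.{u}} (g : S' ⟶ S) {A B : Over S'} (m : A ⟶ B) :
    (trIso f g A).hom ≫ (Over.pullback f).map ((Over.map g).map m) =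
      (Over.map (pullback.snd g f)).map ((Over.pullback (pullback.fst g f)).map m) ≫ (trIso f g B).hom := by
  apply Over.OverMorphism.ext
  apply pullback.hom_ext <;> simp [trIso]

/-- Transport of sections to the base change. -/
def tr {S' : Scheme.{u}} (g : S' ⟶ S) (W : Over S') (x : (pushP F f).obj (op ((Over.map g).obj W))) :
    (pushP ((EtCoh.pull (pullback.snd g f)).obj F) (pullback.fst g f)).obj (op W) :=
  toBase F _ _ ((piP F).map (trIso f g W).hom.op x)

theorem tr_bijective {S' : Scheme.{u}} (g : S' ⟶ S) (W : Over S') : Function.Bijective (tr F f g W) :=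
  (Function.Bijective.comp ⟨toBase_injective F _ _, toBase_surjective F _ _⟩
    ((piP F).mapIso (trIso f g W).op).toEquiv.bijective)

theorem tr_map {S' : Scheme.{u}} (g : S' ⟶ S) {A B : Over S'} (m : A ⟶ B)
    (x : (pushP F f).obj (op ((Over.map g).obj B))) :
    tr F f g A ((pushP F f).map ((Over.map g).map m).op x) =
      (pushP ((EtCoh.pull (pullback.snd g f)).obj F) (pullback.fst g f)).map m.op (tr F f g B x) := by
  show toBase F _ _ ((piP F).map _ ((piP F).map ((Over.pullback f).map ((Over.map g).map m)).op x)) =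
    (piP _).map _ (toBase F _ _ ((piP F).map _ x))
  rw [EtInd.mapP, trIso_naturality, ← EtInd.mapP]
  exact toBase_map F _ _ _

theorem exists_sepClosure_lift {y : S} {Ω : Type u} [Field Ω] [IsSepClosed Ω]
    (τ : Spec (CommRingCat.of Ω) ⟶ S) (hy : τ default = y) :
    ∃ l : SeparableClosure (S.residueField y) →+* Ω,
      Spec.map (CommRingCat.ofHom l) ≫ CdLib.EtaleStrictHens.ξ y = τ := by
  have hd : τ (IsLocalRing.closedPoint Ω) = y := (congrArg τ (Subsingleton.elim _ _)).trans hy
  subst hd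
  obtain ⟨φ, hφ⟩ : ∃ φ : S.residueField (τ (IsLocalRing.closedPoint Ω)) ⟶ CommRingCat.of Ω,
      Spec.map φ ≫ S.fromSpecResidueField (τ (IsLocalRing.closedPoint Ω)) = τ :=
    ⟨_, Scheme.descResidueField_stalkClosedPointTo_fromSpecResidueField Ω S τ⟩
  letI := φ.hom.toAlgebra
  let L : SeparableClosure (S.residueField (τ (IsLocalRing.closedPoint Ω))) →ₐ[S.residueField (τ (IsLocalRing.closedPoint Ω))] Ω :=
    IsSepClosed.lift
  refine ⟨L.toRingHom, ?_⟩
  refine Eq.trans ?_ hφ
  rw [CdLib.EtaleStrictHens.ξ, ← Category.assoc, ← Spec.map_comp]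
  exact congrArg (fun t => Spec.map t ≫ _) (CommRingCat.hom_ext (RingHom.ext fun a => L.commutes a))

variable [IsProper f]

/-- Sections over a strict localisation agree with sections over any geometric point of its closed point. -/
theorem point_bijective (y : S) {Ω : Type u} [Field Ω] (l : SeparableClosure (S.residueField y) →+* Ω)
    {t : Spec (CommRingCat.of Ω) ⟶ S}
    (m : Over.mk t ⟶ Over.mk (toX (CdLib.EtaleStrictHens.ξ y)))
    (hm : m.left = Spec.map (CommRingCat.ofHom l) ≫ Spec.map (ev (CdLib.EtaleStrictHens.ξ y))) :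
    Function.Bijective ((pushP F f).map m.op) := by
  have ht : t = (Spec.map (CommRingCat.ofHom l) ≫ Spec.map (ev (CdLib.EtaleStrictHens.ξ y))) ≫
      toX (CdLib.EtaleStrictHens.ξ y) := by rw [← hm]; exact (Over.w m).symm
  rw [Category.assoc] at ht
  subst ht
  haveI : HenselianLocalRing (EtBase.etaleLocalRing (CdLib.EtaleStrictHens.ξ y)) := EtLC12.StrictStalk.henselian
  let m1 := (Over.homMk (Spec.map (CommRingCat.ofHom l)) :
    Over.mk (Spec.map (CommRingCat.ofHom l) ≫ Spec.map (ev (CdLib.EtaleStrictHens.ξ y)) ≫ toX (CdLib.EtaleStrictHens.ξ y)) ⟶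
      Over.mk (Spec.map (ev (CdLib.EtaleStrictHens.ξ y)) ≫ toX (CdLib.EtaleStrictHens.ξ y)))
  let m2 := (Over.homMk (Spec.map (ev (CdLib.EtaleStrictHens.ξ y))) :
    Over.mk (Spec.map (ev (CdLib.EtaleStrictHens.ξ y)) ≫ toX (CdLib.EtaleStrictHens.ξ y)) ⟶
      Over.mk (toX (CdLib.EtaleStrictHens.ξ y)))
  have e : m = m1 ≫ m2 := Over.OverMorphism.ext hm
  rw [e]
  have e2 : ⇑((pushP F f).map (m1 ≫ m2).op) = (pushP F f).map m1.op ∘ (pushP F f).map m2.op :=
    funext fun x => (EtInd.mapP _ _ x).symm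
  rw [e2]
  exact (fieldExt_bijective F f l _).comp (closedFibre_bijective F f (EtBase.etaleLocalRing (CdLib.EtaleStrictHens.ξ y))
    (toX (CdLib.EtaleStrictHens.ξ y)) _ (ev (CdLib.EtaleStrictHens.ξ y)).hom (CdLib.EtaleStrictHens.ev_surjective y))

/-- A morphism from a geometric point to the strict localisation at its image. -/
theorem exists_toStrict {Ω : Type u} [Field Ω] [IsSepClosed Ω] (t : Spec (CommRingCat.of Ω) ⟶ S) :
    ∃ m : Over.mk t ⟶ Over.mk (toX (CdLib.EtaleStrictHens.ξ (t default))),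
      Function.Bijective ((pushP F f).map m.op) := by
  obtain ⟨l, hl⟩ := exists_sepClosure_lift t rfl
  refine ⟨Over.homMk (Spec.map (CommRingCat.ofHom l) ≫ Spec.map (ev (CdLib.EtaleStrictHens.ξ (t default)))) ?_,
    point_bijective F f (t default) l _ rfl⟩
  show (_ ≫ _) ≫ toX (CdLib.EtaleStrictHens.ξ (t default)) = t
  rw [Category.assoc, CdLib.EtaleStrictHens.ev_toX]
  exact hl

theorem exists_nhd_top {Ω : Type u} [Field Ω] [IsSepClosed Ω] (t : Spec (CommRingCat.of Ω) ⟶ S)
    (a b : (pushP F f).obj (op (Over.mk (𝟙 S))))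
    (h : (pushP F f).map (Over.homMk t (Category.comp_id t) : Over.mk t ⟶ Over.mk (𝟙 S)).op a =
      (pushP F f).map (Over.homMk t (Category.comp_id t) : Over.mk t ⟶ Over.mk (𝟙 S)).op b) :
    ∃ (V' : Over S) (k : V' ⟶ Over.mk (𝟙 S)) (_ : Over.mk t ⟶ V'), Etale k.left ∧
      (pushP F f).map k.op a = (pushP F f).map k.op b := by
  obtain ⟨m, hm⟩ := exists_toStrict F f t
  let ξ := CdLib.EtaleStrictHens.ξ (t default)
  obtain ⟨i⟩ : Nonempty (AffNbhd ξ) := IsCofiltered.nonempty
  let σ : (locCone ξ).pt ⟶ S := toX ξ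
  let k₀ : (EtFppf.a S).obj ((nbhdObj ξ).obj i) ⟶ Over.mk (𝟙 S) :=
    Over.homMk ((nbhdObj ξ).obj i).hom (Category.comp_id _)
  let s₀ : Over.mk σ ⟶ Over.mk (𝟙 S) := Over.homMk σ (Category.comp_id _)
  have e0 : (Over.homMk t (Category.comp_id t) : Over.mk t ⟶ Over.mk (𝟙 S)) = m ≫ s₀ :=
    Over.OverMorphism.ext (Over.w m).symm
  have e1 : s₀ = toNbhd ξ σ (locCone_hom ξ) i ≫ k₀ := Over.OverMorphism.ext (locCone_hom ξ i).symm
  rw [e0, ← EtInd.mapP, ← EtInd.mapP] at h
  have h' := hm.1 h
  rw [e1, ← EtInd.mapP, ← EtInd.mapP] at h'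
  obtain ⟨j, α, hj⟩ := exists_nbhd_eq F f ξ σ (locCone_hom ξ) (isLimitLocCone ξ) i _ _ h'
  refine ⟨_, (EtFppf.a S).map ((nbhdObj ξ).map α) ≫ k₀, m ≫ toNbhd ξ σ (locCone_hom ξ) j, ?_, ?_⟩
  · have e : ((EtFppf.a S).map ((nbhdObj ξ).map α) ≫ k₀).left = ((nbhdObj ξ).obj j).hom :=
      (Over.w ((EtFppf.a S).map ((nbhdObj ξ).map α)))
    rw [e]
    exact ((nbhdObj ξ).obj j).prop
  · rw [← EtInd.mapP, ← EtInd.mapP]
    exact hj

/-- Sections agreeing at a geometric point agree etale near it. -/
theorem exists_nhd_pt {Ω : Type u} [Field Ω] [IsSepClosed Ω] {V : Over S} (τ : Spec (CommRingCat.of Ω) ⟶ V.left)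
    (a b : (pushP F f).obj (op V))
    (h : (pushP F f).map (Over.homMk τ : Over.mk (τ ≫ V.hom) ⟶ V).op a =
      (pushP F f).map (Over.homMk τ : Over.mk (τ ≫ V.hom) ⟶ V).op b) :
    ∃ (V' : Over S) (k : V' ⟶ V) (v : Spec (CommRingCat.of Ω) ⟶ V'.left), Etale k.left ∧ v ≫ k.left = τ ∧
      (pushP F f).map k.op a = (pushP F f).map k.op b := by
  let g : V.left ⟶ S := V.hom
  let f' : pullback g f ⟶ V.left := pullback.fst g f
  haveI : IsProper f' := MorphismProperty.pullback_fst (P := @IsProper) g f ‹_›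
  let F' := (EtCoh.pull (pullback.snd g f)).obj F
  let eT : (Over.map g).obj (Over.mk (𝟙 V.left)) ⟶ V := Over.homMk (𝟙 V.left) (by
    show 𝟙 _ ≫ V.hom = 𝟙 V.left ≫ g
    rfl)
  let hh : Over.mk τ ⟶ Over.mk (𝟙 V.left) := Over.homMk τ (Category.comp_id τ)
  let a' := tr F f g _ ((pushP F f).map eT.op a)
  let b' := tr F f g _ ((pushP F f).map eT.op b)
  have h' : (pushP F' f').map hh.op a' = (pushP F' f').map hh.op b' := by
    refine ((tr_map F f g hh _).symm.trans (congrArg (tr F f g _) ?_)).trans (tr_map F f g hh _)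
    rw [EtInd.mapP, EtInd.mapP]
    have e : (Over.map g).map hh ≫ eT = (Over.homMk τ : Over.mk (τ ≫ V.hom) ⟶ V) :=
      Over.OverMorphism.ext (Category.comp_id τ)
    rw [e]
    exact h
  obtain ⟨W, k, v, hk, hW⟩ := exists_nhd_top F' f' τ a' b' h'
  refine ⟨(Over.map g).obj W, (Over.map g).map k ≫ eT, v.left, ?_, ?_, ?_⟩
  · rw [show ((Over.map g).map k ≫ eT).left = k.left from Category.comp_id _]
    exact hk
  · rw [show ((Over.map g).map k ≫ eT).left = k.left from Category.comp_id _]
    have hkW : k.left = W.hom := (Category.comp_id _).symm.trans (Over.w k)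
    rw [hkW]
    exact Over.w v
  · rw [← EtInd.mapP, ← EtInd.mapP]
    refine (tr_bijective F f g W).1 ?_
    rw [tr_map, tr_map]
    exact hW

/-- Sections over base changes of a proper scheme form an etale-induced presheaf. -/
theorem etInduced_pushP : EtInd.EtInduced (pushP F f) where
  sheaf := (isSheaf_iff_isSheaf_of_type _ _).1
    ((sheafCompose (QuotSh.J Scheme.etalePrecoverage S) (forget AddCommGrpCat.{u + 1})).obj
      ((BigSite.pushBig Scheme.etalePrecoverage f AddCommGrpCat.{u + 1}).obj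
        ((BigSite.piEtPull Scheme.etalePrecoverage P).obj F))).property
  loc := fun T s z => by
    obtain ⟨Ω, _, _, τ, z₀, hz₀⟩ := exists_geometric_point z
    let t : Spec (CommRingCat.of Ω) ⟶ S := τ ≫ T.hom
    obtain ⟨m, hm⟩ := exists_toStrict F f t
    let ξ := CdLib.EtaleStrictHens.ξ (t default)
    let σ : (locCone ξ).pt ⟶ S := toX ξ
    let pT : Over.mk t ⟶ T := Over.homMk τ
    obtain ⟨x, hx⟩ := hm.2 ((pushP F f).map pT.op s)
    obtain ⟨i, a, rfl⟩ := exists_nbhd_section F f ξ σ (locCone_hom ξ) (isLimitLocCone ξ) x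
    let N := (EtFppf.a S).obj ((nbhdObj ξ).obj i)
    haveI hN : Etale N.hom := ((nbhdObj ξ).obj i).prop
    let W0 : Over S := Over.mk (pullback.fst T.hom N.hom ≫ T.hom)
    let p1 : W0 ⟶ T := Over.homMk (pullback.fst T.hom N.hom) rfl
    let p2 : W0 ⟶ N := Over.homMk (pullback.snd T.hom N.hom) pullback.condition.symm
    let mN : Over.mk t ⟶ N := m ≫ toNbhd ξ σ (locCone_hom ξ) i
    let w0 : Spec (CommRingCat.of Ω) ⟶ W0.left := pullback.lift τ mN.left (Over.w mN).symm
    let hw : Over.mk (w0 ≫ W0.hom) ⟶ W0 := Over.homMk w0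
    let c : Over.mk (w0 ≫ W0.hom) ⟶ Over.mk t := Over.homMk (𝟙 _) (by
      show 𝟙 _ ≫ τ ≫ T.hom = w0 ≫ pullback.fst T.hom N.hom ≫ T.hom
      rw [Category.id_comp, pullback.lift_fst_assoc])
    have hw1 : hw ≫ p1 = c ≫ pT :=
      Over.OverMorphism.ext ((pullback.lift_fst _ _ _).trans (Category.id_comp _).symm)
    have hw2 : hw ≫ p2 = c ≫ mN :=
      Over.OverMorphism.ext ((pullback.lift_snd _ _ _).trans (Category.id_comp _).symm)
    have hagree : (pushP F f).map hw.op ((pushP F f).map p1.op s) =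
        (pushP F f).map hw.op ((pushP F f).map p2.op a) := by
      rw [EtInd.mapP, EtInd.mapP, hw1, hw2, ← EtInd.mapP, ← EtInd.mapP]
      refine congrArg _ (hx.symm.trans ?_)
      exact EtInd.mapP _ _ _
    obtain ⟨V', k, v, hk, hv, hV⟩ := exists_nhd_pt F f w0 _ _ hagree
    refine ⟨N, V', k ≫ p1, k ≫ p2, a, hN, ?_, ⟨v z₀, ?_⟩, ?_⟩
    · have : Etale (pullback.fst T.hom N.hom) := inferInstance
      exact MorphismProperty.comp_mem @Etale k.left p1.left hk this
    · show (k.left ≫ pullback.fst T.hom N.hom) (v z₀) = z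
      rw [← hz₀, ← Scheme.Hom.comp_apply]
      congr 1
      rw [← Category.assoc, hv, pullback.lift_fst]
    · rw [← EtInd.mapP, ← EtInd.mapP]
      exact hV
  locEq := fun {V T} h a b e z => by
    obtain ⟨Ω, _, _, τ, z₀, hz₀⟩ := exists_geometric_point z
    let pT : Over.mk ((τ ≫ h.left) ≫ V.hom) ⟶ T := Over.homMk τ (by
      show τ ≫ T.hom = (τ ≫ h.left) ≫ V.hom
      rw [Category.assoc, Over.w h])
    have hp : (Over.homMk (τ ≫ h.left) : Over.mk ((τ ≫ h.left) ≫ V.hom) ⟶ V) = pT ≫ h :=
      Over.OverMorphism.ext rfl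
    obtain ⟨V', k, v, hk, hv, hV⟩ := exists_nhd_pt F f (τ ≫ h.left) a b (by
      rw [hp, ← EtInd.mapP, ← EtInd.mapP, e])
    refine ⟨V', k, hk, ⟨v z₀, ?_⟩, hV⟩
    rw [← hz₀, ← Scheme.Hom.comp_apply, ← Scheme.Hom.comp_apply, hv]

end Groth.Agent.HTop83.PPush
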