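import Groth.Agent.HTop83.PushFib
import Groth.Agent.BigSiteLib.FinitePush

/-!
# Pullback to the big etale site commutes with direct images along proper morphisms
-/

set_option autoImplicit false
set_option backward.isDefEq.respectTransparency false
set_option backward.isDefEq.respectTransparency.types false

universe v u

noncomputable section

namespace Groth.Agent.HTop83

open CategoryTheory CategoryTheory.Limits AlgebraicGeometry Opposite Groth.Agent.BigSiteLib

/-- A morphism of etale-induced presheaves which is bijective on etale objects is bijective. -/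
theorem etInduced_bijective {X : Scheme.{u}} {P Q : (Over X)ᵒᵖ ⥤ Type v} (hP : EtInd.EtInduced P)
    (hQ : EtInd.EtInduced Q) (φ : P ⟶ Q) (hφ : ∀ V : Over X, Etale V.hom → Function.Bijective (φ.app (op V)))
    (T : Over X) : Function.Bijective (φ.app (op T)) := by
  have nat : ∀ {A B : Over X} (m : A ⟶ B) (x : P.obj (op B)), φ.app (op A) (P.map m.op x) = Q.map m.op (φ.app (op B) x) :=
    fun m x => ConcreteCategory.congr_hom (φ.naturality m.op) x
  have hinj : ∀ T : Over X, Function.Injective (φ.app (op T)) := fun T a b h => by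
    have hloc : ∀ z : T.left, ∃ (W : Over X) (r : W ⟶ T), Etale r.left ∧ z ∈ Set.range r.left ∧
        P.map r.op a = P.map r.op b := fun z => by
      obtain ⟨V1, W1, p1, q1, a1, hV1, hp1, ⟨w1, hw1⟩, ha⟩ := hP.loc T a z
      obtain ⟨V, W, k, p, q, b1, hk, hp, ⟨w, hw⟩, hqk, hb⟩ := EtInd.loc' hP q1 (P.map p1.op b) w1
      have hV : Etale V.hom := by
        rw [← Over.w k]
        exact MorphismProperty.comp_mem @Etale k.left V1.hom hk hV1
      have e1 : P.map (p ≫ p1).op a = P.map q.op (P.map k.op a1) := by
        rw [← EtInd.mapP, ha, EtInd.mapP, EtInd.mapP, hqk]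
      have e2 : P.map (p ≫ p1).op b = P.map q.op b1 := by rw [← EtInd.mapP, hb]
      have e3 : Q.map q.op (φ.app _ (P.map k.op a1)) = Q.map q.op (φ.app _ b1) := by
        rw [← nat q, ← nat q, ← e1, ← e2, nat, nat, h]
      obtain ⟨V', k', hk', ⟨v', hv'⟩, e4⟩ := hQ.locEq q _ _ e3 w
      have hV' : Etale V'.hom := by
        rw [← Over.w k']
        exact MorphismProperty.comp_mem @Etale k'.left V.hom hk' hV
      rw [← nat, ← nat] at e4
      have e5 := (hφ V' hV').1 e4
      haveI := hk'
      let W' : Over X := Over.mk (pullback.fst q.left k'.left ≫ W.hom)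
      let r : W' ⟶ W := Over.homMk (pullback.fst q.left k'.left) rfl
      let q' : W' ⟶ V' := Over.homMk (pullback.snd q.left k'.left) (by
        show _ = pullback.fst q.left k'.left ≫ W.hom
        rw [← Over.w k', ← Over.w q, pullback.condition_assoc])
      have hrq : r ≫ q = q' ≫ k' := Over.OverMorphism.ext pullback.condition
      obtain ⟨w', hw'1, -⟩ := Scheme.Pullback.exists_preimage_pullback (f := q.left) (g := k'.left) w v' hv'.symm
      refine ⟨W', r ≫ p ≫ p1, ?_, ⟨w', ?_⟩, ?_⟩
      · show Etale (pullback.fst q.left k'.left ≫ p.left ≫ p1.left)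
        exact MorphismProperty.comp_mem @Etale _ _ inferInstance (MorphismProperty.comp_mem @Etale _ _ hp hp1)
      · rw [Over.comp_left, Over.comp_left, Scheme.Hom.comp_apply, Scheme.Hom.comp_apply]
        exact ((congrArg _ ((congrArg _ hw'1).trans hw))).trans hw1
      · rw [← EtInd.mapP r (p ≫ p1), ← EtInd.mapP r (p ≫ p1), e1, e2, EtInd.mapP r q, EtInd.mapP r q, hrq,
          ← EtInd.mapP, ← EtInd.mapP, e5]
    choose W r hr hz he using hloc
    exact EtInd.ext_et hP W r hr (fun z => ⟨z, hz z⟩) he
  refine ⟨hinj T, fun s => ?_⟩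
  have hloc : ∀ z : T.left, ∃ (W : Over X) (p : W ⟶ T) (x : P.obj (op W)), Etale p.left ∧ z ∈ Set.range p.left ∧
      φ.app (op W) x = Q.map p.op s := fun z => by
    obtain ⟨V, W, p, q, a', hV, hp, hz, ha⟩ := hQ.loc T s z
    obtain ⟨a, rfl⟩ := (hφ V hV).2 a'
    exact ⟨W, p, P.map q.op a, hp, hz, (nat q a).trans ha.symm⟩
  choose W p x hp hz hx using hloc
  have hs := EtInd.isSheafFor_et hP W p hp (fun z => ⟨z, hz z⟩)
  obtain ⟨t, ht, -⟩ := (Presieve.isSheafFor_arrows_iff _ _).1 hs x fun i j Z gi gj hg => hinj Z (by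
    rw [nat, nat, hx, hx, EtInd.mapP, EtInd.mapP, hg])
  exact ⟨t, EtInd.ext_et hQ W p hp (fun z => ⟨z, hz z⟩) fun i => by rw [← nat, ht, hx]⟩

variable {X Y : Scheme.{u}} (f : X ⟶ Y) (F : EtCoh.Ab X)

/-- The comparison of direct images is an isomorphism for proper morphisms. -/
theorem isIso_theta [IsProper f] : IsIso (theta f F) := by
  haveI := isIso_unit X F
  haveI := isIso_unit Y ((EtCoh.push f).obj F)
  haveI hp : IsIso (pushToRes f F) := by unfold pushToRes; infer_instance
  haveI : IsIso ((BigSite.piEtAdj Scheme.etalePrecoverage Y).unit.app ((EtCoh.push f).obj F) ≫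
      (BigSite.resEt Scheme.etalePrecoverage Y).map (theta f F)) := by rw [unit_theta]; exact hp
  haveI hres : IsIso ((BigSite.resEt Scheme.etalePrecoverage Y).map (theta f F)) :=
    IsIso.of_isIso_comp_left ((BigSite.piEtAdj Scheme.etalePrecoverage Y).unit.app ((EtCoh.push f).obj F)) _
  let φ : piP ((EtCoh.push f).obj F) ⟶ PPush.pushP F f :=
    Functor.whiskerRight (theta f F).hom (forget AddCommGrpCat.{u + 1})
  have hφ : ∀ V : Over Y, Etale V.hom → Function.Bijective (φ.app (op V)) := fun V hV => by
    let V' : Y.Etale := MorphismProperty.Over.mk ⊤ V.hom hV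
    let e : (EtFppf.a Y).obj V' ≅ V := Over.isoMk (Iso.refl _) (Category.id_comp _)
    have h0 : IsIso ((theta f F).hom.app (op ((EtFppf.a Y).obj V'))) :=
      inferInstanceAs (IsIso (((sheafToPresheaf _ _).map ((BigSite.resEt Scheme.etalePrecoverage Y).map (theta f F))).app (op V')))
    have h1 : IsIso (φ.app (op ((EtFppf.a Y).obj V'))) :=
      inferInstanceAs (IsIso ((forget AddCommGrpCat.{u + 1}).map ((theta f F).hom.app (op ((EtFppf.a Y).obj V')))))
    haveI := h1
    haveI : IsIso (φ.app (op V)) := by
      have := φ.naturality e.inv.op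
      rw [show φ.app (op V) = (piP ((EtCoh.push f).obj F)).map e.hom.op ≫ φ.app _ ≫ (PPush.pushP F f).map e.inv.op by
        rw [← φ.naturality, ← Functor.map_comp_assoc, ← op_comp, e.inv_hom_id, op_id, CategoryTheory.Functor.map_id,
          Category.id_comp]]
      infer_instance
    exact (ConcreteCategory.isIso_iff_bijective _).1 inferInstance
  have hall := etInduced_bijective (etInduced_piP _) (PPush.etInduced_pushP F f) φ hφ
  haveI : ∀ W, IsIso ((theta f F).hom.app W) := fun W => (ConcreteCategory.isIso_iff_bijective _).2 (hall W.unop)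
  haveI : IsIso ((sheafToPresheaf _ _).map (theta f F)) := NatIso.isIso_of_isIso_app (theta f F).hom
  exact isIso_of_reflects_iso (theta f F) (sheafToPresheaf _ _)

end Groth.Agent.HTop83
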