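import Groth.Agent.BigSiteLib.ConnDesc
import Groth.Agent.BigSiteLib.PiFpqc
import Groth.Agent.EtLimCore.StalkPush
import Groth.Agent.EtLimCore.StrictHens
import Groth.Agent.S0167

/-!
# Sections of pulled back sheaves over base changes of a proper scheme

Restatements in terms of the pullback to the big etale site: restriction to the closed fibre over a henselian
base, and sections over a strict localisation as a colimit.
-/

set_option autoImplicit false
set_option backward.isDefEq.respectTransparency false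
set_option backward.isDefEq.respectTransparency.types false

universe u

noncomputable section

namespace Groth.Agent.HTop83.PPush

open CategoryTheory CategoryTheory.Limits AlgebraicGeometry Opposite Groth.Agent.BigSiteLib
open Groth.Agent.EtLimCore

variable {P : Scheme.{u}} (F : EtCoh.Ab P)

/-- The comparison between global sections of a pullback and sections over the scheme. -/
def rho {Q : Scheme.{u}} (g : Q ⟶ P) (x : ((EtCoh.pull g).obj F).obj.obj (op (EtCoh.top Q))) :
    (piP F).obj (op (Over.mk g)) :=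
  (piP F).map (Over.homMk (𝟙 Q) (by
    show 𝟙 Q ≫ 𝟙 Q ≫ g = g
    rw [Category.id_comp, Category.id_comp]) :
      Over.mk g ⟶ (Over.map g).obj ((EtFppf.a Q).obj (EtCoh.top Q))).op
    ((resAlongPiPullIso g F).hom.hom.app (op (EtCoh.top Q)) x)

theorem rho_bijective {Q : Scheme.{u}} (g : Q ⟶ P) : Function.Bijective (rho F g) := by
  let e : Over.mk g ≅ (Over.map g).obj ((EtFppf.a Q).obj (EtCoh.top Q)) :=
    Over.isoMk (Iso.refl _) (by
      show 𝟙 Q ≫ 𝟙 Q ≫ g = g
      rw [Category.id_comp, Category.id_comp])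
  exact (((piP F).mapIso e.op).toEquiv.bijective).comp ⟨resAlong_injective F g _, resAlong_surjective F g _⟩

theorem rho_secMap {Q : Scheme.{u}} (g : Q ⟶ P) {V : P.Etale} (m : Q ⟶ V.left) (hm : m ≫ V.hom = g)
    (s : F.obj.obj (op V)) :
    rho F g (secMap g F m hm s) =
      (piP F).map (Over.homMk m hm : Over.mk g ⟶ (EtFppf.a P).obj V).op (etaApp F V s) := by
  have hn : (resAlongPiPullIso g F).hom.hom.app (op (EtCoh.top Q))
      (((EtCoh.pull g).obj F).obj.map (liftTop g m hm).op (((EtCoh.pullPushAdj g).unit.app F).hom.app (op V) s)) =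
      (piP F).map ((Over.map g).map ((EtFppf.a Q).map (liftTop g m hm))).op
        ((resAlongPiPullIso g F).hom.hom.app (op ((EtCoh.bc g).obj V))
          (((EtCoh.pullPushAdj g).unit.app F).hom.app (op V) s)) :=
    ConcreteCategory.congr_hom ((resAlongPiPullIso g F).hom.hom.naturality (liftTop g m hm).op) _
  rw [rho, secMap, ConcreteCategory.comp_apply]
  refine (congrArg _ (hn.trans (congrArg _ (resAlong_unit F g V s)))).trans ?_
  refine (congrArg _ (EtInd.mapP _ _ _)).trans ((EtInd.mapP _ _ _).trans ?_)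
  refine congrArg (fun k => (piP F).map (Quiver.Hom.op k) (etaApp F V s)) (Over.OverMorphism.ext ?_)
  show 𝟙 Q ≫ (liftTop g m hm).left ≫ pullback.fst V.hom g = m
  rw [Category.id_comp]
  exact pullback.lift_fst _ _ _

theorem toBase_surjective {S T : Scheme.{u}} (G : EtCoh.Ab S) (g : T ⟶ S) (A : Over T) :
    Function.Surjective (toBase G g A) := by
  delta toBase
  exact ((ConcreteCategory.isIso_iff_bijective _).1 (isIso_toBaseMor_app G g A)).2

/-- A restriction map which is bijective for the pulled back sheaf is bijective. -/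
theorem piP_bijective_of_base {X : Scheme.{u}} (q : X ⟶ P) {A B : Over X} (m : A ⟶ B)
    (h : Function.Bijective ((piP ((EtCoh.pull q).obj F)).map m.op)) :
    Function.Bijective ((piP F).map ((Over.map q).map m).op) := by
  have e : toBase F q A ∘ (piP F).map ((Over.map q).map m).op =
      (piP ((EtCoh.pull q).obj F)).map m.op ∘ toBase F q B := funext fun x => toBase_map F q m x
  refine (Function.Bijective.of_comp_iff' (f := toBase F q A) ⟨toBase_injective F q A, toBase_surjective F q A⟩ _).1 ?_
  rw [e]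
  exact h.comp ⟨toBase_injective F q B, toBase_surjective F q B⟩

/-- A morphism along which the unit is bijective on global sections gives a bijection of sections. -/
theorem piP_bijective_of_unit {X Z : Scheme.{u}} (g : Z ⟶ X) (G : EtCoh.Ab X)
    (h : Function.Bijective (((EtCoh.pullPushAdj g).unit.app G).hom.app (op (EtCoh.top X)))) :
    Function.Bijective ((piP G).map (Over.homMk g (Category.comp_id g) : Over.mk g ⟶ Over.mk (𝟙 X)).op) := by
  have hη : Function.Bijective (etaApp G (EtCoh.top X)) := by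
    refine ⟨?_, etaApp_surjective G _⟩
    haveI := isIso_unit X G
    exact ((ConcreteCategory.isIso_iff_bijective _).1
      (inferInstanceAs (IsIso (((sheafToPresheaf _ _).map ((BigSite.piEtAdj Scheme.etalePrecoverage X).unit.app G)).app
        (op (EtCoh.top X)))))).1
  have hc : Function.Bijective ((piP G).map (bcProj g (EtCoh.top X)).op) := by
    have h1 : (resAlongPiPullIso g G).hom.hom.app (op ((EtCoh.bc g).obj (EtCoh.top X))) ∘
        ((EtCoh.pullPushAdj g).unit.app G).hom.app (op (EtCoh.top X)) =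
        (piP G).map (bcProj g (EtCoh.top X)).op ∘ etaApp G (EtCoh.top X) :=
      funext fun a => resAlong_unit G g (EtCoh.top X) a
    refine (Function.Bijective.of_comp_iff _ hη).1 ?_
    rw [← h1]
    exact Function.Bijective.comp ⟨resAlong_injective G g _, resAlong_surjective G g _⟩ h
  have hi : IsIso (pullback.snd (𝟙 X) g) :=
    MorphismProperty.pullback_snd (P := MorphismProperty.isomorphisms Scheme.{u}) (𝟙 X) g
      (MorphismProperty.isomorphisms.infer_property _)
  let B := (Over.map g).obj ((EtFppf.a Z).obj ((EtCoh.bc g).obj (EtCoh.top X)))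
  let i : Over.mk g ≅ B := (Over.isoMk (@asIso _ _ _ _ (pullback.snd (𝟙 X) g) hi) rfl : B ≅ Over.mk g).symm
  have e : (Over.homMk g (Category.comp_id g) : Over.mk g ⟶ Over.mk (𝟙 X)) =
      i.hom ≫ bcProj g (EtCoh.top X) := by
    refine Over.OverMorphism.ext ?_
    haveI := hi
    show g = inv (pullback.snd (𝟙 X) g) ≫ pullback.fst (𝟙 X) g
    rw [IsIso.eq_inv_comp, ← pullback.condition]
    exact Category.comp_id _
  have e2 : (piP G).map (i.hom ≫ bcProj g (EtCoh.top X)).op =
      (piP G).map i.hom.op ∘ (piP G).map (bcProj g (EtCoh.top X)).op := funext fun x => (EtInd.mapP _ _ x).symm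
  rw [e]
  exact (congrArg Function.Bijective e2).mpr ((((piP G).mapIso i.op).toEquiv.bijective).comp hc)

variable {S : Scheme.{u}} (f : P ⟶ S)

/-- Sections over base changes. -/
abbrev pushP : (Over S)ᵒᵖ ⥤ Type (u + 1) := (Over.pullback f).op ⋙ piP F

/-- Sections over the base change to a henselian local scheme restrict bijectively to the closed fibre. -/
theorem closedFibre_bijective [IsProper f] (A : Type u) [CommRing A] [HenselianLocalRing A]
    (σ : Spec (CommRingCat.of A) ⟶ S) (K : Type u) [Field K] (φ : A →+* K) (hφ : Function.Surjective φ) :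
    Function.Bijective ((pushP F f).map
      (Over.homMk (Spec.map (CommRingCat.ofHom φ)) :
        Over.mk (Spec.map (CommRingCat.ofHom φ) ≫ σ) ⟶ Over.mk σ).op) := by
  let X := pullback σ f
  let fA : X ⟶ Spec (CommRingCat.of A) := pullback.fst σ f
  let q : X ⟶ P := pullback.snd σ f
  haveI : IsProper fA := MorphismProperty.pullback_fst (P := @IsProper) σ f ‹_›
  have hker : RingHom.ker φ = IsLocalRing.maximalIdeal A :=
    IsLocalRing.eq_maximalIdeal (RingHom.ker_isMaximal_of_surjective φ hφ)
  let e : (A ⧸ IsLocalRing.maximalIdeal A) ≃+* K :=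
    (Ideal.quotEquivOfEq hker.symm).trans (RingHom.quotientKerEquivOfSurjective hφ)
  let m : Spec (CommRingCat.of (A ⧸ IsLocalRing.maximalIdeal A)) ⟶ Spec (CommRingCat.of A) :=
    Spec.map (CommRingCat.ofHom (Ideal.Quotient.mk (IsLocalRing.maximalIdeal A)))
  let c : Spec (CommRingCat.of (A ⧸ IsLocalRing.maximalIdeal A)) ≅ Spec (CommRingCat.of K) :=
    (Scheme.Spec.mapIso e.toCommRingCatIso.op).symm
  have hc : c.hom ≫ Spec.map (CommRingCat.ofHom φ) = m := by
    show Spec.map e.toCommRingCatIso.inv ≫ Spec.map (CommRingCat.ofHom φ) = m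
    rw [← Spec.map_comp]
    refine congrArg Spec.map (CommRingCat.hom_ext (RingHom.ext fun a => ?_))
    exact e.injective ((e.apply_symm_apply (φ a)).trans rfl)
  let Z := pullback fA m
  let i : Z ⟶ X := pullback.fst fA m
  have h1 := piP_bijective_of_base F q (Over.homMk i (Category.comp_id i) : Over.mk i ⟶ Over.mk (𝟙 X))
    (piP_bijective_of_unit i _ (S0167.result A X fA ((EtCoh.pull q).obj F)))
  let mK : Over.mk (Spec.map (CommRingCat.ofHom φ) ≫ σ) ⟶ Over.mk σ := Over.homMk (Spec.map (CommRingCat.ofHom φ))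
  let eX : (Over.map q).obj (Over.mk (𝟙 X)) ≅ (Over.pullback f).obj (Over.mk σ) :=
    Over.isoMk (Iso.refl X) (by
      show 𝟙 X ≫ pullback.snd σ f = 𝟙 X ≫ q
      rfl)
  have hsq : IsPullback (pullback.map (m ≫ σ) f σ f m (𝟙 P) (𝟙 S) (by simp) (by simp))
      (pullback.fst (m ≫ σ) f) fA m := by
    refine IsPullback.of_right ?_ (pullback.lift_fst _ _ _) (IsPullback.of_hasPullback σ f).flip
    rw [pullback.lift_snd, Category.comp_id]
    exact (IsPullback.of_hasPullback (m ≫ σ) f).flip
  let zi : Z ≅ pullback (Spec.map (CommRingCat.ofHom φ) ≫ σ) f :=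
    (hsq.isoPullback).symm ≪≫
      asIso (pullback.map (m ≫ σ) f (Spec.map (CommRingCat.ofHom φ) ≫ σ) f c.hom (𝟙 P) (𝟙 S)
        (by rw [Category.comp_id, ← Category.assoc, hc]) (by simp))
  have hzi : zi.hom ≫ ((Over.pullback f).map mK).left = i := by
    have h2 : pullback.map (m ≫ σ) f (Spec.map (CommRingCat.ofHom φ) ≫ σ) f c.hom (𝟙 P) (𝟙 S)
        (by rw [Category.comp_id, ← Category.assoc, hc]) (by simp) ≫ ((Over.pullback f).map mK).left =
        pullback.map (m ≫ σ) f σ f m (𝟙 P) (𝟙 S) (by simp) (by simp) := by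
      apply pullback.hom_ext <;> simp [mK, hc]
    show (hsq.isoPullback.inv ≫ _) ≫ _ = _
    rw [Category.assoc, Iso.inv_comp_eq]
    exact h2.trans (hsq.isoPullback_hom_fst).symm
  let eZ : (Over.map q).obj (Over.mk i) ≅ (Over.pullback f).obj (Over.mk (Spec.map (CommRingCat.ofHom φ) ≫ σ)) :=
    Over.isoMk zi (by
      show zi.hom ≫ pullback.snd _ f = i ≫ pullback.snd σ f
      rw [← hzi, Category.assoc]
      congr 1
      exact (Over.w ((Over.pullback f).map mK)).symm)
  have hcomm : eZ.hom ≫ (Over.pullback f).map mK =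
      (Over.map q).map (Over.homMk i (Category.comp_id i) : Over.mk i ⟶ Over.mk (𝟙 X)) ≫ eX.hom :=
    Over.OverMorphism.ext (hzi.trans (Category.comp_id _).symm)
  have h3 : (piP F).map eZ.hom.op ∘ (pushP F f).map mK.op =
      (piP F).map ((Over.map q).map (Over.homMk i (Category.comp_id i) : Over.mk i ⟶ Over.mk (𝟙 X))).op ∘
        (piP F).map eX.hom.op := funext fun x => by
    show (piP F).map eZ.hom.op ((piP F).map ((Over.pullback f).map mK).op x) = _
    rw [Function.comp_apply, EtInd.mapP, EtInd.mapP, hcomm]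
  refine (Function.Bijective.of_comp_iff' (((piP F).mapIso eZ.op).toEquiv.bijective) _).1 ?_
  show Function.Bijective ((piP F).map eZ.hom.op ∘ (pushP F f).map mK.op)
  rw [h3]
  exact h1.comp (((piP F).mapIso eX.op).toEquiv.bijective)

section Limit

variable {Ω : Type u} [Field Ω] [IsSepClosed Ω] (ξ : Spec (CommRingCat.of Ω) ⟶ S) {L : Cone (nbhdSch ξ)}
  (σ : L.pt ⟶ S) (hσ : ∀ i, L.π.app i ≫ ((nbhdObj ξ).obj i).hom = σ)

/-- The maps of the strict localisation to the neighbourhoods, over the base. -/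
def toNbhd (i : AffNbhd ξ) : Over.mk σ ⟶ (EtFppf.a S).obj ((nbhdObj ξ).obj i) := Over.homMk (L.π.app i) (hσ i)

theorem pushP_germ (i : AffNbhd ξ) (s : F.obj.obj (op ((EtCoh.bc f).obj ((nbhdObj ξ).obj i)))) :
    (pushP F f).map (toNbhd ξ σ hσ i).op (etaApp F ((EtCoh.bc f).obj ((nbhdObj ξ).obj i)) s) =
      (piP F).map (Over.homMk (pullbackSymmetry σ f).hom (pullbackSymmetry_hom_comp_fst σ f) :
        (Over.pullback f).obj (Over.mk σ) ⟶ Over.mk (pullback.fst f σ)).op
        (rho F (pullback.fst f σ) (θApp f ξ σ hσ F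
          ((stalkCocone ξ ((EtCoh.push f).obj F).obj).ι.app (op i) s))) := by
  have h := ConcreteCategory.congr_hom (θApp_germ f ξ σ hσ F (op i)) s
  rw [ConcreteCategory.comp_apply] at h
  refine Eq.trans ?_ (congrArg (fun z => (piP F).map (Over.homMk (pullbackSymmetry σ f).hom
    (pullbackSymmetry_hom_comp_fst σ f) : (Over.pullback f).obj (Over.mk σ) ⟶ Over.mk (pullback.fst f σ)).op
      (rho F (pullback.fst f σ) z)) h.symm)
  show _ = (piP F).map _ (rho F _ (secMap (pullback.fst f σ) F (V := (EtCoh.bc f).obj ((nbhdObj ξ).obj i))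
    ((bcCone f ξ σ hσ).π.app i) (bcCone_t f ξ σ hσ i) s))
  rw [rho_secMap]
  refine Eq.trans ?_ (EtInd.mapP (P := piP F) _ _ _).symm
  refine congrArg (fun k => (piP F).map (Quiver.Hom.op k) (etaApp F _ s)) (Over.OverMorphism.ext ?_)
  show ((Over.pullback f).map (toNbhd ξ σ hσ i)).left = (pullbackSymmetry σ f).hom ≫ (bcCone f ξ σ hσ).π.app i
  apply pullback.hom_ext
  · simp [toNbhd, bcCone]
    erw [pullback.lift_fst, pullbackSymmetry_hom_comp_snd_assoc]
  · simp [toNbhd, bcCone]
    erw [pullback.lift_snd, pullbackSymmetry_hom_comp_fst]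

include hσ in
/-- Sections over the strict localisation come from a neighbourhood. -/
theorem exists_nbhd_section [QuasiCompact f] [QuasiSeparated f] (hL : IsLimit L)
    (x : (pushP F f).obj (op (Over.mk σ))) :
    ∃ (i : AffNbhd ξ) (a : (pushP F f).obj (op ((EtFppf.a S).obj ((nbhdObj ξ).obj i)))),
      (pushP F f).map (toNbhd ξ σ hσ i).op a = x := by
  let e : (Over.pullback f).obj (Over.mk σ) ≅ Over.mk (pullback.fst f σ) :=
    Over.isoMk (pullbackSymmetry σ f) (pullbackSymmetry_hom_comp_fst σ f)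
  obtain ⟨y, hy⟩ := (((piP F).mapIso e.op).toEquiv.bijective.comp
    ((rho_bijective F (pullback.fst f σ)).comp (θApp_bijective f ξ σ hσ hL F))).2 x
  obtain ⟨⟨i⟩, s, rfl⟩ := Concrete.isColimit_exists_rep _ (isColimitStalkCocone ξ ((EtCoh.push f).obj F).obj) y
  exact ⟨i, etaApp F ((EtCoh.bc f).obj ((nbhdObj ξ).obj i)) s, (pushP_germ F f ξ σ hσ i s).trans hy⟩

include hσ in
/-- Sections over neighbourhoods agreeing on the strict localisation agree on a smaller neighbourhood. -/
theorem exists_nbhd_eq [QuasiCompact f] [QuasiSeparated f] (hL : IsLimit L) (i : AffNbhd ξ)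
    (a b : (pushP F f).obj (op ((EtFppf.a S).obj ((nbhdObj ξ).obj i))))
    (h : (pushP F f).map (toNbhd ξ σ hσ i).op a = (pushP F f).map (toNbhd ξ σ hσ i).op b) :
    ∃ (l : AffNbhd ξ) (α : l ⟶ i), (pushP F f).map ((EtFppf.a S).map ((nbhdObj ξ).map α)).op a =
      (pushP F f).map ((EtFppf.a S).map ((nbhdObj ξ).map α)).op b := by
  let e : (Over.pullback f).obj (Over.mk σ) ≅ Over.mk (pullback.fst f σ) :=
    Over.isoMk (pullbackSymmetry σ f) (pullbackSymmetry_hom_comp_fst σ f)
  obtain ⟨s, rfl⟩ := etaApp_surjective F ((EtCoh.bc f).obj ((nbhdObj ξ).obj i)) a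
  obtain ⟨t, rfl⟩ := etaApp_surjective F ((EtCoh.bc f).obj ((nbhdObj ξ).obj i)) b
  have h' : (pushP F f).map (toNbhd ξ σ hσ i).op (etaApp F ((EtCoh.bc f).obj ((nbhdObj ξ).obj i)) s) =
      (pushP F f).map (toNbhd ξ σ hσ i).op (etaApp F ((EtCoh.bc f).obj ((nbhdObj ξ).obj i)) t) := h
  rw [pushP_germ, pushP_germ] at h'
  have hst := (((piP F).mapIso e.op).toEquiv.bijective.comp
    ((rho_bijective F (pullback.fst f σ)).comp (θApp_bijective f ξ σ hσ hL F))).1 h'
  obtain ⟨k, u, v, huv⟩ := (Concrete.isColimit_rep_eq_iff_exists _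
    (isColimitStalkCocone ξ ((EtCoh.push f).obj F).obj) s t).1 hst
  refine ⟨(IsFiltered.coeq u v).unop, (u ≫ IsFiltered.coeqHom u v).unop, ?_⟩
  let U := (EtCoh.bc f).map ((nbhdObj ξ).map (u ≫ IsFiltered.coeqHom u v).unop)
  have key : F.obj.map U.op s = F.obj.map U.op t := by
    let Φ := (nbhdObj ξ).op ⋙ ((EtCoh.push f).obj F).obj
    show Φ.map (u ≫ IsFiltered.coeqHom u v) s = Φ.map (u ≫ IsFiltered.coeqHom u v) t
    conv_rhs => rw [IsFiltered.coeq_condition]
    rw [Φ.map_comp, Φ.map_comp, ConcreteCategory.comp_apply, ConcreteCategory.comp_apply]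
    exact congrArg _ huv
  have h2 := congrArg (etaApp F _) key
  rw [etaApp_naturality, etaApp_naturality] at h2
  exact h2

end Limit

end Groth.Agent.HTop83.PPush
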