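import Groth.Agent.HTopAwn.PtFun
import Groth.Agent.HTopAwn.PtFunSN
import Groth.Agent.HTopAwn.SchemeProps
import Groth.Agent.HTopCov.Points
import Groth.Agent.S13109
import Groth.Agent.NagataLib.Field
import Groth.Agent.RedNorm.Basic

/-!
Sections on a seminormal scheme of finite type over a field descend along proper surjective morphisms.
-/

set_option backward.isDefEq.respectTransparency false
set_option backward.isDefEq.respectTransparency.types false

universe u

noncomputable section

namespace Groth.Agent.HTop83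

open CategoryTheory CategoryTheory.Limits AlgebraicGeometry IsLocalRing HTop W4c1hilbchowinc Groth.Agent.HTopAwn
open scoped TensorProduct

variable {X Y : Scheme.{u}} (π : Y ⟶ X) (s : Γ(Y, ⊤))

/-- An element with equal images in `L ⊗ L` comes from the base field. -/
theorem mem_range_of_tmul_eq {K L : Type u} [Field K] [Field L] [Algebra K L] (z : L)
    (h : z ⊗ₜ[K] (1 : L) = (1 : L) ⊗ₜ[K] z) : z ∈ (algebraMap K L).range := by
  by_contra hz
  have hmem : z ∉ Submodule.span K ({(1 : L)} : Set L) := fun hm => hz (by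
    obtain ⟨c, rfl⟩ := Submodule.mem_span_singleton.1 hm
    exact ⟨c, Algebra.algebraMap_eq_smul_one c⟩)
  obtain ⟨φ, hφz, hφ1⟩ := Submodule.exists_dual_map_eq_bot_of_notMem hmem inferInstance
  have h1 : φ 1 = 0 := by
    have : φ 1 ∈ (Submodule.span K ({(1 : L)} : Set L)).map φ :=
      Submodule.mem_map_of_mem (Submodule.mem_span_singleton_self 1)
    simpa [hφ1] using this
  have := congrArg (fun t => TensorProduct.lid K L (φ.rTensor L t)) h
  simp [h1] at this
  exact hφz this

/-- The value of a section at a point with values in a field. -/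
def secVal {L : Type u} [CommRing L] (l : Spec (CommRingCat.of L) ⟶ Y) : L :=
  (Scheme.ΓSpecIso (CommRingCat.of L)).hom (l.appTop s)

theorem secVal_comp {L L' : Type u} [CommRing L] [CommRing L'] (j : L →+* L') (l : Spec (CommRingCat.of L) ⟶ Y) :
    secVal s (Spec.map (CommRingCat.ofHom j) ≫ l) = j (secVal s l) :=
  congr($(Scheme.ΓSpecIso_naturality (CommRingCat.ofHom j)) (l.appTop s))

theorem secVal_fromSpecResidueField (y : Y) :
    secVal s (L := Y.residueField y) (Y.fromSpecResidueField y) = Y.Γevaluation y s := by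
  have h : (Y.fromSpecResidueField y).appTop ≫ (Scheme.ΓSpecIso (Y.residueField y)).hom = Y.Γevaluation y := by
    rw [Scheme.fromSpecResidueField, Scheme.Hom.comp_appTop, Category.assoc, Scheme.ΓSpecIso_naturality,
      Scheme.fromSpecStalk_appTop]
    simp
    rfl
  exact congr($h s)

variable (hs : (pullback.fst π π).appTop s = (pullback.snd π π).appTop s)

include hs in
theorem secVal_eq {L : Type u} [CommRing L] (l₁ l₂ : Spec (CommRingCat.of L) ⟶ Y) (h : l₁ ≫ π = l₂ ≫ π) :
    secVal s l₁ = secVal s l₂ := by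
  have h2 : l₂.appTop = (pullback.snd π π).appTop ≫ (pullback.lift l₁ l₂ h).appTop := by
    rw [← Scheme.Hom.comp_appTop, pullback.lift_snd]
  have h1 : l₁.appTop = (pullback.fst π π).appTop ≫ (pullback.lift l₁ l₂ h).appTop := by
    rw [← Scheme.Hom.comp_appTop, pullback.lift_fst]
  unfold secVal
  rw [h1, h2]
  show _ = _
  simp only [CommRingCat.comp_apply, hs]

include hs in
theorem exists_value [Surjective π] (x : X) : ∃ v : X.residueField x,
    ∀ (L : Type u) [Field L] (l : Spec (CommRingCat.of L) ⟶ Y) (χ : X.residueField x →+* L),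
      l ≫ π = Spec.map (CommRingCat.ofHom χ) ≫ X.fromSpecResidueField x → secVal s l = χ v := by
  obtain ⟨y, rfl⟩ := π.surjective x
  let K : Type u := X.residueField (π y)
  let L₀ : Type u := Y.residueField y
  letI : Algebra K L₀ := (π.residueFieldMap y).hom.toAlgebra
  let l₀ : Spec (CommRingCat.of L₀) ⟶ Y := Y.fromSpecResidueField y
  have hl₀ : l₀ ≫ π = Spec.map (CommRingCat.ofHom (algebraMap K L₀)) ≫ X.fromSpecResidueField (π y) :=
    (π.SpecMap_residueFieldMap_fromSpecResidueField y).symm
  have heq : secVal s l₀ ⊗ₜ[K] (1 : L₀) = (1 : L₀) ⊗ₜ[K] secVal s l₀ := by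
    let iL : L₀ →+* L₀ ⊗[K] L₀ := Algebra.TensorProduct.includeLeftRingHom
    let iR : L₀ →+* L₀ ⊗[K] L₀ := Algebra.TensorProduct.includeRight.toRingHom
    have hc : iL.comp (algebraMap K L₀) = iR.comp (algebraMap K L₀) := RingHom.ext fun a => by
      show algebraMap K L₀ a ⊗ₜ[K] (1 : L₀) = (1 : L₀) ⊗ₜ[K] algebraMap K L₀ a
      rw [Algebra.algebraMap_eq_smul_one, TensorProduct.smul_tmul]
    have := secVal_eq π s hs (Spec.map (CommRingCat.ofHom iL) ≫ l₀) (Spec.map (CommRingCat.ofHom iR) ≫ l₀) (by
      simp only [Category.assoc, hl₀, ← Spec.map_comp_assoc, ← CommRingCat.ofHom_comp, hc])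
    rwa [secVal_comp, secVal_comp] at this
  obtain ⟨v, hv⟩ := mem_range_of_tmul_eq _ heq
  refine ⟨v, fun L _ l χ hl => ?_⟩
  letI : Algebra K L := χ.toAlgebra
  haveI : Nontrivial (L₀ ⊗[K] L) :=
    Algebra.TensorProduct.nontrivial_of_algebraMap_injective_of_flat_left K L₀ L (algebraMap K L).injective
  obtain ⟨m, hm⟩ := Ideal.exists_maximal (L₀ ⊗[K] L)
  letI := Ideal.Quotient.field m
  let j₀ : L₀ →+* (L₀ ⊗[K] L) ⧸ m := (Ideal.Quotient.mk m).comp Algebra.TensorProduct.includeLeftRingHom
  let j₁ : L →+* (L₀ ⊗[K] L) ⧸ m := (Ideal.Quotient.mk m).comp Algebra.TensorProduct.includeRight.toRingHom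
  have hj : j₁.comp χ = j₀.comp (algebraMap K L₀) := RingHom.ext fun a => congrArg (Ideal.Quotient.mk m) (by
    show (1 : L₀) ⊗ₜ[K] algebraMap K L a = algebraMap K L₀ a ⊗ₜ[K] (1 : L)
    rw [Algebra.algebraMap_eq_smul_one a, Algebra.algebraMap_eq_smul_one a, TensorProduct.smul_tmul])
  have key := secVal_eq π s hs (Spec.map (CommRingCat.ofHom j₁) ≫ l) (Spec.map (CommRingCat.ofHom j₀) ≫ l₀) (by
    simp only [Category.assoc, hl₀, hl, ← Spec.map_comp_assoc, ← CommRingCat.ofHom_comp]
    exact congrArg (fun φ => Spec.map (CommRingCat.ofHom φ) ≫ X.fromSpecResidueField (π y)) hj)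
  rw [secVal_comp, secVal_comp, ← hv, ← RingHom.comp_apply, ← hj] at key
  exact RingHom.injective j₁ key

/-- The descended pointwise function. -/
def descPtFun [Surjective π] : PtFun X := fun x => (exists_value π s hs x).choose

theorem pullback_descPtFun [Surjective π] :
    PtFun.pullback π (descPtFun π s hs) = PtFun.ofSection Y s := funext fun y => by
  have := (exists_value π s hs (π y)).choose_spec (Y.residueField y) (Y.fromSpecResidueField y)
    (π.residueFieldMap y).hom (π.SpecMap_residueFieldMap_fromSpecResidueField y).symm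
  rw [secVal_fromSpecResidueField] at this
  exact this.symm

/-- A pointwise function which becomes a section on a valuation ring extension of a discrete valuation ring is a
section. -/
theorem isAlgebraic_of_extVal {R : Type u} [CommRing R] [IsDomain R] [IsDiscreteValuationRing R] {W : Type u}
    [CommRing W] [IsDomain W] [ValuationRing W] (φ : R →+* W) (hinj : Function.Injective φ) [IsLocalHom φ]
    (f : PtFun (Spec (CommRingCat.of R))) (hf : (f.pullback (Spec.map (CommRingCat.ofHom φ))).IsAlgebraic) :
    f.IsAlgebraic := by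
  obtain ⟨w, hw⟩ := valAt_varies f φ hf
  let K := FractionRing R
  let M := FractionRing W
  have hinj' : Function.Injective ((algebraMap W M).comp φ) := (IsFractionRing.injective W M).comp hinj
  let j : K →+* M := IsFractionRing.lift (A := R) (g := (algebraMap W M).comp φ) hinj'
  have hj : ∀ r : R, j (algebraMap R K r) = algebraMap W M (φ r) := fun r => IsFractionRing.lift_algebraMap hinj' r
  have hz : j (valAt f (algebraMap R K)) = algebraMap W M w := by
    rw [← valAt_comp, show j.comp (algebraMap R K) = (algebraMap W M).comp φ from RingHom.ext hj]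
    exact hw M (algebraMap W M)
  obtain ⟨z, hzdef⟩ : ∃ z, valAt f (algebraMap R K) = z := ⟨_, rfl⟩
  rw [hzdef] at hz
  obtain ⟨r, hr⟩ : ∃ r, algebraMap R K r = z := by
    rcases ValuationRing.isInteger_or_isInteger R z with ⟨r, hr⟩ | ⟨c, hc⟩
    · exact ⟨r, hr⟩
    · rcases eq_or_ne z 0 with rfl | hz0
      · exact ⟨0, map_zero _⟩
      · have h1 : φ c * w = 1 := by
          apply IsFractionRing.injective W M
          rw [map_mul, map_one, ← hz, ← hj, ← map_mul, hc, inv_mul_cancel₀ hz0, map_one]
        obtain ⟨r, hr⟩ := (isUnit_of_map_unit φ _ (IsUnit.of_mul_eq_one w h1)).exists_right_inv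
        refine ⟨r, ?_⟩
        have h2 : algebraMap R K c * algebraMap R K r = 1 := by rw [← map_mul, hr, map_one]
        rw [hc] at h2
        calc algebraMap R K r = z * (z⁻¹ * algebraMap R K r) := by rw [mul_inv_cancel_left₀ hz0]
          _ = z := by rw [h2, mul_one]
  have hwr : φ r = w := IsFractionRing.injective W M (by rw [← hz, ← hr, hj])
  refine ⟨(Scheme.ΓSpecIso (CommRingCat.of R)).inv r, ofSection_eq f _ fun L _ χ => ?_⟩
  rw [← CommRingCat.comp_apply, Iso.inv_hom_id, CommRingCat.id_apply]
  have hp := RingHom.ker_isPrime χ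
  by_cases hbot : RingHom.ker χ = ⊥
  · have hχ : Function.Injective χ := (RingHom.injective_iff_ker_eq_bot χ).2 hbot
    let e : K →+* L := IsFractionRing.lift hχ
    have he : e.comp (algebraMap R K) = χ := RingHom.ext fun a => IsFractionRing.lift_algebraMap hχ a
    rw [← he, valAt_comp, hzdef, ← hr]
    rfl
  · have hmax : RingHom.ker χ = maximalIdeal R := eq_maximalIdeal (IsPrime.to_maximal_ideal hbot)
    let e : ResidueField R →+* L := Ideal.Quotient.lift _ χ fun a ha => by rwa [← RingHom.mem_ker, hmax]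
    have he : e.comp (residue R) = χ := Ideal.Quotient.lift_comp_mk _ _ _
    have hres : valAt f (residue R) = residue R r := by
      apply RingHom.injective (ResidueField.map φ)
      rw [← valAt_comp, ResidueField.map_comp_residue, hw _ (residue W), ← hwr, ResidueField.map_residue]
    rw [← he, valAt_comp, hres]
    rfl

include hs in
theorem descPtFun_varies [UniversallyClosed π] [Surjective π] : (descPtFun π s hs).VariesAlongCompleteDVR := by
  intro R _ _ _ _ g
  obtain ⟨W, hW, hW', φ, l, hφ, hl⟩ := HTopCov.exists_lift_of_proper π (CommRingCat.of R) g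
  haveI := hφ.2
  refine isAlgebraic_of_extVal φ.hom hφ.1 _ ⟨l.appTop s, ?_⟩
  rw [← pullback_pullback, CommRingCat.ofHom_hom]
  show _ = PtFun.pullback (Spec.map φ ≫ g) _
  rw [← hl, pullback_pullback, pullback_descPtFun, pullback_ofSection]
  rfl

/-- A section of a reduced scheme is determined by its values. -/
theorem section_ext [IsReduced X] {U : X.Opens} {a b : Γ(X, U)}
    (h : ∀ (x : X) (hx : x ∈ U), X.evaluation U x hx a = X.evaluation U x hx b) : a = b := by
  rw [← sub_eq_zero, ← basicOpen_eq_bot_iff, Scheme.basicOpen_eq_bot_iff_forall_evaluation_eq_zero]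
  intro x
  rw [map_sub, h, sub_self]

theorem evaluation_res {U V : X.Opens} (i : V ⟶ U) (x : X) (hx : x ∈ V) (a : Γ(X, U)) :
    X.evaluation V x hx (X.presheaf.map i.op a) = X.evaluation U x (i.le hx) a :=
  congrArg (X.residue x).hom (TopCat.Presheaf.germ_res_apply X.presheaf i x hx a)

theorem exists_section_of_seminormal (f : PtFun X) (hf : f.VariesAlongCompleteDVR) {U : X.Opens}
    (hU : IsAffineOpen U) (hN : IsNoetherianRing Γ(X, U)) (hA : IsSeminormalRing Γ(X, U))
    (hfin : Module.Finite Γ(X, U) (integralClosure Γ(X, U) (FractionRing Γ(X, U)))) :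
    ∃ t : Γ(X, U), ∀ (x : X) (hx : x ∈ U), X.evaluation U x hx t = f x := by
  haveI := hN
  obtain ⟨a, ha, -⟩ := Groth.Agent.S13109.result Γ(X, U) hA hfin (PtFun.pullback hU.fromSpec f)
    fun R _ _ _ _ g => by
      rw [← pullback_pullback]
      exact hf R _
  refine ⟨(Scheme.ΓSpecIso Γ(X, U)).hom a, fun x hx => ?_⟩
  obtain ⟨p, rfl⟩ : x ∈ Set.range hU.fromSpec := hU.range_fromSpec.symm ▸ hx
  apply RingHom.injective (hU.fromSpec.residueFieldMap p).hom
  change hU.fromSpec.residueFieldMap p (X.evaluation U _ hx _) = hU.fromSpec.residueFieldMap p (f _)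
  rw [Scheme.evaluation_naturality_apply, hU.fromSpec_app_self, CommRingCat.comp_apply, evaluation_res,
    ← CommRingCat.comp_apply (Scheme.ΓSpecIso Γ(X, U)).hom, Iso.hom_inv_id, CommRingCat.id_apply]
  exact congrFun ha p

include hs in
theorem existsUnique_descend_section {k : Type u} [Field k] (sX : X ⟶ Spec (CommRingCat.of k))
    [LocallyOfFiniteType sX] (hX : IsSeminormal X) [UniversallyClosed π] [Surjective π] [IsReduced Y] :
    ∃! t : Γ(X, ⊤), π.appTop t = s := by
  haveI := isReduced_of_isSeminormal hX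
  let f := descPtFun π s hs
  have hf := descPtFun_varies π s hs
  have hloc : ∀ x : X, ∃ (U : X.affineOpens) (t : Γ(X, U)), x ∈ (U : X.Opens) ∧
      ∀ (z : X) (hz : z ∈ (U : X.Opens)), X.evaluation U z hz t = f z := fun x => by
    obtain ⟨U, hxU, hU⟩ := hX x
    have hφ : ((Scheme.ΓSpecIso (CommRingCat.of k)).inv ≫ sX.appLE ⊤ U (by simp)).hom.FiniteType :=
      (sX.finiteType_appLE (isAffineOpen_top _) U.2 (by simp)).comp (RingHom.FiniteType.of_surjective _
        (Scheme.ΓSpecIso (CommRingCat.of k)).commRingCatIsoToRingEquiv.symm.surjective)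
    letI := ((Scheme.ΓSpecIso (CommRingCat.of k)).inv ≫ sX.appLE ⊤ U (by simp)).hom.toAlgebra
    haveI : Algebra.FiniteType k Γ(X, U) := hφ
    obtain ⟨hN, hN2⟩ := NagataLib.isNagata_of_finiteType k Γ(X, U)
    haveI := hN
    have hfin := RedNorm.finite_norm Γ(X, U) fun p => hN2 p.1 (FractionRing (Γ(X, U) ⧸ p.1)) inferInstance
    obtain ⟨t, ht⟩ := exists_section_of_seminormal f hf U.2 hN hU hfin
    exact ⟨U, t, hxU, ht⟩
  choose U t hxU ht using hloc
  obtain ⟨g, hg, -⟩ := X.sheaf.existsUnique_gluing' (fun x => (U x : X.Opens)) ⊤ (fun x => homOfLE le_top)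
    (fun x _ => TopologicalSpace.Opens.mem_iSup.2 ⟨x, hxU x⟩) t fun i j => section_ext fun z hz => by
      show X.evaluation _ z hz (X.presheaf.map _ (t i)) = X.evaluation _ z hz (X.presheaf.map _ (t j))
      rw [evaluation_res, evaluation_res, ht, ht]
  have hgv : ∀ x, X.Γevaluation x g = f x := fun x => by
    rw [← ht x x (hxU x), ← hg x]
    exact (evaluation_res (homOfLE le_top) x (hxU x) g).symm
  refine ⟨g, section_ext fun y _ => ?_, fun b hb => section_ext fun x _ => ?_⟩
  · change Y.Γevaluation y (π.appTop g) = Y.Γevaluation y s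
    rw [← Scheme.Γevaluation_naturality_apply, hgv]
    exact congrFun (pullback_descPtFun π s hs) y
  · change X.Γevaluation x b = X.Γevaluation x g
    obtain ⟨y, rfl⟩ := π.surjective x
    apply RingHom.injective (π.residueFieldMap y).hom
    change π.residueFieldMap y _ = π.residueFieldMap y _
    rw [Scheme.Γevaluation_naturality_apply, hb, hgv]
    exact (congrFun (pullback_descPtFun π s hs) y).symm

end Groth.Agent.HTop83
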