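import Groth.Agent.HTop83.Noeth
import Groth.Agent.S1454
import Mathlib.AlgebraicGeometry.Morphisms.UniversallyOpen

/-!
Dominant quasi-finite morphisms to geometrically unibranch schemes, and open coverings are submersive.
-/

set_option backward.isDefEq.respectTransparency false
set_option backward.isDefEq.respectTransparency.types false

universe u

namespace Groth.Agent.HTop83

open CategoryTheory CategoryTheory.Limits AlgebraicGeometry

variable {X U : Scheme.{u}}

theorem universallyOpen_of_isDominant [IsNoetherian X] [IrreducibleSpace X] [IrreducibleSpace U]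
    (hX : ∀ x : X, CAlg2.IsGeomUnibranch (X.presheaf.stalk x)) (f : U ⟶ X) [LocallyQuasiFinite f]
    [LocallyOfFiniteType f] [IsDominant f] : UniversallyOpen f := by
  refine Groth.Agent.S1454.result f hX fun Z hZ z hz => ⟨Set.univ, ?_, ?_⟩
  · rw [irreducibleComponents_eq_singleton]
    exact rfl
  · rw [irreducibleComponents_eq_singleton, Set.mem_singleton_iff] at hZ
    subst hZ
    have hr : closure (Set.range f) = Set.univ := f.denseRange.closure_range
    refine Set.eq_univ_of_univ_subset (hr ▸ closure_minimal ?_ isClosed_closure)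
    rintro _ ⟨u, rfl⟩
    have hzu : z ⤳ u := hz.specializes (Set.mem_univ u)
    exact specializes_iff_mem_closure.mp (hzu.map f.continuous)

theorem univSubmersive_of_universallyOpen {ι : Type u} {Y : ι → Scheme.{u}} (g : ∀ i, Y i ⟶ X)
    (hg : ∀ i, UniversallyOpen (g i)) (hs : ∀ x : X, ∃ i y, g i y = x) :
    SGA1.UnivSubmersive (Sigma.desc g) := by
  haveI : UniversallyOpen (Sigma.desc g) := IsZariskiLocalAtSource.sigmaDesc (P := @UniversallyOpen) hg
  haveI : Surjective (Sigma.desc g) := by
    refine ⟨fun x => ?_⟩
    obtain ⟨i, y, hy⟩ := hs x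
    exact ⟨Sigma.ι Y i y, by rw [← Scheme.Hom.comp_apply, Sigma.ι_desc, hy]⟩
  intro P S' t b p hsq
  haveI : UniversallyOpen p := MorphismProperty.of_isPullback (P := @UniversallyOpen) hsq.flip ‹_›
  haveI : Surjective p := MorphismProperty.of_isPullback (P := @Surjective) hsq.flip ‹_›
  exact p.isOpenMap.isQuotientMap p.continuous p.surjective

end Groth.Agent.HTop83
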