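import Groth.Agent.HTop83.VSheafOver
import Groth.Agent.HTop83.FPLimit
import Groth.Agent.HTop83.LimV

/-!
A limit preserving sheaf for the h coverings is a sheaf for the V coverings.
-/

set_option backward.isDefEq.respectTransparency false
set_option backward.isDefEq.respectTransparency.types false

universe w u

noncomputable section

namespace Groth.Agent.HTop83

open CategoryTheory CategoryTheory.Limits AlgebraicGeometry HTop Opposite Groth.Agent.HTopCov

section SelfProduct

variable {Y : Scheme.{u}} {I : Type u} [SmallCategory I] (D : I ⥤ Over Y) (c : Cone D)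

/-- The system of self products over `Y`, as schemes over `Y`. -/
def sqDiag : I ⥤ Over Y where
  obj i := Over.mk (pullback.fst (D.obj i).hom (D.obj i).hom ≫ (D.obj i).hom)
  map {i j} a := Over.homMk (pullback.map _ _ _ _ (D.map a).left (D.map a).left (𝟙 Y) (by simp) (by simp)) (by simp)
  map_id i := Over.OverMorphism.ext (pullback.hom_ext (by simp) (by simp))
  map_comp a b := Over.OverMorphism.ext (pullback.hom_ext (by simp) (by simp))

/-- Its cone. -/
def sqCone : Cone (sqDiag D) where
  pt := Over.mk (pullback.fst c.pt.hom c.pt.hom ≫ c.pt.hom)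
  π :=
    { app := fun i => Over.homMk (pullback.map _ _ _ _ (c.π.app i).left (c.π.app i).left (𝟙 Y) (by simp) (by simp))
        (by show pullback.map _ _ _ _ _ _ _ _ _ ≫ pullback.fst _ _ ≫ (D.obj i).hom = _; simp)
      naturality := fun i j a => Over.OverMorphism.ext (pullback.hom_ext
        (by
          have h := congrArg (fun k => k.left) (c.w a)
          simp only [Over.comp_left] at h
          simp [sqDiag, Over.comp_left, h]) (by
          have h := congrArg (fun k => k.left) (c.w a)
          simp only [Over.comp_left] at h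
          simp [sqDiag, Over.comp_left, h])) }

/-- The self product of the limit is the limit of the self products. -/
def isLimitSqCone [IsCofiltered I] (hc : IsLimit ((Over.forget Y).mapCone c)) :
    IsLimit ((Over.forget Y).mapCone (sqCone D c)) :=
  let cfst : Cone (sqDiag D ⋙ Over.forget Y) → Cone (D ⋙ Over.forget Y) := fun s =>
    { pt := s.pt
      π := { app := fun i => s.π.app i ≫ pullback.fst (D.obj i).hom (D.obj i).hom
             naturality := fun i j a => by
               have := s.w a
               simp only [Functor.const_obj_map, Category.id_comp]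
               rw [← this]
               simp [sqDiag] } }
  let csnd : Cone (sqDiag D ⋙ Over.forget Y) → Cone (D ⋙ Over.forget Y) := fun s =>
    { pt := s.pt
      π := { app := fun i => s.π.app i ≫ pullback.snd (D.obj i).hom (D.obj i).hom
             naturality := fun i j a => by
               have := s.w a
               simp only [Functor.const_obj_map, Category.id_comp]
               rw [← this]
               simp [sqDiag] } }
  { lift := fun s => pullback.lift (hc.lift (cfst s)) (hc.lift (csnd s)) (by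
      obtain ⟨i⟩ := IsCofiltered.nonempty (C := I)
      have h1 : hc.lift (cfst s) ≫ (c.π.app i).left = (cfst s).π.app i := hc.fac (cfst s) i
      have h2 : hc.lift (csnd s) ≫ (c.π.app i).left = (csnd s).π.app i := hc.fac (csnd s) i
      rw [show c.pt.hom = (c.π.app i).left ≫ (D.obj i).hom from (Over.w (c.π.app i)).symm, ← Category.assoc,
        ← Category.assoc]
      erw [h1, h2]
      show (s.π.app i ≫ pullback.fst _ _) ≫ _ = (s.π.app i ≫ pullback.snd _ _) ≫ _
      rw [Category.assoc, Category.assoc, pullback.condition])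
    fac := fun s i => by
      refine pullback.hom_ext ?_ ?_
      · have h1 := hc.fac (cfst s) i
        simpa [sqCone, sqDiag, cfst] using h1
      · have h2 := hc.fac (csnd s) i
        simpa [sqCone, sqDiag, csnd] using h2
    uniq := fun s m hm => by
      refine pullback.hom_ext ?_ ?_
      · rw [pullback.lift_fst]
        refine hc.uniq (cfst s) _ fun i => ?_
        show (m ≫ pullback.fst _ _) ≫ (c.π.app i).left = s.π.app i ≫ pullback.fst _ _
        rw [← hm i]
        simp [sqCone]
      · rw [pullback.lift_snd]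
        refine hc.uniq (csnd s) _ fun i => ?_
        show (m ≫ pullback.snd _ _) ≫ (c.π.app i).left = s.π.app i ≫ pullback.snd _ _
        rw [← hm i]
        simp [sqCone] }

end SelfProduct

variable {S : Scheme.{u}} (F : (Over S)ᵒᵖ ⥤ Type w)

theorem isVSheafOver_of_limitPreserving (h1 : IsHSheafOver S F)
    (h2 : ∀ (I : Type u) [SmallCategory I] [IsCofiltered I] (D : I ⥤ Over S),
      (∀ i, IsAffine (D.obj i).left) → ∀ (c : Cone D), IsLimit ((Over.forget S).mapCone c) →
        Nonempty (IsColimit (F.mapCocone c.op))) :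
    IsVSheafOver S F := by
  refine isVSheafOver_of_singleton h1 fun W V _ _ f hf => ?_
  obtain ⟨I, _, _, D, c, hc, e, haff, hfp⟩ := exists_fp_limit f.left
  haveI := haff
  have hV : IsStandardV (PreZeroHypercover.singleton.{u} c.pt.hom) :=
    ⟨inferInstance, inferInstanceAs (Finite PUnit), fun _ => by
      haveI : IsIso ((Over.forget W.left).map e.hom) := inferInstance
      haveI : IsAffine ((Over.forget W.left).obj (Over.mk f.left)) := inferInstanceAs (IsAffine V.left)
      exact IsAffine.of_isIso ((Over.forget W.left).map e.hom), fun U _ _ g => by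
      obtain ⟨U', h₁, h₂, φ, hφ, j₀, l, hl⟩ := hf.lift U g
      refine ⟨U', h₁, h₂, φ, hφ, PUnit.unit, (show Spec U' ⟶ V.left from l) ≫ e.inv.left, ?_⟩
      show ((show Spec U' ⟶ V.left from l) ≫ e.inv.left) ≫ c.pt.hom = _
      rw [Category.assoc, show e.inv.left ≫ c.pt.hom = f.left from Over.w e.inv]
      exact hl⟩
  have hstage : ∀ i, IsHCover (PreZeroHypercover.singleton.{u} (D.obj i).hom) := fun i =>
    ⟨fun _ => hfp i, isVCover_of_standardV ((isStandardV_of_isLimit_iff D c hc).mp hV i)⟩
  let M := Over.map W.hom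
  let mk (Z : Over W.left) : M.obj Z ⟶ W := Over.homMk Z.hom
  have hmk : ∀ {Z Z' : Over W.left} (a : Z ⟶ Z'), M.map a ≫ mk Z' = mk Z := fun a => Over.OverMorphism.ext (Over.w a)
  have hsheaf : ∀ i, Presieve.IsSheafFor F (Presieve.singleton (mk (D.obj i))) := fun i => by
    refine h1 _ ?_
    rw [Presieve.map_singleton]
    have := (presieve₀_mem_hPrecoverage_iff (PreZeroHypercover.singleton.{u} (D.obj i).hom)).mpr (hstage i)
    rwa [PreZeroHypercover.presieve₀_singleton] at this
  obtain ⟨hcol⟩ := h2 I (D ⋙ M) (fun i => inferInstanceAs (IsAffine (D.obj i).left)) (M.mapCone c) hc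
  obtain ⟨hcol₂⟩ := h2 I (sqDiag D ⋙ M)
    (fun i => inferInstanceAs (IsAffine (pullback (D.obj i).hom (D.obj i).hom))) (M.mapCone (sqCone D c))
    (isLimitSqCone D c hc)
  -- `V` is the limit
  let q : M.obj c.pt ⟶ V := Over.homMk e.hom.left (by
    show e.hom.left ≫ V.hom = c.pt.hom ≫ W.hom
    rw [← Over.w f, ← Category.assoc]
    exact congrArg (· ≫ W.hom) (Over.w e.hom))
  let q' : V ⟶ M.obj c.pt := Over.homMk e.inv.left (by
    show e.inv.left ≫ c.pt.hom ≫ W.hom = V.hom
    rw [← Category.assoc, show e.inv.left ≫ c.pt.hom = f.left from Over.w e.inv]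
    exact Over.w f)
  have hqq : q' ≫ q = 𝟙 V := Over.OverMorphism.ext (by
    show e.inv.left ≫ e.hom.left = 𝟙 _
    rw [← Over.comp_left, Iso.inv_hom_id]
    rfl)
  have hqq' : q ≫ q' = 𝟙 _ := Over.OverMorphism.ext (by
    show e.hom.left ≫ e.inv.left = 𝟙 _
    rw [← Over.comp_left, Iso.hom_inv_id]
    rfl)
  have hqf : q ≫ f = mk c.pt := Over.OverMorphism.ext (Over.w e.hom)
  rw [Presieve.isSheafFor_singleton]
  intro x hx
  let x' := F.map q.op x
  obtain ⟨⟨i⟩, xi, hxi⟩ := Types.jointly_surjective_of_isColimit hcol x'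
  -- compatibility at a finite stage
  let p₁ (i : I) : (sqDiag D ⋙ M).obj i ⟶ (D ⋙ M).obj i := M.map (Over.homMk (pullback.fst _ _) :
    (sqDiag D).obj i ⟶ D.obj i)
  let p₂ (i : I) : (sqDiag D ⋙ M).obj i ⟶ (D ⋙ M).obj i := M.map (Over.homMk (pullback.snd _ _) (by
    show pullback.snd _ _ ≫ (D.obj i).hom = pullback.fst _ _ ≫ (D.obj i).hom
    rw [pullback.condition]) : (sqDiag D).obj i ⟶ D.obj i)
  let P₁ : (M.mapCone (sqCone D c)).pt ⟶ (M.mapCone c).pt := M.map (Over.homMk (pullback.fst _ _) :
    (sqCone D c).pt ⟶ c.pt)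
  let P₂ : (M.mapCone (sqCone D c)).pt ⟶ (M.mapCone c).pt := M.map (Over.homMk (pullback.snd _ _) (by
    show pullback.snd _ _ ≫ c.pt.hom = pullback.fst _ _ ≫ c.pt.hom
    rw [pullback.condition]) : (sqCone D c).pt ⟶ c.pt)
  have hP₁ : (M.mapCone (sqCone D c)).π.app i ≫ p₁ i = P₁ ≫ (M.mapCone c).π.app i :=
    Over.OverMorphism.ext (pullback.lift_fst _ _ _)
  have hP₂ : (M.mapCone (sqCone D c)).π.app i ≫ p₂ i = P₂ ≫ (M.mapCone c).π.app i :=
    Over.OverMorphism.ext (pullback.lift_snd _ _ _)
  have heq : F.map P₁.op x' = F.map P₂.op x' := by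
    have := hx (P₁ ≫ q) (P₂ ≫ q) (by
      rw [Category.assoc, Category.assoc, hqf]
      exact Over.OverMorphism.ext pullback.condition)
    rw [op_comp, op_comp, Functor.map_comp_apply, Functor.map_comp_apply] at this
    exact this
  have hcolim : (F.mapCocone (M.mapCone (sqCone D c)).op).ι.app (op i) (F.map (p₁ i).op xi) =
      (F.mapCocone (M.mapCone (sqCone D c)).op).ι.app (op i) (F.map (p₂ i).op xi) := by
    show F.map ((M.mapCone (sqCone D c)).π.app i).op (F.map (p₁ i).op xi) =
      F.map ((M.mapCone (sqCone D c)).π.app i).op (F.map (p₂ i).op xi)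
    rw [← Functor.map_comp_apply, ← Functor.map_comp_apply, ← op_comp, ← op_comp, hP₁, hP₂, op_comp, op_comp,
      Functor.map_comp_apply, Functor.map_comp_apply]
    have hxi' : F.map ((M.mapCone c).π.app i).op xi = x' := hxi
    exact (congrArg (F.map P₁.op) hxi').trans (heq.trans (congrArg (F.map P₂.op) hxi'.symm))
  obtain ⟨j, a, ha⟩ := (Types.FilteredColimit.isColimit_eq_iff' hcol₂ _ _).mp hcolim
  obtain ⟨j, rfl⟩ : ∃ j', op j' = j := ⟨j.unop, rfl⟩
  let a' : j ⟶ i := a.unop
  let xj : F.obj (op (M.obj (D.obj j))) := F.map (M.map (D.map a')).op xi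
  have hxj : F.map ((M.mapCone c).π.app j).op xj = x' := by
    refine Eq.trans ?_ hxi
    show F.map ((M.mapCone c).π.app j).op (F.map (M.map (D.map a')).op xi) = F.map ((M.mapCone c).π.app i).op xi
    refine (Functor.map_comp_apply F _ _ _).symm.trans ?_
    rw [← op_comp]
    exact congrArg (fun k => F.map k.op xi) ((M.mapCone c).w a')
  obtain ⟨y, hy, -⟩ := Presieve.isSheafFor_singleton.mp (hsheaf j) xj fun {Z} r₁ r₂ hr => by
    let m : Z ⟶ (sqDiag D ⋙ M).obj j := Over.homMk (pullback.lift r₁.left r₂.left congr(($hr).left)) (by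
      show pullback.lift _ _ _ ≫ (pullback.fst _ _ ≫ (D.obj j).hom) ≫ W.hom = Z.hom
      rw [Category.assoc, pullback.lift_fst_assoc]
      exact Over.w r₁)
    have hm₁ : m ≫ (sqDiag D ⋙ M).map a' ≫ p₁ i = r₁ ≫ M.map (D.map a') := Over.OverMorphism.ext (by
      simp [m, p₁, M, sqDiag])
    have hm₂ : m ≫ (sqDiag D ⋙ M).map a' ≫ p₂ i = r₂ ≫ M.map (D.map a') := Over.OverMorphism.ext (by
      simp [m, p₂, M, sqDiag])
    have ha' : F.map ((sqDiag D ⋙ M).map a').op (F.map (p₁ i).op xi) =
        F.map ((sqDiag D ⋙ M).map a').op (F.map (p₂ i).op xi) := ha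
    show F.map r₁.op (F.map (M.map (D.map a')).op xi) = F.map r₂.op (F.map (M.map (D.map a')).op xi)
    rw [← Functor.map_comp_apply, ← Functor.map_comp_apply, ← op_comp, ← op_comp, ← hm₁, ← hm₂, op_comp, op_comp,
      Functor.map_comp_apply, Functor.map_comp_apply, op_comp, op_comp, Functor.map_comp_apply,
      Functor.map_comp_apply]
    exact congrArg (F.map m.op) ha'
  have hfy : ∀ z : F.obj (op W), F.map f.op z = F.map q'.op (F.map (mk c.pt).op z) := fun z => by
    rw [← Functor.map_comp_apply, ← op_comp, ← hqf, ← Category.assoc, hqq, Category.id_comp]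
  refine ⟨y, ?_, fun z hz => ?_⟩
  · show F.map f.op y = x
    rw [hfy, show mk c.pt = M.map (c.π.app j) ≫ mk (D.obj j) from (hmk _).symm, op_comp, Functor.map_comp_apply, hy]
    show F.map q'.op (F.map ((M.mapCone c).π.app j).op xj) = x
    rw [hxj, ← Functor.map_comp_apply, ← op_comp, hqq, op_id, Functor.map_id_apply]
  · -- uniqueness
    have hz' : F.map ((M.mapCone c).π.app j).op (F.map (mk (D.obj j)).op z) =
        F.map ((M.mapCone c).π.app j).op xj := by
      rw [hxj]
      refine (Functor.map_comp_apply F _ _ _).symm.trans ?_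
      rw [← op_comp]
      show F.map (M.map (c.π.app j) ≫ mk (D.obj j)).op z = F.map q.op x
      rw [hmk]
      show F.map (mk c.pt).op z = F.map q.op x
      rw [← hqf, op_comp, Functor.map_comp_apply, show F.map f.op z = x from hz]
    obtain ⟨k, b, hb⟩ := (Types.FilteredColimit.isColimit_eq_iff' hcol _ _).mp hz'
    obtain ⟨k, rfl⟩ : ∃ k', op k' = k := ⟨k.unop, rfl⟩
    refine (hsheaf k).isSeparatedFor.ext ?_
    intro W₀ g₀ hg₀
    cases hg₀
    have hb' : F.map (M.map (D.map b.unop)).op (F.map (mk (D.obj j)).op z) =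
        F.map (M.map (D.map b.unop)).op xj := hb
    rw [← hy, ← Functor.map_comp_apply, ← Functor.map_comp_apply, ← op_comp, hmk] at hb'
    exact hb'

end Groth.Agent.HTop83
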